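import Cfsg.Agent.Bt.Defs

set_option autoImplicit false
set_option maxRecDepth 1000000
set_option maxHeartbeats 0
set_option Elab.async false

namespace CF.Dce.Ly
open CF.Comp

open CF.Bt
noncomputable def Bt_1 : Tr := (.focus 1 (.base (nat_lit 0x2200300586700a610191b80250012280002c0a8026204400730100003c0202092cc908007021c609c10130a5d023c18d8000c25701000439d357000008042000928080804090009c42008216004004000100c40001048c0b000c429c16db440000000a84112848012203ab4e108480000808000600096090009000fa1913208000094100dc19aa03600601ec2200101108c0000008080004028da8800000000000000a0000098cc000000682850000000200000002001400e814040100000010222600000000400226400c5b8c200600499000007644022c1321d800b5de0982df480010388004f880240007810b1000000010902000424000084000c4004000002400008114d1808c0081900014920000608800092d044c0890851a92000006a202a26568405005c0a800080200000000000008a004001b1188000002415831b004c1001c4102080000000000100124000000000a0000d1000058b000000004100400410000080000c0000004661bc40434046618cc08f8a1d8088130006240000010000200000000000800003622201880c020000c866602d01191990201260008000001000c4024661003020000010000818005800100000001011986330e108e100000000000184c040466319802000041800000431002333220000988cc00801070233010c24)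 (.focus 0 (.sym [[1], [3], [5], [7], [9]] (.cons [] 1 80 (.focus 3 (.base (nat_lit 0x1001058000000000000020504000000000000000000000000000000000000000000000000000000000000000000000000000000000000000000010000000000000000000020000000000000000000000000000000000000000000000000000000000000004000000000110000000000000000000000000000000000000000000000000000000000000000000001100000000000000040000000000000000000000000000000000000000000000000000000000000000000000000000000000000000000000000000000000000000000000000000000000000000000000000000000000000000000000000000000000000000000000000000000000000000000000000000000000000000000000000000000000000000000000000000000000000000000000000002000000000000000000000000000000000000000000000000000000000020000000000080000000000000000000000000000000000000000000000000000000000000000000000000000000000000000000000000000000000000000000000000000000000000000000000000000000000000000000000000000000000000000000000000000000000000000000000000000000000000000000000000000000000000000000000000000000000000000000000000000000000040000204a)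 (.focus 0 (.sym [[1], [3], [5], [7]] (.cons [] 1 16 (.focus 1 (.focus 5 (.op 2 0 (.xor 0 1 (.focus 0 (.sym [[1], [3], [5]] (.cons [] 1 4 (.focus 8 (.base (nat_lit 0x2000000000000000400000000000000000000000000000000000000000000000000000000000000000000000000000000000000000000000000000000000000000000000000000000000000000000000000000000000000000000000000000000000000000000000000000000000000000000000000000000000000000000000000000000000000000000000000000000000000000000000000000000000000000000000000000000000000000000000000000000000000000000000000000000000000002000000000000000000000000000000000000000000000000000000000000000000000080000000000000000000000000000000000000000000000000000000000000000000000000000000000000000000000000000000000000000000000000000000000000000000000000000000000000000000000000000000000000000000000000000000000000000000000000000000000000000000000000000000000000000000000000000000000000000000000000000000000000000000000000000010)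 (.focus 0 (.cons [] 0 4 .triv .nil)))) .nil))))))) .nil))))) (.cons [8, 3, 16, 3] 1 0 (.base (nat_lit 0x1001058000000000000020504000000000000000000000000000000000000000000000000000000000000000000000000000000000000000000010000000000000000000020000000000000000000000000000000000000000000000000000000000000004000000000110000000000000000000000000000000000000000000000000000000000000000000001100000000000000040000000000000000000000000000000000000000000000000000000000000000000000000000000000000000000000000000000000000000000000000000000000000000000000000000000000000000000000000000000000000000000000000000000000000000000000000000000000000000000000000000000000000000000000000000000000000000000000000002000000000000000000000000000000000000000000000000000000000020000000000080000000000000000000000000000000000000000000000000000000000000000000000000000000000000000000000000000000000000000000000000000000000000000000000000000000000000000000000000000000000000000000000000000000000000000000000000000000000000000000000000000000000000000000000000000000000000000000000000000000000040000204a)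 (.and 0 4 (.dead 0))) .nil))))))
noncomputable def Bt : Tr := (.op 5 0 (.focus 0 (.sym [[1], [3], [5], [7], [9], [11]] (.cons [] 3 400 Bt_1 (.cons [20, 4, 2] 2 0 (.base (nat_lit 0x2200300586700a610191b80250012280002c0a8026204400730100003c0202092cc908007021c609c10130a5d023c18d8000c25701000439d357000008042000928080804090009c42008216004004000100c40001048c0b000c429c16db440000000a84112848012203ab4e108480000808000600096090009000fa1913208000094100dc19aa03600601ec2200101108c0000008080004028da8800000000000000a0000098cc000000682850000000200000002001400e814040100000010222600000000400226400c5b8c200600499000007644022c1321d800b5de0982df480010388004f880240007810b1000000010902000424000084000c4004000002400008114d1808c0081900014920000608800092d044c0890851a92000006a202a26568405005c0a800080200000000000008a004001b1188000002415831b004c1001c4102080000000000100124000000000a0000d1000058b000000004100400410000080000c0000004661bc40434046618cc08f8a1d8088130006240000010000200000000000800003622201880c020000c866602d01191990201260008000001000c4024661003020000010000818005800100000001011986330e108e100000000000184c040466319802000041800000431002333220000988cc00801070233010c24)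 (.and 0 2 (.dead 0))) .nil)))))
noncomputable def BtK : List (List Nat) := [[29], [21, 27], [24, 26, 30], [18, 20, 25], [13, 23, 13, 17], [11, 15, 21, 26, 16]]
noncomputable def BtF : List (List Nat) := [[], [1]]
noncomputable def Bx_1 : Tr := (.base (nat_lit 0x2200300586700a610191b80250012280002c0a8026204400730100003c0202092cc908007021c609c10130a5d023c18d8000c25701000439d357000008042000928080804090009c42008216004004000100c40001048c0b000c429c16db440000000a84112848012203ab4e108480000808000600096090009000fa1913208000094100dc19aa03600601ec2200101108c0000008080004028da8800000000000000a0000098cc000000682850000000200000002001400e814040100000010222600000000400226400c5b8c200600499000007644022c1321d800b5de0982df480010388004f880240007810b1000000010902000424000084000c4004000002400008114d1808c0081900014920000608800092d044c0890851a92000006a202a26568405005c0a800080200000000000008a004001b1188000002415831b004c1001c4102080000000000100124000000000a0000d1000058b000000004100400410000080000c0000004661bc40434046618cc08f8a1d8088130006240000010000200000000000800003622201880c020000c866602d01191990201260008000001000c4024661003020000010000818005800100000001011986330e108e100000000000184c040466319802000041800000431002333220000988cc00801070233010c24)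 (.focus 0 (.op 2 0 (.op 4 1 (.xor 1 0 (.focus 0 (.op 7 3 (.xor 3 0 (.focus 0 (.sym [[1], [3], [5]] (.cons [] 5 4 (.focus 3 (.focus 1 (.xor 5 6 (.focus 0 (.op 7 8 (.focus 0 (.cons [] 0 4 (.focus 2 (.focus 6 (.focus 4 (.base (nat_lit 0x400002042) (.focus 0 (.op 4 0 (.focus 0 (.cons [] 0 4 (.base (nat_lit 0x2000000000000000400000000000000000000000000000000000000000000000000000000000000000000000000000000000000000000000000000000000000000000000000000000000000000000000000000000000000000000000000000000000000000000000000000000000000000000000000000000000000000000000000000000000000000000000000000000000000000000000000000000000000000000000000000000000000000000000000000000000000000000000000000000000000002000000000000000000000000000000000000000000000000000000000000000000000080000000000000000000000000000000000000000000000000000000000000000000000000000000000000000000000000000000000000000000000000000000000000000000000000000000000000000000000000000000000000000000000000000000000000000000000000000000000000000000000000000000000000000000000000000000000000000000000000000000000000000000000000000010)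 (.focus 0 (.sym [[1]] (.cons [] 0 4 .triv (.cons [2] 3 0 (.base (nat_lit 128) (.op 7 9 (.and 1 0 (.dead0 0)))) .nil))))) (.cons [1] 0 0 (.base (nat_lit 64) (.op 4 1 (.and 1 0 (.dead0 0)))) (.cons [3] 0 0 (.base (nat_lit 64) (.op 4 1 (.and 1 0 (.dead0 0)))) .nil)))))))))) .nil))))))) (.cons [2] 5 0 (.base (nat_lit 0x8000000000000000000000000000000000000000000000000000000000000000000000000000000000040000000000000000000000000000000000000000000000000000000000000000000000000000000000000000000000000002000000000000020400000002020000000000000000000000000000000000000000000000000000000000000000000020000000400400000040002000000000000000000000000000000000000000000000000000000000000000000000000000000000000000000000000000000000000000000000000000000000000000000000000000000000000000000000000000000020000000000000000000000000000200000000000000000000000000000000000000000000000000000000000000000000002000000000008000000000000000000000000000000000000000000000000000000000080000000000000000000000000000000000000000000000000000000000000000000000000000000000000000000000000000000000000000000000000000000000000000000000000000000000000000000000000000000400000000000000000000000020002000000000000000000000000000000000000000000000000000000000000000000000000000000000000000002000000000000000800004090)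 (.op 4 1 (.and 1 0 (.dead0 0)))) .nil))))))))))))
noncomputable def Bx : Tr := (.sym [[1], [3], [5], [7]] (.cons [] 5 500 Bx_1 (.cons [4] 5 0 (.base (nat_lit 0x2001001058000000000000020504000000000000000000000000000000000000000000000000000000000000000000000000000000000000000000010000000000000000000020000008000000000000000000000000002020000000000400000000000000004000000000110000000000000000000000000000000000000000000000000000000000000000000001100000000000000040000000000000000000000000000000000000000000000000000000000000000000000000000000000000000000000000000000000000000000000000000000000000000000000000000000000000000000000000000000000000000000000000000000000000000000000000000000000000000000000000000000000000000000000000000000000000000000000000002000000000000000000000000000000000000000000000000000000000020000000000080000000000000000000000000000000000000000000000000000000000000000000000000000000000000000000000000000000000000000000000000000000000000000000000000000000000000000000000000000000000000000000000000000000000000000000000000000000000000000000000000000000000000000000000000000000000000000000000000000000000040000204a)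 (.op 4 1 (.and 1 0 (.dead0 0)))) .nil)))
noncomputable def BxK : List (List Nat) := [[29], [16, 14, 19, 18, 30, 26], [24, 16, 22, 26, 18, 21, 25], [11, 14, 20, 23, 25]]
noncomputable def BxF : List (List Nat) := [[], [1]]
noncomputable def TN1 : List (List (List Nat)) := [[[],
  [(nat_lit 1)],
  [(nat_lit 2)],
  [(nat_lit 4)],
  [(nat_lit 3)],
  [(nat_lit 1), (nat_lit 1)],
  [(nat_lit 2), (nat_lit 3)],
  [(nat_lit 3), (nat_lit 2)],
  [(nat_lit 1), (nat_lit 4)],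
  [(nat_lit 2), (nat_lit 4)],
  [(nat_lit 1), (nat_lit 3)],
  [(nat_lit 3), (nat_lit 1)],
  [(nat_lit 4), (nat_lit 2)],
  [(nat_lit 4), (nat_lit 1)],
  [(nat_lit 4), (nat_lit 4)],
  [(nat_lit 3), (nat_lit 3)],
  [(nat_lit 1), (nat_lit 1), (nat_lit 3)],
  [(nat_lit 2), (nat_lit 4), (nat_lit 2)],
  [(nat_lit 1), (nat_lit 3), (nat_lit 1)],
  [(nat_lit 2), (nat_lit 4), (nat_lit 1)],
  [(nat_lit 2), (nat_lit 3), (nat_lit 2)],
  [(nat_lit 2), (nat_lit 3), (nat_lit 1)],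
  [(nat_lit 1), (nat_lit 3), (nat_lit 2)],
  [(nat_lit 1), (nat_lit 4), (nat_lit 2)],
  [(nat_lit 1), (nat_lit 4), (nat_lit 1)],
  [(nat_lit 1), (nat_lit 1), (nat_lit 4)],
  [(nat_lit 4), (nat_lit 4), (nat_lit 2)],
  [(nat_lit 3), (nat_lit 1), (nat_lit 4)],
  [(nat_lit 2), (nat_lit 3), (nat_lit 3)],
  [(nat_lit 4), (nat_lit 2), (nat_lit 4)],
  [(nat_lit 4), (nat_lit 2), (nat_lit 3)],
  [(nat_lit 2), (nat_lit 4), (nat_lit 4)],
  [(nat_lit 3), (nat_lit 1), (nat_lit 3)],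
  [(nat_lit 3), (nat_lit 2), (nat_lit 3)],
  [(nat_lit 1), (nat_lit 4), (nat_lit 4)],
  [(nat_lit 4), (nat_lit 1), (nat_lit 3)],
  [(nat_lit 3), (nat_lit 3), (nat_lit 2)],
  [(nat_lit 3), (nat_lit 3), (nat_lit 1)],
  [(nat_lit 4), (nat_lit 4), (nat_lit 1)],
  [(nat_lit 1), (nat_lit 3), (nat_lit 3)],
  [(nat_lit 3), (nat_lit 2), (nat_lit 4)],
  [(nat_lit 4), (nat_lit 1), (nat_lit 4)],
  [(nat_lit 1), (nat_lit 3), (nat_lit 1), (nat_lit 1)],
  [(nat_lit 1), (nat_lit 4), (nat_lit 2), (nat_lit 2)],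
  [(nat_lit 2), (nat_lit 3), (nat_lit 2), (nat_lit 2)],
  [(nat_lit 2), (nat_lit 4), (nat_lit 2), (nat_lit 2)],
  [(nat_lit 3), (nat_lit 3), (nat_lit 3)],
  [(nat_lit 4), (nat_lit 4), (nat_lit 4)],
  [(nat_lit 4), (nat_lit 2), (nat_lit 4), (nat_lit 1)],
  [(nat_lit 3), (nat_lit 3), (nat_lit 2), (nat_lit 2)],
  [(nat_lit 1), (nat_lit 3), (nat_lit 3), (nat_lit 2)],
  [(nat_lit 1), (nat_lit 4), (nat_lit 2), (nat_lit 3)],
  [(nat_lit 1), (nat_lit 3), (nat_lit 2), (nat_lit 4)],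
  [(nat_lit 4), (nat_lit 2), (nat_lit 4), (nat_lit 2)],
  [(nat_lit 4), (nat_lit 1), (nat_lit 3), (nat_lit 2)],
  [(nat_lit 1), (nat_lit 3), (nat_lit 1), (nat_lit 4)],
  [(nat_lit 3), (nat_lit 2), (nat_lit 3), (nat_lit 2)],
  [(nat_lit 1), (nat_lit 4), (nat_lit 1), (nat_lit 3)],
  [(nat_lit 1), (nat_lit 3), (nat_lit 2), (nat_lit 3)],
  [(nat_lit 1), (nat_lit 1), (nat_lit 4), (nat_lit 4)],
  [(nat_lit 2), (nat_lit 4), (nat_lit 4), (nat_lit 2)],
  [(nat_lit 3), (nat_lit 1), (nat_lit 4), (nat_lit 1)],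
  [(nat_lit 2), (nat_lit 4), (nat_lit 1), (nat_lit 4)],
  [(nat_lit 2), (nat_lit 3), (nat_lit 2), (nat_lit 4)],
  [(nat_lit 1), (nat_lit 1), (nat_lit 3), (nat_lit 3)],
  [(nat_lit 4), (nat_lit 1), (nat_lit 4), (nat_lit 1)],
  [(nat_lit 4), (nat_lit 1), (nat_lit 3), (nat_lit 1)],
  [(nat_lit 2), (nat_lit 4), (nat_lit 1), (nat_lit 3)],
  [(nat_lit 4), (nat_lit 2), (nat_lit 3), (nat_lit 1)],
  [(nat_lit 3), (nat_lit 1), (nat_lit 4), (nat_lit 2)],
  [(nat_lit 4), (nat_lit 1), (nat_lit 4), (nat_lit 2)],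
  [(nat_lit 1), (nat_lit 3), (nat_lit 3), (nat_lit 1)],
  [(nat_lit 1), (nat_lit 4), (nat_lit 4), (nat_lit 2)],
  [(nat_lit 4), (nat_lit 2), (nat_lit 3), (nat_lit 2)],
  [(nat_lit 2), (nat_lit 3), (nat_lit 3), (nat_lit 1)],
  [(nat_lit 1), (nat_lit 4), (nat_lit 1), (nat_lit 4)],
  [(nat_lit 1), (nat_lit 3), (nat_lit 1), (nat_lit 3)],
  [(nat_lit 1), (nat_lit 4), (nat_lit 2), (nat_lit 4)],
  [(nat_lit 3), (nat_lit 2), (nat_lit 4), (nat_lit 2)],
  [(nat_lit 2), (nat_lit 4), (nat_lit 2), (nat_lit 4)],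
  [(nat_lit 2), (nat_lit 3), (nat_lit 1), (nat_lit 4)],
  [(nat_lit 3), (nat_lit 1), (nat_lit 3), (nat_lit 2)],
  [(nat_lit 2), (nat_lit 3), (nat_lit 3), (nat_lit 2)],
  [(nat_lit 2), (nat_lit 3), (nat_lit 2), (nat_lit 3)],
  [(nat_lit 2), (nat_lit 4), (nat_lit 2), (nat_lit 3)],
  [(nat_lit 2), (nat_lit 4), (nat_lit 4), (nat_lit 1)],
  [(nat_lit 3), (nat_lit 1), (nat_lit 3), (nat_lit 1)],
  [(nat_lit 3), (nat_lit 2), (nat_lit 4), (nat_lit 1)],
  [(nat_lit 1), (nat_lit 4), (nat_lit 4), (nat_lit 1)],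
  [(nat_lit 2), (nat_lit 3), (nat_lit 1), (nat_lit 3)],
  [(nat_lit 3), (nat_lit 2), (nat_lit 3), (nat_lit 1)],
  [(nat_lit 4), (nat_lit 4), (nat_lit 2), (nat_lit 2)],
  [(nat_lit 3), (nat_lit 3), (nat_lit 1), (nat_lit 3)],
  [(nat_lit 3), (nat_lit 3), (nat_lit 3), (nat_lit 1)],
  [(nat_lit 4), (nat_lit 4), (nat_lit 4), (nat_lit 2)],
  [(nat_lit 4), (nat_lit 4), (nat_lit 2), (nat_lit 4)],
  [(nat_lit 3), (nat_lit 3), (nat_lit 3), (nat_lit 2)],
  [(nat_lit 4), (nat_lit 4), (nat_lit 1), (nat_lit 3)],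
  [(nat_lit 3), (nat_lit 3), (nat_lit 2), (nat_lit 4)],
  [(nat_lit 1), (nat_lit 3), (nat_lit 3), (nat_lit 3)],
  [(nat_lit 4), (nat_lit 4), (nat_lit 4), (nat_lit 1)],
  [(nat_lit 2), (nat_lit 4), (nat_lit 4), (nat_lit 4)],
  [(nat_lit 4), (nat_lit 4), (nat_lit 1), (nat_lit 4)],
  [(nat_lit 3), (nat_lit 1), (nat_lit 3), (nat_lit 3)],
  [(nat_lit 3), (nat_lit 1), (nat_lit 4), (nat_lit 4)],
  [(nat_lit 4), (nat_lit 2), (nat_lit 3), (nat_lit 3)],
  [(nat_lit 4), (nat_lit 2), (nat_lit 4), (nat_lit 4)],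
  [(nat_lit 1), (nat_lit 4), (nat_lit 4), (nat_lit 4)],
  [(nat_lit 3), (nat_lit 3), (nat_lit 2), (nat_lit 3)],
  [(nat_lit 2), (nat_lit 3), (nat_lit 3), (nat_lit 3)],
  [(nat_lit 1), (nat_lit 3), (nat_lit 1), (nat_lit 1), (nat_lit 3)],
  [(nat_lit 2), (nat_lit 3), (nat_lit 2), (nat_lit 2), (nat_lit 3)],
  [(nat_lit 1), (nat_lit 3), (nat_lit 2), (nat_lit 4), (nat_lit 1)],
  [(nat_lit 1), (nat_lit 3), (nat_lit 2), (nat_lit 4), (nat_lit 2)],
  [(nat_lit 1), (nat_lit 3), (nat_lit 1), (nat_lit 3), (nat_lit 2)],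
  [(nat_lit 4), (nat_lit 2), (nat_lit 3), (nat_lit 1), (nat_lit 1)],
  [(nat_lit 1), (nat_lit 4), (nat_lit 2), (nat_lit 4), (nat_lit 1)],
  [(nat_lit 2), (nat_lit 3), (nat_lit 3), (nat_lit 1), (nat_lit 1)],
  [(nat_lit 4), (nat_lit 1), (nat_lit 3), (nat_lit 2), (nat_lit 2)],
  [(nat_lit 2), (nat_lit 3), (nat_lit 1), (nat_lit 3), (nat_lit 2)],
  [(nat_lit 1), (nat_lit 3), (nat_lit 1), (nat_lit 4), (nat_lit 2)],
  [(nat_lit 2), (nat_lit 4), (nat_lit 1), (nat_lit 4), (nat_lit 2)],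
  [(nat_lit 1), (nat_lit 4), (nat_lit 1), (nat_lit 3), (nat_lit 2)],
  [(nat_lit 2), (nat_lit 3), (nat_lit 2), (nat_lit 4), (nat_lit 1)],
  [(nat_lit 1), (nat_lit 4), (nat_lit 4), (nat_lit 2), (nat_lit 2)],
  [(nat_lit 2), (nat_lit 4), (nat_lit 4), (nat_lit 2), (nat_lit 2)],
  [(nat_lit 1), (nat_lit 4), (nat_lit 2), (nat_lit 4), (nat_lit 2)],
  [(nat_lit 3), (nat_lit 2), (nat_lit 4), (nat_lit 2), (nat_lit 2)],
  [(nat_lit 1), (nat_lit 4), (nat_lit 2), (nat_lit 2), (nat_lit 3)],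
  [(nat_lit 1), (nat_lit 1), (nat_lit 4), (nat_lit 4), (nat_lit 2)],
  [(nat_lit 1), (nat_lit 4), (nat_lit 1), (nat_lit 4), (nat_lit 1)],
  [(nat_lit 4), (nat_lit 2), (nat_lit 4), (nat_lit 1), (nat_lit 1)],
  [(nat_lit 1), (nat_lit 4), (nat_lit 1), (nat_lit 3), (nat_lit 1)],
  [(nat_lit 1), (nat_lit 3), (nat_lit 3), (nat_lit 2), (nat_lit 2)],
  [(nat_lit 1), (nat_lit 3), (nat_lit 1), (nat_lit 3), (nat_lit 1)],
  [(nat_lit 1), (nat_lit 3), (nat_lit 2), (nat_lit 3), (nat_lit 2)],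
  [(nat_lit 1), (nat_lit 4), (nat_lit 2), (nat_lit 3), (nat_lit 1)],
  [(nat_lit 3), (nat_lit 1), (nat_lit 3), (nat_lit 2), (nat_lit 2)],
  [(nat_lit 1), (nat_lit 4), (nat_lit 1), (nat_lit 4), (nat_lit 2)],
  [(nat_lit 2), (nat_lit 4), (nat_lit 2), (nat_lit 3), (nat_lit 2)],
  [(nat_lit 1), (nat_lit 3), (nat_lit 1), (nat_lit 1), (nat_lit 4)],
  [(nat_lit 3), (nat_lit 2), (nat_lit 3), (nat_lit 2), (nat_lit 2)],
  [(nat_lit 2), (nat_lit 4), (nat_lit 2), (nat_lit 3), (nat_lit 1)],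
  [(nat_lit 1), (nat_lit 3), (nat_lit 2), (nat_lit 3), (nat_lit 1)],
  [(nat_lit 2), (nat_lit 4), (nat_lit 1), (nat_lit 4), (nat_lit 1)],
  [(nat_lit 3), (nat_lit 1), (nat_lit 4), (nat_lit 1), (nat_lit 1)],
  [(nat_lit 1), (nat_lit 4), (nat_lit 2), (nat_lit 3), (nat_lit 2)],
  [(nat_lit 2), (nat_lit 4), (nat_lit 2), (nat_lit 4), (nat_lit 1)],
  [(nat_lit 2), (nat_lit 3), (nat_lit 2), (nat_lit 4), (nat_lit 2)],
  [(nat_lit 1), (nat_lit 1), (nat_lit 3), (nat_lit 3), (nat_lit 1)],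
  [(nat_lit 2), (nat_lit 3), (nat_lit 2), (nat_lit 2), (nat_lit 4)],
  [(nat_lit 2), (nat_lit 4), (nat_lit 1), (nat_lit 3), (nat_lit 1)],
  [(nat_lit 2), (nat_lit 4), (nat_lit 2), (nat_lit 4), (nat_lit 2)],
  [(nat_lit 2), (nat_lit 4), (nat_lit 1), (nat_lit 3), (nat_lit 2)],
  [(nat_lit 2), (nat_lit 3), (nat_lit 1), (nat_lit 4), (nat_lit 1)],
  [(nat_lit 1), (nat_lit 3), (nat_lit 1), (nat_lit 4), (nat_lit 1)],
  [(nat_lit 4), (nat_lit 1), (nat_lit 4), (nat_lit 1), (nat_lit 1)],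
  [(nat_lit 2), (nat_lit 3), (nat_lit 2), (nat_lit 3), (nat_lit 1)],
  [(nat_lit 2), (nat_lit 3), (nat_lit 1), (nat_lit 4), (nat_lit 2)],
  [(nat_lit 2), (nat_lit 4), (nat_lit 2), (nat_lit 2), (nat_lit 3)],
  [(nat_lit 2), (nat_lit 3), (nat_lit 1), (nat_lit 3), (nat_lit 1)],
  [(nat_lit 2), (nat_lit 3), (nat_lit 2), (nat_lit 3), (nat_lit 2)],
  [(nat_lit 3), (nat_lit 3), (nat_lit 3), (nat_lit 3)],
  [(nat_lit 4), (nat_lit 4), (nat_lit 4), (nat_lit 4)],
  [(nat_lit 1), (nat_lit 4), (nat_lit 2), (nat_lit 3), (nat_lit 3)],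
  [(nat_lit 3), (nat_lit 2), (nat_lit 4), (nat_lit 2), (nat_lit 3)],
  [(nat_lit 1), (nat_lit 3), (nat_lit 3), (nat_lit 2), (nat_lit 3)],
  [(nat_lit 2), (nat_lit 4), (nat_lit 4), (nat_lit 4), (nat_lit 2)],
  [(nat_lit 3), (nat_lit 2), (nat_lit 3), (nat_lit 1), (nat_lit 4)],
  [(nat_lit 4), (nat_lit 4), (nat_lit 1), (nat_lit 3), (nat_lit 2)],
  [(nat_lit 2), (nat_lit 3), (nat_lit 3), (nat_lit 3), (nat_lit 2)],
  [(nat_lit 2), (nat_lit 3), (nat_lit 3), (nat_lit 3), (nat_lit 1)],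
  [(nat_lit 1), (nat_lit 4), (nat_lit 4), (nat_lit 2), (nat_lit 4)],
  [(nat_lit 4), (nat_lit 1), (nat_lit 3), (nat_lit 1), (nat_lit 4)],
  [(nat_lit 2), (nat_lit 4), (nat_lit 4), (nat_lit 4), (nat_lit 1)],
  [(nat_lit 2), (nat_lit 3), (nat_lit 3), (nat_lit 1), (nat_lit 3)],
  [(nat_lit 1), (nat_lit 3), (nat_lit 3), (nat_lit 3), (nat_lit 1)],
  [(nat_lit 3), (nat_lit 3), (nat_lit 2), (nat_lit 4), (nat_lit 2)],
  [(nat_lit 4), (nat_lit 2), (nat_lit 3), (nat_lit 1), (nat_lit 3)],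
  [(nat_lit 2), (nat_lit 3), (nat_lit 3), (nat_lit 2), (nat_lit 4)],
  [(nat_lit 1), (nat_lit 4), (nat_lit 4), (nat_lit 4), (nat_lit 1)],
  [(nat_lit 1), (nat_lit 3), (nat_lit 3), (nat_lit 2), (nat_lit 4)],
  [(nat_lit 4), (nat_lit 2), (nat_lit 3), (nat_lit 2), (nat_lit 3)],
  [(nat_lit 4), (nat_lit 4), (nat_lit 4), (nat_lit 2), (nat_lit 2)],
  [(nat_lit 4), (nat_lit 1), (nat_lit 3), (nat_lit 1), (nat_lit 3)],
  [(nat_lit 3), (nat_lit 1), (nat_lit 3), (nat_lit 1), (nat_lit 3)],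
  [(nat_lit 2), (nat_lit 4), (nat_lit 4), (nat_lit 1), (nat_lit 4)],
  [(nat_lit 3), (nat_lit 1), (nat_lit 4), (nat_lit 1), (nat_lit 4)],
  [(nat_lit 4), (nat_lit 4), (nat_lit 2), (nat_lit 2), (nat_lit 3)],
  [(nat_lit 3), (nat_lit 3), (nat_lit 3), (nat_lit 1), (nat_lit 1)],
  [(nat_lit 4), (nat_lit 2), (nat_lit 4), (nat_lit 2), (nat_lit 4)],
  [(nat_lit 3), (nat_lit 3), (nat_lit 2), (nat_lit 4), (nat_lit 1)],
  [(nat_lit 3), (nat_lit 3), (nat_lit 2), (nat_lit 2), (nat_lit 4)],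
  [(nat_lit 3), (nat_lit 3), (nat_lit 2), (nat_lit 3), (nat_lit 1)],
  [(nat_lit 1), (nat_lit 1), (nat_lit 3), (nat_lit 3), (nat_lit 3)],
  [(nat_lit 4), (nat_lit 4), (nat_lit 1), (nat_lit 3), (nat_lit 1)],
  [(nat_lit 3), (nat_lit 1), (nat_lit 3), (nat_lit 2), (nat_lit 3)],
  [(nat_lit 4), (nat_lit 2), (nat_lit 4), (nat_lit 1), (nat_lit 4)],
  [(nat_lit 1), (nat_lit 4), (nat_lit 4), (nat_lit 1), (nat_lit 4)],
  [(nat_lit 3), (nat_lit 2), (nat_lit 4), (nat_lit 2), (nat_lit 4)],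
  [(nat_lit 4), (nat_lit 4), (nat_lit 1), (nat_lit 4), (nat_lit 2)],
  [(nat_lit 2), (nat_lit 3), (nat_lit 3), (nat_lit 2), (nat_lit 3)],
  [(nat_lit 3), (nat_lit 1), (nat_lit 4), (nat_lit 2), (nat_lit 4)],
  [(nat_lit 1), (nat_lit 1), (nat_lit 4), (nat_lit 4), (nat_lit 4)],
  [(nat_lit 3), (nat_lit 3), (nat_lit 2), (nat_lit 2), (nat_lit 3)],
  [(nat_lit 4), (nat_lit 1), (nat_lit 4), (nat_lit 2), (nat_lit 3)],
  [(nat_lit 4), (nat_lit 1), (nat_lit 3), (nat_lit 2), (nat_lit 3)],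
  [(nat_lit 3), (nat_lit 2), (nat_lit 3), (nat_lit 1), (nat_lit 3)],
  [(nat_lit 4), (nat_lit 1), (nat_lit 4), (nat_lit 2), (nat_lit 4)],
  [(nat_lit 2), (nat_lit 3), (nat_lit 1), (nat_lit 4), (nat_lit 4)],
  [(nat_lit 1), (nat_lit 3), (nat_lit 1), (nat_lit 4), (nat_lit 2), (nat_lit 2)],
  [(nat_lit 2), (nat_lit 4), (nat_lit 2), (nat_lit 2), (nat_lit 3), (nat_lit 1)],
  [(nat_lit 1), (nat_lit 4), (nat_lit 1), (nat_lit 3), (nat_lit 2), (nat_lit 2)],
  [(nat_lit 1), (nat_lit 4), (nat_lit 1), (nat_lit 4), (nat_lit 1), (nat_lit 1)],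
  [(nat_lit 1), (nat_lit 4), (nat_lit 2), (nat_lit 2), (nat_lit 3), (nat_lit 1)],
  [(nat_lit 1), (nat_lit 3), (nat_lit 2), (nat_lit 4), (nat_lit 1), (nat_lit 1)],
  [(nat_lit 1), (nat_lit 4), (nat_lit 2), (nat_lit 3), (nat_lit 1), (nat_lit 1)],
  [(nat_lit 2), (nat_lit 3), (nat_lit 2), (nat_lit 2), (nat_lit 4), (nat_lit 2)],
  [(nat_lit 1), (nat_lit 3), (nat_lit 2), (nat_lit 3), (nat_lit 2), (nat_lit 2)],
  [(nat_lit 1), (nat_lit 4), (nat_lit 2), (nat_lit 4), (nat_lit 1), (nat_lit 1)],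
  [(nat_lit 2), (nat_lit 4), (nat_lit 2), (nat_lit 3), (nat_lit 2), (nat_lit 2)],
  [(nat_lit 2), (nat_lit 3), (nat_lit 1), (nat_lit 4), (nat_lit 1), (nat_lit 1)],
  [(nat_lit 2), (nat_lit 3), (nat_lit 2), (nat_lit 3), (nat_lit 1), (nat_lit 1)],
  [(nat_lit 2), (nat_lit 4), (nat_lit 2), (nat_lit 4), (nat_lit 1), (nat_lit 1)],
  [(nat_lit 2), (nat_lit 3), (nat_lit 2), (nat_lit 4), (nat_lit 1), (nat_lit 1)],
  [(nat_lit 2), (nat_lit 3), (nat_lit 1), (nat_lit 3), (nat_lit 2), (nat_lit 2)],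
  [(nat_lit 1), (nat_lit 3), (nat_lit 1), (nat_lit 1), (nat_lit 4), (nat_lit 2)],
  [(nat_lit 2), (nat_lit 4), (nat_lit 1), (nat_lit 4), (nat_lit 2), (nat_lit 2)],
  [(nat_lit 1), (nat_lit 3), (nat_lit 1), (nat_lit 3), (nat_lit 2), (nat_lit 2)],
  [(nat_lit 2), (nat_lit 4), (nat_lit 1), (nat_lit 3), (nat_lit 1), (nat_lit 1)],
  [(nat_lit 4), (nat_lit 4), (nat_lit 4), (nat_lit 4), (nat_lit 1)],
  [(nat_lit 1), (nat_lit 4), (nat_lit 4), (nat_lit 4), (nat_lit 4)],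
  [(nat_lit 3), (nat_lit 3), (nat_lit 3), (nat_lit 1), (nat_lit 4)],
  [(nat_lit 3), (nat_lit 3), (nat_lit 3), (nat_lit 3), (nat_lit 1)],
  [(nat_lit 2), (nat_lit 4), (nat_lit 4), (nat_lit 4), (nat_lit 4)],
  [(nat_lit 3), (nat_lit 3), (nat_lit 3), (nat_lit 3), (nat_lit 2)],
  [(nat_lit 1), (nat_lit 3), (nat_lit 3), (nat_lit 3), (nat_lit 3)],
  [(nat_lit 4), (nat_lit 4), (nat_lit 4), (nat_lit 2), (nat_lit 3)],
  [(nat_lit 2), (nat_lit 3), (nat_lit 3), (nat_lit 3), (nat_lit 3)],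
  [(nat_lit 4), (nat_lit 4), (nat_lit 4), (nat_lit 1), (nat_lit 4)],
  [(nat_lit 4), (nat_lit 4), (nat_lit 4), (nat_lit 4), (nat_lit 2)],
  [(nat_lit 3), (nat_lit 3), (nat_lit 3), (nat_lit 2), (nat_lit 4)],
  [(nat_lit 3), (nat_lit 3), (nat_lit 3), (nat_lit 2), (nat_lit 3)],
  [(nat_lit 4), (nat_lit 4), (nat_lit 4), (nat_lit 1), (nat_lit 3)],
  [(nat_lit 1), (nat_lit 4), (nat_lit 2), (nat_lit 4), (nat_lit 1), (nat_lit 4)],
  [(nat_lit 2), (nat_lit 4), (nat_lit 1), (nat_lit 3), (nat_lit 1), (nat_lit 4)],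
  [(nat_lit 2), (nat_lit 4), (nat_lit 4), (nat_lit 2), (nat_lit 2), (nat_lit 3)],
  [(nat_lit 2), (nat_lit 3), (nat_lit 3), (nat_lit 2), (nat_lit 4), (nat_lit 2)],
  [(nat_lit 3), (nat_lit 2), (nat_lit 4), (nat_lit 2), (nat_lit 4), (nat_lit 2)],
  [(nat_lit 2), (nat_lit 3), (nat_lit 3), (nat_lit 1), (nat_lit 1), (nat_lit 4)],
  [(nat_lit 4), (nat_lit 2), (nat_lit 3), (nat_lit 1), (nat_lit 1), (nat_lit 3)],
  [(nat_lit 1), (nat_lit 4), (nat_lit 1), (nat_lit 3), (nat_lit 1), (nat_lit 4)],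
  [(nat_lit 1), (nat_lit 3), (nat_lit 3), (nat_lit 2), (nat_lit 4), (nat_lit 2)],
  [(nat_lit 3), (nat_lit 1), (nat_lit 3), (nat_lit 2), (nat_lit 2), (nat_lit 3)],
  [(nat_lit 1), (nat_lit 4), (nat_lit 4), (nat_lit 2), (nat_lit 2), (nat_lit 4)],
  [(nat_lit 4), (nat_lit 2), (nat_lit 4), (nat_lit 1), (nat_lit 1), (nat_lit 4)],
  [(nat_lit 4), (nat_lit 4), (nat_lit 2), (nat_lit 2), (nat_lit 3), (nat_lit 2)],
  [(nat_lit 1), (nat_lit 3), (nat_lit 3), (nat_lit 2), (nat_lit 2), (nat_lit 3)],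
  [(nat_lit 1), (nat_lit 4), (nat_lit 2), (nat_lit 4), (nat_lit 2), (nat_lit 4)],
  [(nat_lit 2), (nat_lit 4), (nat_lit 2), (nat_lit 3), (nat_lit 1), (nat_lit 3)],
  [(nat_lit 2), (nat_lit 3), (nat_lit 2), (nat_lit 3), (nat_lit 1), (nat_lit 4)],
  [(nat_lit 2), (nat_lit 3), (nat_lit 2), (nat_lit 4), (nat_lit 1), (nat_lit 4)],
  [(nat_lit 4), (nat_lit 1), (nat_lit 3), (nat_lit 1), (nat_lit 4), (nat_lit 2)],
  [(nat_lit 3), (nat_lit 3), (nat_lit 2), (nat_lit 4), (nat_lit 2), (nat_lit 2)],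
  [(nat_lit 4), (nat_lit 4), (nat_lit 1), (nat_lit 3), (nat_lit 2), (nat_lit 2)],
  [(nat_lit 3), (nat_lit 1), (nat_lit 4), (nat_lit 1), (nat_lit 1), (nat_lit 4)],
  [(nat_lit 1), (nat_lit 3), (nat_lit 1), (nat_lit 1), (nat_lit 4), (nat_lit 4)],
  [(nat_lit 2), (nat_lit 4), (nat_lit 2), (nat_lit 4), (nat_lit 1), (nat_lit 4)],
  [(nat_lit 4), (nat_lit 2), (nat_lit 3), (nat_lit 1), (nat_lit 3), (nat_lit 1)],
  [(nat_lit 2), (nat_lit 3), (nat_lit 2), (nat_lit 4), (nat_lit 2), (nat_lit 4)],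
  [(nat_lit 2), (nat_lit 3), (nat_lit 3), (nat_lit 1), (nat_lit 1), (nat_lit 3)],
  [(nat_lit 1), (nat_lit 4), (nat_lit 2), (nat_lit 3), (nat_lit 2), (nat_lit 3)],
  [(nat_lit 1), (nat_lit 3), (nat_lit 2), (nat_lit 3), (nat_lit 1), (nat_lit 4)],
  [(nat_lit 2), (nat_lit 4), (nat_lit 1), (nat_lit 4), (nat_lit 1), (nat_lit 4)],
  [(nat_lit 2), (nat_lit 4), (nat_lit 4), (nat_lit 2), (nat_lit 2), (nat_lit 4)],
  [(nat_lit 1), (nat_lit 3), (nat_lit 3), (nat_lit 3), (nat_lit 1), (nat_lit 1)],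
  [(nat_lit 1), (nat_lit 4), (nat_lit 4), (nat_lit 4), (nat_lit 1), (nat_lit 1)],
  [(nat_lit 4), (nat_lit 1), (nat_lit 3), (nat_lit 1), (nat_lit 4), (nat_lit 1)],
  [(nat_lit 2), (nat_lit 4), (nat_lit 2), (nat_lit 3), (nat_lit 2), (nat_lit 3)],
  [(nat_lit 3), (nat_lit 2), (nat_lit 4), (nat_lit 2), (nat_lit 3), (nat_lit 1)],
  [(nat_lit 4), (nat_lit 2), (nat_lit 3), (nat_lit 2), (nat_lit 3), (nat_lit 1)],
  [(nat_lit 2), (nat_lit 3), (nat_lit 2), (nat_lit 2), (nat_lit 4), (nat_lit 4)],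
  [(nat_lit 1), (nat_lit 3), (nat_lit 2), (nat_lit 4), (nat_lit 2), (nat_lit 4)],
  [(nat_lit 1), (nat_lit 3), (nat_lit 2), (nat_lit 3), (nat_lit 2), (nat_lit 3)],
  [(nat_lit 4), (nat_lit 2), (nat_lit 4), (nat_lit 1), (nat_lit 4), (nat_lit 2)],
  [(nat_lit 1), (nat_lit 3), (nat_lit 3), (nat_lit 2), (nat_lit 3), (nat_lit 1)],
  [(nat_lit 2), (nat_lit 4), (nat_lit 4), (nat_lit 4), (nat_lit 2), (nat_lit 2)],
  [(nat_lit 3), (nat_lit 2), (nat_lit 4), (nat_lit 2), (nat_lit 4), (nat_lit 1)],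
  [(nat_lit 2), (nat_lit 4), (nat_lit 1), (nat_lit 4), (nat_lit 2), (nat_lit 4)],
  [(nat_lit 1), (nat_lit 3), (nat_lit 3), (nat_lit 2), (nat_lit 4), (nat_lit 1)],
  [(nat_lit 2), (nat_lit 3), (nat_lit 2), (nat_lit 4), (nat_lit 2), (nat_lit 3)],
  [(nat_lit 3), (nat_lit 3), (nat_lit 2), (nat_lit 2), (nat_lit 4), (nat_lit 1)],
  [(nat_lit 1), (nat_lit 4), (nat_lit 1), (nat_lit 3), (nat_lit 2), (nat_lit 3)],
  [(nat_lit 2), (nat_lit 4), (nat_lit 1), (nat_lit 4), (nat_lit 2), (nat_lit 3)],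
  [(nat_lit 2), (nat_lit 3), (nat_lit 3), (nat_lit 2), (nat_lit 4), (nat_lit 1)],
  [(nat_lit 4), (nat_lit 2), (nat_lit 4), (nat_lit 2), (nat_lit 4), (nat_lit 2)],
  [(nat_lit 2), (nat_lit 3), (nat_lit 1), (nat_lit 3), (nat_lit 1), (nat_lit 3)],
  [(nat_lit 3), (nat_lit 3), (nat_lit 2), (nat_lit 2), (nat_lit 4), (nat_lit 2)],
  [(nat_lit 2), (nat_lit 4), (nat_lit 2), (nat_lit 2), (nat_lit 3), (nat_lit 3)],
  [(nat_lit 1), (nat_lit 3), (nat_lit 3), (nat_lit 2), (nat_lit 2), (nat_lit 4)],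
  [(nat_lit 1), (nat_lit 4), (nat_lit 4), (nat_lit 2), (nat_lit 2), (nat_lit 3)],
  [(nat_lit 3), (nat_lit 1), (nat_lit 4), (nat_lit 1), (nat_lit 4), (nat_lit 2)],
  [(nat_lit 2), (nat_lit 3), (nat_lit 1), (nat_lit 3), (nat_lit 2), (nat_lit 3)],
  [(nat_lit 1), (nat_lit 3), (nat_lit 1), (nat_lit 3), (nat_lit 2), (nat_lit 3)],
  [(nat_lit 2), (nat_lit 3), (nat_lit 1), (nat_lit 4), (nat_lit 1), (nat_lit 4)],
  [(nat_lit 2), (nat_lit 3), (nat_lit 3), (nat_lit 3), (nat_lit 2), (nat_lit 2)],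
  [(nat_lit 3), (nat_lit 1), (nat_lit 3), (nat_lit 2), (nat_lit 3), (nat_lit 1)],
  [(nat_lit 3), (nat_lit 2), (nat_lit 4), (nat_lit 2), (nat_lit 3), (nat_lit 2)],
  [(nat_lit 1), (nat_lit 4), (nat_lit 1), (nat_lit 3), (nat_lit 1), (nat_lit 3)],
  [(nat_lit 4), (nat_lit 1), (nat_lit 3), (nat_lit 1), (nat_lit 3), (nat_lit 2)],
  [(nat_lit 2), (nat_lit 4), (nat_lit 2), (nat_lit 4), (nat_lit 2), (nat_lit 4)],
  [(nat_lit 1), (nat_lit 3), (nat_lit 2), (nat_lit 4), (nat_lit 2), (nat_lit 3)],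
  [(nat_lit 1), (nat_lit 3), (nat_lit 1), (nat_lit 4), (nat_lit 2), (nat_lit 4)],
  [(nat_lit 4), (nat_lit 4), (nat_lit 2), (nat_lit 2), (nat_lit 3), (nat_lit 1)],
  [(nat_lit 1), (nat_lit 4), (nat_lit 1), (nat_lit 4), (nat_lit 2), (nat_lit 3)],
  [(nat_lit 3), (nat_lit 1), (nat_lit 3), (nat_lit 1), (nat_lit 3), (nat_lit 1)],
  [(nat_lit 1), (nat_lit 4), (nat_lit 2), (nat_lit 2), (nat_lit 3), (nat_lit 3)],
  [(nat_lit 1), (nat_lit 3), (nat_lit 1), (nat_lit 4), (nat_lit 1), (nat_lit 4)],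
  [(nat_lit 2), (nat_lit 4), (nat_lit 4), (nat_lit 1), (nat_lit 4), (nat_lit 2)],
  [(nat_lit 1), (nat_lit 3), (nat_lit 1), (nat_lit 3), (nat_lit 1), (nat_lit 3)],
  [(nat_lit 3), (nat_lit 2), (nat_lit 3), (nat_lit 1), (nat_lit 4), (nat_lit 4)],
  [(nat_lit 3), (nat_lit 2), (nat_lit 4), (nat_lit 2), (nat_lit 3), (nat_lit 3)],
  [(nat_lit 1), (nat_lit 3), (nat_lit 3), (nat_lit 3), (nat_lit 3), (nat_lit 2)],
  [(nat_lit 1), (nat_lit 3), (nat_lit 3), (nat_lit 2), (nat_lit 3), (nat_lit 3)],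
  [(nat_lit 2), (nat_lit 3), (nat_lit 3), (nat_lit 3), (nat_lit 3), (nat_lit 2)],
  [(nat_lit 3), (nat_lit 3), (nat_lit 3), (nat_lit 3), (nat_lit 1), (nat_lit 1)],
  [(nat_lit 4), (nat_lit 4), (nat_lit 4), (nat_lit 2), (nat_lit 2), (nat_lit 4)],
  [(nat_lit 3), (nat_lit 3), (nat_lit 3), (nat_lit 1), (nat_lit 1), (nat_lit 4)],
  [(nat_lit 3), (nat_lit 3), (nat_lit 3), (nat_lit 1), (nat_lit 1), (nat_lit 3)],
  [(nat_lit 2), (nat_lit 4), (nat_lit 4), (nat_lit 4), (nat_lit 4), (nat_lit 1)],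
  [(nat_lit 4), (nat_lit 4), (nat_lit 4), (nat_lit 4), (nat_lit 1), (nat_lit 1)],
  [(nat_lit 4), (nat_lit 4), (nat_lit 1), (nat_lit 4), (nat_lit 2), (nat_lit 4)],
  [(nat_lit 1), (nat_lit 4), (nat_lit 4), (nat_lit 4), (nat_lit 4), (nat_lit 1)],
  [(nat_lit 3), (nat_lit 3), (nat_lit 3), (nat_lit 1), (nat_lit 4), (nat_lit 2)],
  [(nat_lit 4), (nat_lit 4), (nat_lit 4), (nat_lit 2), (nat_lit 2), (nat_lit 3)],
  [(nat_lit 3), (nat_lit 3), (nat_lit 2), (nat_lit 3), (nat_lit 1), (nat_lit 3)],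
  [(nat_lit 4), (nat_lit 4), (nat_lit 4), (nat_lit 2), (nat_lit 3), (nat_lit 1)],
  [(nat_lit 2), (nat_lit 4), (nat_lit 4), (nat_lit 1), (nat_lit 4), (nat_lit 4)],
  [(nat_lit 4), (nat_lit 1), (nat_lit 3), (nat_lit 1), (nat_lit 4), (nat_lit 4)],
  [(nat_lit 3), (nat_lit 3), (nat_lit 2), (nat_lit 4), (nat_lit 1), (nat_lit 4)],
  [(nat_lit 2), (nat_lit 4), (nat_lit 2), (nat_lit 2), (nat_lit 3), (nat_lit 1), (nat_lit 3)],
  [(nat_lit 4), (nat_lit 2), (nat_lit 4), (nat_lit 1), (nat_lit 1), (nat_lit 4), (nat_lit 2)],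
  [(nat_lit 4), (nat_lit 2), (nat_lit 3), (nat_lit 1), (nat_lit 1), (nat_lit 3), (nat_lit 1)],
  [(nat_lit 1), (nat_lit 3), (nat_lit 1), (nat_lit 4), (nat_lit 2), (nat_lit 2), (nat_lit 3)],
  [(nat_lit 2), (nat_lit 3), (nat_lit 3), (nat_lit 2), (nat_lit 4), (nat_lit 2), (nat_lit 2)],
  [(nat_lit 3), (nat_lit 1), (nat_lit 4), (nat_lit 1), (nat_lit 1), (nat_lit 4), (nat_lit 2)],
  [(nat_lit 1), (nat_lit 3), (nat_lit 3), (nat_lit 2), (nat_lit 4), (nat_lit 2), (nat_lit 2)],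
  [(nat_lit 3), (nat_lit 1), (nat_lit 3), (nat_lit 2), (nat_lit 2), (nat_lit 3), (nat_lit 1)],
  [(nat_lit 2), (nat_lit 4), (nat_lit 2), (nat_lit 3), (nat_lit 2), (nat_lit 3), (nat_lit 1)],
  [(nat_lit 2), (nat_lit 4), (nat_lit 4), (nat_lit 2), (nat_lit 2), (nat_lit 4), (nat_lit 1)],
  [(nat_lit 1), (nat_lit 4), (nat_lit 1), (nat_lit 3), (nat_lit 1), (nat_lit 4), (nat_lit 2)],
  [(nat_lit 1), (nat_lit 4), (nat_lit 2), (nat_lit 4), (nat_lit 1), (nat_lit 4), (nat_lit 2)],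
  [(nat_lit 1), (nat_lit 3), (nat_lit 2), (nat_lit 3), (nat_lit 1), (nat_lit 4), (nat_lit 2)],
  [(nat_lit 1), (nat_lit 3), (nat_lit 1), (nat_lit 4), (nat_lit 1), (nat_lit 4), (nat_lit 2)],
  [(nat_lit 2), (nat_lit 3), (nat_lit 1), (nat_lit 3), (nat_lit 2), (nat_lit 3), (nat_lit 1)],
  [(nat_lit 2), (nat_lit 3), (nat_lit 2), (nat_lit 3), (nat_lit 1), (nat_lit 4), (nat_lit 2)],
  [(nat_lit 2), (nat_lit 4), (nat_lit 2), (nat_lit 3), (nat_lit 2), (nat_lit 2), (nat_lit 4)],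
  [(nat_lit 2), (nat_lit 4), (nat_lit 2), (nat_lit 4), (nat_lit 1), (nat_lit 4), (nat_lit 2)],
  [(nat_lit 2), (nat_lit 4), (nat_lit 1), (nat_lit 3), (nat_lit 1), (nat_lit 4), (nat_lit 2)],
  [(nat_lit 1), (nat_lit 3), (nat_lit 2), (nat_lit 3), (nat_lit 1), (nat_lit 4), (nat_lit 1)],
  [(nat_lit 1), (nat_lit 3), (nat_lit 1), (nat_lit 3), (nat_lit 2), (nat_lit 3), (nat_lit 1)],
  [(nat_lit 2), (nat_lit 4), (nat_lit 1), (nat_lit 3), (nat_lit 1), (nat_lit 4), (nat_lit 1)],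
  [(nat_lit 1), (nat_lit 4), (nat_lit 1), (nat_lit 3), (nat_lit 1), (nat_lit 4), (nat_lit 1)],
  [(nat_lit 1), (nat_lit 3), (nat_lit 3), (nat_lit 2), (nat_lit 2), (nat_lit 3), (nat_lit 2)],
  [(nat_lit 2), (nat_lit 3), (nat_lit 2), (nat_lit 3), (nat_lit 1), (nat_lit 4), (nat_lit 1)],
  [(nat_lit 1), (nat_lit 4), (nat_lit 2), (nat_lit 2), (nat_lit 3), (nat_lit 1), (nat_lit 3)],
  [(nat_lit 3), (nat_lit 3), (nat_lit 3), (nat_lit 3), (nat_lit 2), (nat_lit 4)],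
  [(nat_lit 4), (nat_lit 4), (nat_lit 4), (nat_lit 4), (nat_lit 1), (nat_lit 3)],
  [(nat_lit 4), (nat_lit 1), (nat_lit 3), (nat_lit 1), (nat_lit 4), (nat_lit 1), (nat_lit 4)],
  [(nat_lit 4), (nat_lit 1), (nat_lit 3), (nat_lit 1), (nat_lit 4), (nat_lit 1), (nat_lit 3)],
  [(nat_lit 3), (nat_lit 2), (nat_lit 4), (nat_lit 2), (nat_lit 3), (nat_lit 2), (nat_lit 3)],
  [(nat_lit 3), (nat_lit 2), (nat_lit 4), (nat_lit 2), (nat_lit 3), (nat_lit 2), (nat_lit 4)],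
  [(nat_lit 1), (nat_lit 3), (nat_lit 3), (nat_lit 3), (nat_lit 3), (nat_lit 2), (nat_lit 4)],
  [(nat_lit 1), (nat_lit 4), (nat_lit 4), (nat_lit 4), (nat_lit 4), (nat_lit 1), (nat_lit 3)],
  [(nat_lit 3), (nat_lit 3), (nat_lit 3), (nat_lit 3), (nat_lit 1), (nat_lit 1), (nat_lit 3)],
  [(nat_lit 4), (nat_lit 4), (nat_lit 4), (nat_lit 4), (nat_lit 1), (nat_lit 1), (nat_lit 4)],
  [(nat_lit 2), (nat_lit 4), (nat_lit 4), (nat_lit 4), (nat_lit 4), (nat_lit 1), (nat_lit 3)],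
  [(nat_lit 2), (nat_lit 3), (nat_lit 3), (nat_lit 3), (nat_lit 3), (nat_lit 2), (nat_lit 4)]],
 [[],
  [(nat_lit 2)],
  [(nat_lit 1)],
  [(nat_lit 2), (nat_lit 2)]],
 [[],
  [(nat_lit 1)],
  [(nat_lit 2)],
  [(nat_lit 1), (nat_lit 1)]]]
noncomputable def TN2 : List (List (List Nat)) := [[[],
  [(nat_lit 3)],
  [(nat_lit 4)],
  [(nat_lit 2)],
  [(nat_lit 3), (nat_lit 3)],
  [(nat_lit 4), (nat_lit 4)]],
 [[],
  [(nat_lit 2)],
  [(nat_lit 1)],
  [(nat_lit 3)],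
  [(nat_lit 4)],
  [(nat_lit 2), (nat_lit 2)],
  [(nat_lit 6)],
  [(nat_lit 5)],
  [(nat_lit 4), (nat_lit 2)],
  [(nat_lit 2), (nat_lit 4)],
  [(nat_lit 3), (nat_lit 2)],
  [(nat_lit 2), (nat_lit 3)],
  [(nat_lit 4), (nat_lit 1)],
  [(nat_lit 1), (nat_lit 3)],
  [(nat_lit 3), (nat_lit 1)],
  [(nat_lit 1), (nat_lit 4)],
  [(nat_lit 5), (nat_lit 1)],
  [(nat_lit 6), (nat_lit 2)],
  [(nat_lit 2), (nat_lit 7)],
  [(nat_lit 2), (nat_lit 8)],
  [(nat_lit 4), (nat_lit 4)],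
  [(nat_lit 3), (nat_lit 3)],
  [(nat_lit 2), (nat_lit 3), (nat_lit 2)],
  [(nat_lit 2), (nat_lit 4), (nat_lit 2)],
  [(nat_lit 4), (nat_lit 2), (nat_lit 2)],
  [(nat_lit 3), (nat_lit 2), (nat_lit 2)],
  [(nat_lit 2), (nat_lit 2), (nat_lit 6)],
  [(nat_lit 2), (nat_lit 2), (nat_lit 5)],
  [(nat_lit 2), (nat_lit 7), (nat_lit 4)],
  [(nat_lit 2), (nat_lit 4), (nat_lit 7)]],
 [[],
  [(nat_lit 2)],
  [(nat_lit 1)],
  [(nat_lit 4)],
  [(nat_lit 2), (nat_lit 2)],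
  [(nat_lit 6)],
  [(nat_lit 5)],
  [(nat_lit 4), (nat_lit 2)],
  [(nat_lit 4), (nat_lit 1)],
  [(nat_lit 5), (nat_lit 1)],
  [(nat_lit 6), (nat_lit 1)],
  [(nat_lit 2), (nat_lit 5)],
  [(nat_lit 2), (nat_lit 6)],
  [(nat_lit 4), (nat_lit 2), (nat_lit 2)],
  [(nat_lit 5), (nat_lit 1), (nat_lit 1)],
  [(nat_lit 6), (nat_lit 1), (nat_lit 1)]]]
noncomputable def TN3 : List (List (List Nat)) := [[[],
  [(nat_lit 2)],
  [(nat_lit 4)],
  [(nat_lit 3)],
  [(nat_lit 3), (nat_lit 2)],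
  [(nat_lit 4), (nat_lit 2)],
  [(nat_lit 4), (nat_lit 1)],
  [(nat_lit 3), (nat_lit 1)],
  [(nat_lit 2), (nat_lit 4)],
  [(nat_lit 2), (nat_lit 3)],
  [(nat_lit 2), (nat_lit 3), (nat_lit 2)],
  [(nat_lit 2), (nat_lit 3), (nat_lit 1)],
  [(nat_lit 4), (nat_lit 5)],
  [(nat_lit 2), (nat_lit 4), (nat_lit 2)],
  [(nat_lit 2), (nat_lit 4), (nat_lit 1)],
  [(nat_lit 3), (nat_lit 2), (nat_lit 2)],
  [(nat_lit 4), (nat_lit 6)],
  [(nat_lit 3), (nat_lit 1), (nat_lit 1)],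
  [(nat_lit 3), (nat_lit 2), (nat_lit 6)],
  [(nat_lit 4), (nat_lit 2), (nat_lit 6)],
  [(nat_lit 2), (nat_lit 4), (nat_lit 1), (nat_lit 1)],
  [(nat_lit 3), (nat_lit 1), (nat_lit 5)],
  [(nat_lit 4), (nat_lit 5), (nat_lit 1)],
  [(nat_lit 2), (nat_lit 3), (nat_lit 1), (nat_lit 1)],
  [(nat_lit 2), (nat_lit 4), (nat_lit 2), (nat_lit 2)],
  [(nat_lit 2), (nat_lit 3), (nat_lit 2), (nat_lit 2)],
  [(nat_lit 2), (nat_lit 3), (nat_lit 1), (nat_lit 5)],
  [(nat_lit 2), (nat_lit 3), (nat_lit 2), (nat_lit 6)],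
  [(nat_lit 4), (nat_lit 2), (nat_lit 6), (nat_lit 2)],
  [(nat_lit 2), (nat_lit 4), (nat_lit 1), (nat_lit 1), (nat_lit 1)],
  [(nat_lit 3), (nat_lit 2), (nat_lit 6), (nat_lit 2)],
  [(nat_lit 2), (nat_lit 4), (nat_lit 2), (nat_lit 6)],
  [(nat_lit 4), (nat_lit 4)],
  [(nat_lit 3), (nat_lit 3)],
  [(nat_lit 2), (nat_lit 4), (nat_lit 1), (nat_lit 1), (nat_lit 5)],
  [(nat_lit 2), (nat_lit 3), (nat_lit 1), (nat_lit 5), (nat_lit 1)],
  [(nat_lit 3), (nat_lit 2), (nat_lit 3)],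
  [(nat_lit 4), (nat_lit 4), (nat_lit 2)],
  [(nat_lit 4), (nat_lit 1), (nat_lit 3)],
  [(nat_lit 3), (nat_lit 2), (nat_lit 4)],
  [(nat_lit 4), (nat_lit 4), (nat_lit 1)],
  [(nat_lit 2), (nat_lit 4), (nat_lit 4)],
  [(nat_lit 4), (nat_lit 2), (nat_lit 3)],
  [(nat_lit 3), (nat_lit 3), (nat_lit 1)],
  [(nat_lit 3), (nat_lit 1), (nat_lit 4)],
  [(nat_lit 3), (nat_lit 2), (nat_lit 3), (nat_lit 2)],
  [(nat_lit 2), (nat_lit 3), (nat_lit 2), (nat_lit 3)],
  [(nat_lit 4), (nat_lit 6), (nat_lit 3)],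
  [(nat_lit 4), (nat_lit 5), (nat_lit 4)],
  [(nat_lit 4), (nat_lit 4), (nat_lit 2), (nat_lit 2)],
  [(nat_lit 4), (nat_lit 1), (nat_lit 3), (nat_lit 2)],
  [(nat_lit 4), (nat_lit 4), (nat_lit 1), (nat_lit 1)],
  [(nat_lit 3), (nat_lit 2), (nat_lit 2), (nat_lit 4)],
  [(nat_lit 4), (nat_lit 5), (nat_lit 3)],
  [(nat_lit 2), (nat_lit 4), (nat_lit 1), (nat_lit 3)],
  [(nat_lit 3), (nat_lit 3), (nat_lit 1), (nat_lit 1)],
  [(nat_lit 3), (nat_lit 1), (nat_lit 1), (nat_lit 3)],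
  [(nat_lit 4), (nat_lit 2), (nat_lit 3), (nat_lit 2)],
  [(nat_lit 4), (nat_lit 6), (nat_lit 4)],
  [(nat_lit 2), (nat_lit 4), (nat_lit 2), (nat_lit 3)],
  [(nat_lit 3), (nat_lit 1), (nat_lit 4), (nat_lit 1)],
  [(nat_lit 4), (nat_lit 2), (nat_lit 3), (nat_lit 1)],
  [(nat_lit 4), (nat_lit 1), (nat_lit 3), (nat_lit 1)],
  [(nat_lit 3), (nat_lit 2), (nat_lit 4), (nat_lit 2)],
  [(nat_lit 2), (nat_lit 4), (nat_lit 4), (nat_lit 2)],
  [(nat_lit 2), (nat_lit 3), (nat_lit 2), (nat_lit 4)],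
  [(nat_lit 2), (nat_lit 3), (nat_lit 1), (nat_lit 4)],
  [(nat_lit 3), (nat_lit 1), (nat_lit 4), (nat_lit 2)],
  [(nat_lit 3), (nat_lit 2), (nat_lit 2), (nat_lit 3)],
  [(nat_lit 3), (nat_lit 1), (nat_lit 1), (nat_lit 4)],
  [(nat_lit 3), (nat_lit 2), (nat_lit 4), (nat_lit 1)],
  [(nat_lit 4), (nat_lit 2), (nat_lit 6), (nat_lit 4)],
  [(nat_lit 2), (nat_lit 3), (nat_lit 2), (nat_lit 3), (nat_lit 2)],
  [(nat_lit 4), (nat_lit 5), (nat_lit 4), (nat_lit 2)],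
  [(nat_lit 4), (nat_lit 1), (nat_lit 3), (nat_lit 5)],
  [(nat_lit 2), (nat_lit 3), (nat_lit 2), (nat_lit 4), (nat_lit 1)],
  [(nat_lit 4), (nat_lit 4), (nat_lit 2), (nat_lit 6)],
  [(nat_lit 3), (nat_lit 2), (nat_lit 6), (nat_lit 4)],
  [(nat_lit 4), (nat_lit 5), (nat_lit 1), (nat_lit 3)],
  [(nat_lit 4), (nat_lit 1), (nat_lit 3), (nat_lit 6)],
  [(nat_lit 4), (nat_lit 5), (nat_lit 3), (nat_lit 2)],
  [(nat_lit 2), (nat_lit 4), (nat_lit 2), (nat_lit 2), (nat_lit 3)],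
  [(nat_lit 3), (nat_lit 2), (nat_lit 2), (nat_lit 4), (nat_lit 2)],
  [(nat_lit 4), (nat_lit 6), (nat_lit 4), (nat_lit 1)],
  [(nat_lit 2), (nat_lit 3), (nat_lit 2), (nat_lit 4), (nat_lit 2)],
  [(nat_lit 3), (nat_lit 2), (nat_lit 2), (nat_lit 4), (nat_lit 1)],
  [(nat_lit 2), (nat_lit 3), (nat_lit 1), (nat_lit 4), (nat_lit 1)],
  [(nat_lit 3), (nat_lit 2), (nat_lit 4), (nat_lit 5)],
  [(nat_lit 4), (nat_lit 2), (nat_lit 6), (nat_lit 3)],
  [(nat_lit 3), (nat_lit 1), (nat_lit 5), (nat_lit 4)],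
  [(nat_lit 4), (nat_lit 5), (nat_lit 3), (nat_lit 1)],
  [(nat_lit 2), (nat_lit 3), (nat_lit 1), (nat_lit 4), (nat_lit 2)],
  [(nat_lit 3), (nat_lit 3), (nat_lit 1), (nat_lit 5)],
  [(nat_lit 2), (nat_lit 4), (nat_lit 4), (nat_lit 6)],
  [(nat_lit 4), (nat_lit 6), (nat_lit 4), (nat_lit 2)],
  [(nat_lit 2), (nat_lit 4), (nat_lit 2), (nat_lit 3), (nat_lit 1)],
  [(nat_lit 2), (nat_lit 4), (nat_lit 1), (nat_lit 3), (nat_lit 2)],
  [(nat_lit 4), (nat_lit 6), (nat_lit 3), (nat_lit 2)],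
  [(nat_lit 3), (nat_lit 2), (nat_lit 4), (nat_lit 6)],
  [(nat_lit 3), (nat_lit 1), (nat_lit 1), (nat_lit 3), (nat_lit 2)],
  [(nat_lit 2), (nat_lit 4), (nat_lit 2), (nat_lit 3), (nat_lit 2)],
  [(nat_lit 2), (nat_lit 4), (nat_lit 1), (nat_lit 3), (nat_lit 1)],
  [(nat_lit 3), (nat_lit 1), (nat_lit 1), (nat_lit 3), (nat_lit 1)],
  [(nat_lit 4), (nat_lit 6), (nat_lit 3), (nat_lit 1)],
  [(nat_lit 3), (nat_lit 1), (nat_lit 1), (nat_lit 4), (nat_lit 2)],
  [(nat_lit 2), (nat_lit 3), (nat_lit 1), (nat_lit 5), (nat_lit 3)],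
  [(nat_lit 4), (nat_lit 2), (nat_lit 6), (nat_lit 4), (nat_lit 2)],
  [(nat_lit 4), (nat_lit 2), (nat_lit 6), (nat_lit 2), (nat_lit 3)],
  [(nat_lit 4), (nat_lit 6), (nat_lit 3), (nat_lit 6)],
  [(nat_lit 3), (nat_lit 2), (nat_lit 6), (nat_lit 4), (nat_lit 1)],
  [(nat_lit 4), (nat_lit 6), (nat_lit 4), (nat_lit 6)],
  [(nat_lit 4), (nat_lit 2), (nat_lit 6), (nat_lit 3), (nat_lit 2)],
  [(nat_lit 3), (nat_lit 1), (nat_lit 1), (nat_lit 3), (nat_lit 6)],
  [(nat_lit 4), (nat_lit 5), (nat_lit 1), (nat_lit 3), (nat_lit 1)],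
  [(nat_lit 3), (nat_lit 1), (nat_lit 5), (nat_lit 4), (nat_lit 2)],
  [(nat_lit 2), (nat_lit 3), (nat_lit 2), (nat_lit 6), (nat_lit 4)],
  [(nat_lit 4), (nat_lit 2), (nat_lit 6), (nat_lit 2), (nat_lit 4)],
  [(nat_lit 3), (nat_lit 1), (nat_lit 5), (nat_lit 4), (nat_lit 1)],
  [(nat_lit 4), (nat_lit 5), (nat_lit 1), (nat_lit 3), (nat_lit 2)],
  [(nat_lit 4), (nat_lit 6), (nat_lit 3), (nat_lit 5)],
  [(nat_lit 3), (nat_lit 2), (nat_lit 6), (nat_lit 4), (nat_lit 2)],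
  [(nat_lit 4), (nat_lit 2), (nat_lit 6), (nat_lit 3), (nat_lit 1)],
  [(nat_lit 3), (nat_lit 1), (nat_lit 1), (nat_lit 3), (nat_lit 5)],
  [(nat_lit 2), (nat_lit 3), (nat_lit 1), (nat_lit 5), (nat_lit 4)],
  [(nat_lit 3), (nat_lit 2), (nat_lit 2), (nat_lit 4), (nat_lit 5)],
  [(nat_lit 4), (nat_lit 6), (nat_lit 4), (nat_lit 1), (nat_lit 1)],
  [(nat_lit 2), (nat_lit 4), (nat_lit 1), (nat_lit 3), (nat_lit 5)],
  [(nat_lit 2), (nat_lit 3), (nat_lit 2), (nat_lit 4), (nat_lit 2), (nat_lit 2)],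
  [(nat_lit 2), (nat_lit 4), (nat_lit 1), (nat_lit 3), (nat_lit 6)],
  [(nat_lit 2), (nat_lit 4), (nat_lit 2), (nat_lit 6), (nat_lit 3)],
  [(nat_lit 2), (nat_lit 4), (nat_lit 1), (nat_lit 1), (nat_lit 1), (nat_lit 3)],
  [(nat_lit 3), (nat_lit 2), (nat_lit 6), (nat_lit 2), (nat_lit 3)],
  [(nat_lit 3), (nat_lit 2), (nat_lit 2), (nat_lit 4), (nat_lit 6)],
  [(nat_lit 2), (nat_lit 3), (nat_lit 2), (nat_lit 4), (nat_lit 1), (nat_lit 1)],
  [(nat_lit 4), (nat_lit 4), (nat_lit 4)],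
  [(nat_lit 2), (nat_lit 3), (nat_lit 1), (nat_lit 5), (nat_lit 3), (nat_lit 2)],
  [(nat_lit 4), (nat_lit 2), (nat_lit 6), (nat_lit 2), (nat_lit 3), (nat_lit 2)],
  [(nat_lit 2), (nat_lit 4), (nat_lit 1), (nat_lit 1), (nat_lit 1), (nat_lit 3), (nat_lit 2)],
  [(nat_lit 4), (nat_lit 5), (nat_lit 1), (nat_lit 3), (nat_lit 6)],
  [(nat_lit 2), (nat_lit 3), (nat_lit 1), (nat_lit 5), (nat_lit 4), (nat_lit 2)],
  [(nat_lit 2), (nat_lit 3), (nat_lit 2), (nat_lit 6), (nat_lit 4), (nat_lit 1)],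
  [(nat_lit 4), (nat_lit 2), (nat_lit 6), (nat_lit 3), (nat_lit 2), (nat_lit 2)],
  [(nat_lit 3), (nat_lit 1), (nat_lit 1), (nat_lit 3), (nat_lit 6), (nat_lit 2)],
  [(nat_lit 3), (nat_lit 2), (nat_lit 6), (nat_lit 4), (nat_lit 1), (nat_lit 1)],
  [(nat_lit 4), (nat_lit 6), (nat_lit 4), (nat_lit 6), (nat_lit 2)],
  [(nat_lit 2), (nat_lit 4), (nat_lit 1), (nat_lit 1), (nat_lit 1), (nat_lit 3), (nat_lit 1)],
  [(nat_lit 2), (nat_lit 4), (nat_lit 2), (nat_lit 6), (nat_lit 3), (nat_lit 2)],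
  [(nat_lit 2), (nat_lit 3), (nat_lit 1), (nat_lit 5), (nat_lit 4), (nat_lit 1)],
  [(nat_lit 2), (nat_lit 3), (nat_lit 2), (nat_lit 6), (nat_lit 4), (nat_lit 2)],
  [(nat_lit 2), (nat_lit 4), (nat_lit 2), (nat_lit 6), (nat_lit 3), (nat_lit 1)],
  [(nat_lit 3), (nat_lit 1), (nat_lit 1), (nat_lit 3), (nat_lit 5), (nat_lit 1)],
  [(nat_lit 3), (nat_lit 2), (nat_lit 6), (nat_lit 4), (nat_lit 6)],
  [(nat_lit 4), (nat_lit 2), (nat_lit 6), (nat_lit 2), (nat_lit 4), (nat_lit 2)],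
  [(nat_lit 4), (nat_lit 2), (nat_lit 3), (nat_lit 3)],
  [(nat_lit 4), (nat_lit 1), (nat_lit 3), (nat_lit 3)],
  [(nat_lit 4), (nat_lit 4), (nat_lit 2), (nat_lit 3)],
  [(nat_lit 4), (nat_lit 4), (nat_lit 4), (nat_lit 2)],
  [(nat_lit 4), (nat_lit 4), (nat_lit 1), (nat_lit 3)],
  [(nat_lit 2), (nat_lit 3), (nat_lit 2), (nat_lit 6), (nat_lit 4), (nat_lit 6)],
  [(nat_lit 2), (nat_lit 3), (nat_lit 2), (nat_lit 6), (nat_lit 4), (nat_lit 5)],
  [(nat_lit 2), (nat_lit 4), (nat_lit 1), (nat_lit 1), (nat_lit 1), (nat_lit 3), (nat_lit 1), (nat_lit 1)],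
  [(nat_lit 2), (nat_lit 4), (nat_lit 1), (nat_lit 1), (nat_lit 1), (nat_lit 3), (nat_lit 2), (nat_lit 2)],
  [(nat_lit 4), (nat_lit 2), (nat_lit 3), (nat_lit 1), (nat_lit 4)],
  [(nat_lit 3), (nat_lit 1), (nat_lit 4), (nat_lit 2), (nat_lit 3)],
  [(nat_lit 4), (nat_lit 4), (nat_lit 2), (nat_lit 3), (nat_lit 1)],
  [(nat_lit 4), (nat_lit 4), (nat_lit 2), (nat_lit 2), (nat_lit 4)],
  [(nat_lit 4), (nat_lit 2), (nat_lit 3), (nat_lit 2), (nat_lit 4)],
  [(nat_lit 2), (nat_lit 3), (nat_lit 1), (nat_lit 4), (nat_lit 4)],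
  [(nat_lit 4), (nat_lit 2), (nat_lit 3), (nat_lit 3), (nat_lit 1)],
  [(nat_lit 4), (nat_lit 1), (nat_lit 3), (nat_lit 1), (nat_lit 4)],
  [(nat_lit 4), (nat_lit 1), (nat_lit 3), (nat_lit 2), (nat_lit 4)],
  [(nat_lit 2), (nat_lit 4), (nat_lit 1), (nat_lit 3), (nat_lit 3)],
  [(nat_lit 4), (nat_lit 4), (nat_lit 4), (nat_lit 6)],
  [(nat_lit 4), (nat_lit 4), (nat_lit 2), (nat_lit 3), (nat_lit 2)],
  [(nat_lit 3), (nat_lit 1), (nat_lit 1), (nat_lit 3), (nat_lit 3)],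
  [(nat_lit 4), (nat_lit 4), (nat_lit 1), (nat_lit 1), (nat_lit 4)],
  [(nat_lit 4), (nat_lit 5), (nat_lit 4), (nat_lit 4)],
  [(nat_lit 4), (nat_lit 1), (nat_lit 3), (nat_lit 3), (nat_lit 1)],
  [(nat_lit 2), (nat_lit 4), (nat_lit 2), (nat_lit 3), (nat_lit 3)],
  [(nat_lit 4), (nat_lit 6), (nat_lit 4), (nat_lit 4)],
  [(nat_lit 3), (nat_lit 3), (nat_lit 1), (nat_lit 1), (nat_lit 3)],
  [(nat_lit 3), (nat_lit 1), (nat_lit 4), (nat_lit 1), (nat_lit 3)],
  [(nat_lit 2), (nat_lit 4), (nat_lit 2), (nat_lit 3), (nat_lit 1), (nat_lit 4)],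
  [(nat_lit 2), (nat_lit 4), (nat_lit 4), (nat_lit 6), (nat_lit 4)],
  [(nat_lit 4), (nat_lit 1), (nat_lit 3), (nat_lit 2), (nat_lit 4), (nat_lit 1)],
  [(nat_lit 4), (nat_lit 1), (nat_lit 3), (nat_lit 3), (nat_lit 6)],
  [(nat_lit 4), (nat_lit 4), (nat_lit 2), (nat_lit 3), (nat_lit 1), (nat_lit 1)],
  [(nat_lit 4), (nat_lit 2), (nat_lit 6), (nat_lit 3), (nat_lit 3)],
  [(nat_lit 4), (nat_lit 2), (nat_lit 3), (nat_lit 3), (nat_lit 5)],
  [(nat_lit 4), (nat_lit 1), (nat_lit 3), (nat_lit 3), (nat_lit 5)],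
  [(nat_lit 4), (nat_lit 4), (nat_lit 2), (nat_lit 3), (nat_lit 6)],
  [(nat_lit 4), (nat_lit 1), (nat_lit 3), (nat_lit 1), (nat_lit 4), (nat_lit 1)],
  [(nat_lit 3), (nat_lit 1), (nat_lit 1), (nat_lit 3), (nat_lit 2), (nat_lit 4)],
  [(nat_lit 4), (nat_lit 6), (nat_lit 4), (nat_lit 4), (nat_lit 2)],
  [(nat_lit 4), (nat_lit 2), (nat_lit 3), (nat_lit 1), (nat_lit 4), (nat_lit 1)],
  [(nat_lit 2), (nat_lit 3), (nat_lit 1), (nat_lit 4), (nat_lit 2), (nat_lit 3)],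
  [(nat_lit 4), (nat_lit 5), (nat_lit 4), (nat_lit 2), (nat_lit 3)],
  [(nat_lit 4), (nat_lit 1), (nat_lit 3), (nat_lit 1), (nat_lit 4), (nat_lit 2)],
  [(nat_lit 2), (nat_lit 4), (nat_lit 2), (nat_lit 3), (nat_lit 2), (nat_lit 4)],
  [(nat_lit 2), (nat_lit 3), (nat_lit 2), (nat_lit 4), (nat_lit 1), (nat_lit 3)],
  [(nat_lit 4), (nat_lit 5), (nat_lit 1), (nat_lit 3), (nat_lit 3)],
  [(nat_lit 4), (nat_lit 1), (nat_lit 3), (nat_lit 2), (nat_lit 4), (nat_lit 2)],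
  [(nat_lit 3), (nat_lit 2), (nat_lit 6), (nat_lit 4), (nat_lit 4)],
  [(nat_lit 4), (nat_lit 4), (nat_lit 2), (nat_lit 2), (nat_lit 4), (nat_lit 2)],
  [(nat_lit 2), (nat_lit 4), (nat_lit 2), (nat_lit 3), (nat_lit 3), (nat_lit 1)],
  [(nat_lit 4), (nat_lit 1), (nat_lit 3), (nat_lit 6), (nat_lit 3)],
  [(nat_lit 3), (nat_lit 1), (nat_lit 4), (nat_lit 1), (nat_lit 3), (nat_lit 1)],
  [(nat_lit 4), (nat_lit 2), (nat_lit 3), (nat_lit 2), (nat_lit 4), (nat_lit 1)],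
  [(nat_lit 3), (nat_lit 1), (nat_lit 4), (nat_lit 2), (nat_lit 3), (nat_lit 1)],
  [(nat_lit 4), (nat_lit 4), (nat_lit 1), (nat_lit 1), (nat_lit 4), (nat_lit 2)],
  [(nat_lit 4), (nat_lit 2), (nat_lit 3), (nat_lit 2), (nat_lit 4), (nat_lit 2)],
  [(nat_lit 4), (nat_lit 4), (nat_lit 2), (nat_lit 6), (nat_lit 3)],
  [(nat_lit 4), (nat_lit 6), (nat_lit 4), (nat_lit 2), (nat_lit 3)],
  [(nat_lit 4), (nat_lit 2), (nat_lit 3), (nat_lit 1), (nat_lit 4), (nat_lit 2)],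
  [(nat_lit 4), (nat_lit 4), (nat_lit 4), (nat_lit 6), (nat_lit 2)],
  [(nat_lit 4), (nat_lit 1), (nat_lit 3), (nat_lit 5), (nat_lit 3)],
  [(nat_lit 4), (nat_lit 6), (nat_lit 4), (nat_lit 1), (nat_lit 3)],
  [(nat_lit 2), (nat_lit 4), (nat_lit 1), (nat_lit 3), (nat_lit 3), (nat_lit 2)],
  [(nat_lit 2), (nat_lit 3), (nat_lit 2), (nat_lit 4), (nat_lit 2), (nat_lit 3)],
  [(nat_lit 2), (nat_lit 3), (nat_lit 1), (nat_lit 4), (nat_lit 4), (nat_lit 2)],
  [(nat_lit 3), (nat_lit 1), (nat_lit 1), (nat_lit 3), (nat_lit 1), (nat_lit 4)],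
  [(nat_lit 2), (nat_lit 3), (nat_lit 1), (nat_lit 4), (nat_lit 1), (nat_lit 3)],
  [(nat_lit 3), (nat_lit 1), (nat_lit 4), (nat_lit 2), (nat_lit 3), (nat_lit 5)],
  [(nat_lit 2), (nat_lit 4), (nat_lit 4), (nat_lit 6), (nat_lit 4), (nat_lit 1)],
  [(nat_lit 3), (nat_lit 2), (nat_lit 6), (nat_lit 4), (nat_lit 1), (nat_lit 3)],
  [(nat_lit 2), (nat_lit 4), (nat_lit 2), (nat_lit 3), (nat_lit 1), (nat_lit 4), (nat_lit 2)],
  [(nat_lit 2), (nat_lit 4), (nat_lit 1), (nat_lit 3), (nat_lit 3), (nat_lit 5)],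
  [(nat_lit 4), (nat_lit 2), (nat_lit 3), (nat_lit 2), (nat_lit 4), (nat_lit 6)],
  [(nat_lit 2), (nat_lit 4), (nat_lit 2), (nat_lit 3), (nat_lit 1), (nat_lit 4), (nat_lit 1)],
  [(nat_lit 4), (nat_lit 4), (nat_lit 2), (nat_lit 3), (nat_lit 6), (nat_lit 2)],
  [(nat_lit 3), (nat_lit 1), (nat_lit 1), (nat_lit 3), (nat_lit 6), (nat_lit 3)],
  [(nat_lit 4), (nat_lit 1), (nat_lit 3), (nat_lit 3), (nat_lit 5), (nat_lit 1)],
  [(nat_lit 3), (nat_lit 1), (nat_lit 1), (nat_lit 3), (nat_lit 2), (nat_lit 4), (nat_lit 2)],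
  [(nat_lit 4), (nat_lit 2), (nat_lit 6), (nat_lit 3), (nat_lit 2), (nat_lit 4)],
  [(nat_lit 2), (nat_lit 4), (nat_lit 2), (nat_lit 3), (nat_lit 3), (nat_lit 1), (nat_lit 1)],
  [(nat_lit 4), (nat_lit 1), (nat_lit 3), (nat_lit 1), (nat_lit 4), (nat_lit 6)],
  [(nat_lit 4), (nat_lit 6), (nat_lit 4), (nat_lit 6), (nat_lit 4)],
  [(nat_lit 2), (nat_lit 3), (nat_lit 2), (nat_lit 6), (nat_lit 4), (nat_lit 4)],
  [(nat_lit 2), (nat_lit 4), (nat_lit 4), (nat_lit 6), (nat_lit 4), (nat_lit 2)],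
  [(nat_lit 2), (nat_lit 3), (nat_lit 1), (nat_lit 4), (nat_lit 4), (nat_lit 6)],
  [(nat_lit 4), (nat_lit 6), (nat_lit 4), (nat_lit 2), (nat_lit 3), (nat_lit 2)],
  [(nat_lit 2), (nat_lit 4), (nat_lit 1), (nat_lit 3), (nat_lit 3), (nat_lit 6)],
  [(nat_lit 3), (nat_lit 1), (nat_lit 1), (nat_lit 3), (nat_lit 2), (nat_lit 4), (nat_lit 1)],
  [(nat_lit 4), (nat_lit 5), (nat_lit 1), (nat_lit 3), (nat_lit 1), (nat_lit 4)],
  [(nat_lit 2), (nat_lit 3), (nat_lit 1), (nat_lit 4), (nat_lit 2), (nat_lit 3), (nat_lit 1)],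
  [(nat_lit 4), (nat_lit 1), (nat_lit 3), (nat_lit 1), (nat_lit 4), (nat_lit 1), (nat_lit 1)],
  [(nat_lit 4), (nat_lit 5), (nat_lit 1), (nat_lit 3), (nat_lit 3), (nat_lit 1)],
  [(nat_lit 4), (nat_lit 2), (nat_lit 6), (nat_lit 2), (nat_lit 4), (nat_lit 4)],
  [(nat_lit 3), (nat_lit 2), (nat_lit 6), (nat_lit 4), (nat_lit 4), (nat_lit 2)],
  [(nat_lit 4), (nat_lit 1), (nat_lit 3), (nat_lit 3), (nat_lit 6), (nat_lit 6)],
  [(nat_lit 4), (nat_lit 4), (nat_lit 2), (nat_lit 3), (nat_lit 1), (nat_lit 1), (nat_lit 5)],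
  [(nat_lit 3), (nat_lit 1), (nat_lit 1), (nat_lit 3), (nat_lit 6), (nat_lit 2), (nat_lit 4)]],
 [[],
  [(nat_lit 2)],
  [(nat_lit 1)],
  [(nat_lit 2), (nat_lit 2)]]]

end CF.Dce.Ly
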