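import Cfsg.Agent.Dce.Defs

set_option autoImplicit false
set_option maxRecDepth 1000000
set_option maxHeartbeats 0
set_option Elab.async false

namespace CF.Dce.Ly
open CF.Comp

noncomputable def rels : List (List Nat) := [[(nat_lit 1), (nat_lit 1), (nat_lit 1), (nat_lit 1), (nat_lit 1), (nat_lit 1), (nat_lit 1), (nat_lit 1)],
  [(nat_lit 3), (nat_lit 3), (nat_lit 3), (nat_lit 3), (nat_lit 3)],
  [(nat_lit 1), (nat_lit 3), (nat_lit 1), (nat_lit 3), (nat_lit 1), (nat_lit 3), (nat_lit 1), (nat_lit 3)],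
  [(nat_lit 2), (nat_lit 2), (nat_lit 4), (nat_lit 1), (nat_lit 1), (nat_lit 3)],
  [(nat_lit 2), (nat_lit 4), (nat_lit 1), (nat_lit 3), (nat_lit 2), (nat_lit 4), (nat_lit 1), (nat_lit 3), (nat_lit 2), (nat_lit 4), (nat_lit 1), (nat_lit 3)],
  [(nat_lit 21), (nat_lit 6)],
  [(nat_lit 23), (nat_lit 2), (nat_lit 6), (nat_lit 1)],
  [(nat_lit 25), (nat_lit 4), (nat_lit 6), (nat_lit 3)],
  [(nat_lit 27), (nat_lit 3), (nat_lit 6), (nat_lit 4)],
  [(nat_lit 29), (nat_lit 24), (nat_lit 22), (nat_lit 23), (nat_lit 21)],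
  [(nat_lit 21), (nat_lit 21), (nat_lit 21), (nat_lit 21), (nat_lit 21)],
  [(nat_lit 29), (nat_lit 29), (nat_lit 29), (nat_lit 29), (nat_lit 29)],
  [(nat_lit 22), (nat_lit 30), (nat_lit 21), (nat_lit 29)],
  [(nat_lit 24), (nat_lit 30), (nat_lit 23), (nat_lit 29)],
  [(nat_lit 26), (nat_lit 30), (nat_lit 25), (nat_lit 29)],
  [(nat_lit 28), (nat_lit 30), (nat_lit 27), (nat_lit 29)],
  [(nat_lit 22), (nat_lit 26), (nat_lit 21), (nat_lit 25), (nat_lit 29), (nat_lit 29)],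
  [(nat_lit 22), (nat_lit 28), (nat_lit 21), (nat_lit 27), (nat_lit 30), (nat_lit 30)],
  [(nat_lit 24), (nat_lit 26), (nat_lit 23), (nat_lit 25), (nat_lit 29)],
  [(nat_lit 24), (nat_lit 28), (nat_lit 23), (nat_lit 27)],
  [(nat_lit 26), (nat_lit 28), (nat_lit 25), (nat_lit 27), (nat_lit 29)],
  [(nat_lit 2), (nat_lit 23), (nat_lit 1), (nat_lit 21), (nat_lit 21)],
  [(nat_lit 2), (nat_lit 25), (nat_lit 1), (nat_lit 28), (nat_lit 22), (nat_lit 25), (nat_lit 25)],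
  [(nat_lit 2), (nat_lit 27), (nat_lit 1), (nat_lit 28), (nat_lit 22), (nat_lit 28), (nat_lit 25), (nat_lit 23), (nat_lit 22)],
  [(nat_lit 2), (nat_lit 29), (nat_lit 1), (nat_lit 30), (nat_lit 30)],
  [(nat_lit 4), (nat_lit 23), (nat_lit 3), (nat_lit 27), (nat_lit 21), (nat_lit 27), (nat_lit 26), (nat_lit 24)],
  [(nat_lit 4), (nat_lit 25), (nat_lit 3), (nat_lit 25), (nat_lit 25), (nat_lit 28), (nat_lit 22), (nat_lit 22)],
  [(nat_lit 4), (nat_lit 29), (nat_lit 3), (nat_lit 30)],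
  [(nat_lit 11), (nat_lit 8), (nat_lit 22), (nat_lit 8), (nat_lit 3), (nat_lit 2), (nat_lit 4), (nat_lit 22), (nat_lit 8), (nat_lit 2), (nat_lit 22), (nat_lit 1), (nat_lit 22), (nat_lit 2), (nat_lit 21), (nat_lit 1), (nat_lit 3), (nat_lit 3)],
  [(nat_lit 11), (nat_lit 11)],
  [(nat_lit 12), (nat_lit 21), (nat_lit 11), (nat_lit 21), (nat_lit 4), (nat_lit 26), (nat_lit 4)],
  [(nat_lit 12), (nat_lit 25), (nat_lit 11), (nat_lit 1), (nat_lit 27), (nat_lit 21), (nat_lit 24), (nat_lit 2), (nat_lit 4), (nat_lit 4)],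
  [(nat_lit 12), (nat_lit 27), (nat_lit 11), (nat_lit 28), (nat_lit 25), (nat_lit 4), (nat_lit 4)],
  [(nat_lit 12), (nat_lit 29), (nat_lit 11), (nat_lit 27), (nat_lit 22), (nat_lit 25), (nat_lit 22)],
  [(nat_lit 11), (nat_lit 1), (nat_lit 1), (nat_lit 11), (nat_lit 27), (nat_lit 30), (nat_lit 22), (nat_lit 2), (nat_lit 3), (nat_lit 2), (nat_lit 4), (nat_lit 4), (nat_lit 2)],
  [(nat_lit 12), (nat_lit 3), (nat_lit 11), (nat_lit 27), (nat_lit 27), (nat_lit 25), (nat_lit 22)],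
  [(nat_lit 11), (nat_lit 1), (nat_lit 3), (nat_lit 3), (nat_lit 1), (nat_lit 4), (nat_lit 1), (nat_lit 11), (nat_lit 27), (nat_lit 30), (nat_lit 22), (nat_lit 2), (nat_lit 2)],
  [(nat_lit 11), (nat_lit 23), (nat_lit 11), (nat_lit 24), (nat_lit 11), (nat_lit 23), (nat_lit 28), (nat_lit 1), (nat_lit 25), (nat_lit 1), (nat_lit 1), (nat_lit 1)],
  [(nat_lit 7), (nat_lit 12), (nat_lit 4), (nat_lit 23), (nat_lit 2), (nat_lit 12), (nat_lit 2), (nat_lit 12), (nat_lit 2), (nat_lit 29), (nat_lit 27), (nat_lit 21), (nat_lit 3), (nat_lit 1), (nat_lit 4), (nat_lit 4), (nat_lit 2)],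
  [(nat_lit 7), (nat_lit 7), (nat_lit 2), (nat_lit 2), (nat_lit 2), (nat_lit 2)],
  [(nat_lit 4), (nat_lit 8), (nat_lit 3), (nat_lit 7)],
  [(nat_lit 8), (nat_lit 1), (nat_lit 7), (nat_lit 2), (nat_lit 2), (nat_lit 2)],
  [(nat_lit 7), (nat_lit 29), (nat_lit 7), (nat_lit 29), (nat_lit 7), (nat_lit 29), (nat_lit 7), (nat_lit 29), (nat_lit 7), (nat_lit 29)],
  [(nat_lit 7), (nat_lit 29), (nat_lit 7), (nat_lit 30), (nat_lit 7), (nat_lit 29), (nat_lit 2), (nat_lit 2)],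
  [(nat_lit 13), (nat_lit 2)],
  [(nat_lit 15), (nat_lit 3), (nat_lit 2), (nat_lit 4)],
  [(nat_lit 17), (nat_lit 3), (nat_lit 3), (nat_lit 2), (nat_lit 4), (nat_lit 4)],
  [(nat_lit 19), (nat_lit 4), (nat_lit 4), (nat_lit 2), (nat_lit 3), (nat_lit 3)],
  [(nat_lit 31), (nat_lit 2), (nat_lit 2)],
  [(nat_lit 33), (nat_lit 8)],
  [(nat_lit 35), (nat_lit 7)],
  [(nat_lit 37), (nat_lit 4), (nat_lit 6), (nat_lit 1), (nat_lit 4), (nat_lit 4), (nat_lit 5), (nat_lit 8), (nat_lit 5), (nat_lit 1), (nat_lit 6), (nat_lit 2), (nat_lit 5), (nat_lit 4), (nat_lit 4), (nat_lit 1), (nat_lit 3), (nat_lit 1), (nat_lit 4), (nat_lit 4)],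
  [(nat_lit 39), (nat_lit 6), (nat_lit 4), (nat_lit 6), (nat_lit 8), (nat_lit 3), (nat_lit 3), (nat_lit 6), (nat_lit 8), (nat_lit 3), (nat_lit 6), (nat_lit 4), (nat_lit 6), (nat_lit 2), (nat_lit 5), (nat_lit 4), (nat_lit 4), (nat_lit 1), (nat_lit 4), (nat_lit 4), (nat_lit 1), (nat_lit 4), (nat_lit 2)],
  [(nat_lit 41), (nat_lit 7), (nat_lit 5), (nat_lit 4), (nat_lit 1), (nat_lit 5), (nat_lit 1), (nat_lit 7), (nat_lit 5)],
  [(nat_lit 43), (nat_lit 8), (nat_lit 4)],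
  [(nat_lit 45), (nat_lit 3), (nat_lit 7)],
  [(nat_lit 47), (nat_lit 2), (nat_lit 4), (nat_lit 5), (nat_lit 2), (nat_lit 3), (nat_lit 5), (nat_lit 4), (nat_lit 1), (nat_lit 3), (nat_lit 1)],
  [(nat_lit 49), (nat_lit 4), (nat_lit 6), (nat_lit 4), (nat_lit 1), (nat_lit 6), (nat_lit 2), (nat_lit 3), (nat_lit 3)],
  [(nat_lit 51), (nat_lit 2), (nat_lit 4), (nat_lit 2), (nat_lit 6), (nat_lit 1), (nat_lit 3), (nat_lit 1)],
  [(nat_lit 53), (nat_lit 4), (nat_lit 2), (nat_lit 3), (nat_lit 6), (nat_lit 4), (nat_lit 1), (nat_lit 3)],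
  [(nat_lit 55), (nat_lit 5), (nat_lit 3), (nat_lit 3), (nat_lit 6), (nat_lit 2), (nat_lit 4), (nat_lit 6), (nat_lit 3), (nat_lit 1), (nat_lit 4), (nat_lit 4)],
  [(nat_lit 57), (nat_lit 1), (nat_lit 1), (nat_lit 1)],
  [(nat_lit 59), (nat_lit 1), (nat_lit 1), (nat_lit 3), (nat_lit 1), (nat_lit 4)],
  [(nat_lit 61), (nat_lit 1), (nat_lit 3), (nat_lit 3), (nat_lit 2), (nat_lit 4), (nat_lit 4), (nat_lit 2)],
  [(nat_lit 63), (nat_lit 3), (nat_lit 2), (nat_lit 4), (nat_lit 2), (nat_lit 3), (nat_lit 2), (nat_lit 5), (nat_lit 1), (nat_lit 3), (nat_lit 5), (nat_lit 4), (nat_lit 7), (nat_lit 5), (nat_lit 4), (nat_lit 1), (nat_lit 5), (nat_lit 3), (nat_lit 8), (nat_lit 1)],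
  [(nat_lit 65), (nat_lit 7), (nat_lit 3), (nat_lit 6), (nat_lit 1), (nat_lit 6), (nat_lit 2), (nat_lit 6), (nat_lit 8), (nat_lit 5), (nat_lit 5), (nat_lit 1), (nat_lit 4), (nat_lit 5), (nat_lit 4), (nat_lit 6), (nat_lit 1), (nat_lit 3), (nat_lit 3), (nat_lit 2)],
  [(nat_lit 67), (nat_lit 6), (nat_lit 4), (nat_lit 6), (nat_lit 8), (nat_lit 3), (nat_lit 3), (nat_lit 6), (nat_lit 8), (nat_lit 4), (nat_lit 6), (nat_lit 4), (nat_lit 4), (nat_lit 6), (nat_lit 3), (nat_lit 1), (nat_lit 3), (nat_lit 3), (nat_lit 1), (nat_lit 3), (nat_lit 2), (nat_lit 4)],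
  [(nat_lit 69), (nat_lit 3), (nat_lit 1), (nat_lit 4), (nat_lit 2), (nat_lit 4), (nat_lit 4), (nat_lit 2), (nat_lit 4), (nat_lit 5), (nat_lit 3), (nat_lit 3), (nat_lit 5), (nat_lit 3), (nat_lit 7), (nat_lit 5), (nat_lit 4), (nat_lit 4), (nat_lit 7), (nat_lit 5), (nat_lit 3), (nat_lit 5)],
  [(nat_lit 71), (nat_lit 3), (nat_lit 3), (nat_lit 1), (nat_lit 3), (nat_lit 5), (nat_lit 3), (nat_lit 3), (nat_lit 6), (nat_lit 2), (nat_lit 5), (nat_lit 1), (nat_lit 7), (nat_lit 5), (nat_lit 2), (nat_lit 3), (nat_lit 5), (nat_lit 2), (nat_lit 7), (nat_lit 5), (nat_lit 1)],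
  [(nat_lit 73), (nat_lit 3), (nat_lit 2), (nat_lit 3), (nat_lit 3), (nat_lit 2), (nat_lit 3), (nat_lit 5), (nat_lit 3), (nat_lit 1), (nat_lit 4), (nat_lit 7), (nat_lit 5), (nat_lit 3), (nat_lit 1), (nat_lit 4), (nat_lit 7), (nat_lit 5), (nat_lit 1)],
  [(nat_lit 75), (nat_lit 1), (nat_lit 4), (nat_lit 1), (nat_lit 3), (nat_lit 3), (nat_lit 1), (nat_lit 6), (nat_lit 1), (nat_lit 3), (nat_lit 2), (nat_lit 7), (nat_lit 5), (nat_lit 1), (nat_lit 6), (nat_lit 4), (nat_lit 6), (nat_lit 2), (nat_lit 7)],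
  [(nat_lit 77), (nat_lit 4), (nat_lit 1), (nat_lit 3), (nat_lit 1), (nat_lit 3), (nat_lit 6), (nat_lit 2), (nat_lit 6), (nat_lit 1), (nat_lit 6), (nat_lit 7), (nat_lit 5), (nat_lit 4), (nat_lit 6), (nat_lit 1), (nat_lit 5)],
  [(nat_lit 10), (nat_lit 21), (nat_lit 9), (nat_lit 48)],
  [(nat_lit 10), (nat_lit 23), (nat_lit 9), (nat_lit 50)],
  [(nat_lit 10), (nat_lit 25), (nat_lit 9), (nat_lit 52)],
  [(nat_lit 10), (nat_lit 27), (nat_lit 9), (nat_lit 54)],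
  [(nat_lit 10), (nat_lit 29), (nat_lit 9), (nat_lit 56)],
  [(nat_lit 10), (nat_lit 13), (nat_lit 9), (nat_lit 58)],
  [(nat_lit 10), (nat_lit 15), (nat_lit 9), (nat_lit 60)],
  [(nat_lit 10), (nat_lit 17), (nat_lit 9), (nat_lit 62)],
  [(nat_lit 9), (nat_lit 9), (nat_lit 32)],
  [(nat_lit 19), (nat_lit 9), (nat_lit 19), (nat_lit 9), (nat_lit 19), (nat_lit 9), (nat_lit 31)],
  [(nat_lit 41), (nat_lit 9), (nat_lit 63), (nat_lit 9), (nat_lit 71), (nat_lit 9)],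
  [(nat_lit 10), (nat_lit 35), (nat_lit 10), (nat_lit 73), (nat_lit 9), (nat_lit 33), (nat_lit 9), (nat_lit 39)],
  [(nat_lit 9), (nat_lit 67), (nat_lit 9), (nat_lit 65), (nat_lit 10), (nat_lit 69), (nat_lit 10), (nat_lit 75)],
  [(nat_lit 9), (nat_lit 43), (nat_lit 9), (nat_lit 37), (nat_lit 10), (nat_lit 45), (nat_lit 10), (nat_lit 77)]]
noncomputable def R0 : List (List Nat) := [[(nat_lit 1), (nat_lit 1), (nat_lit 1), (nat_lit 1), (nat_lit 1), (nat_lit 1), (nat_lit 1), (nat_lit 1)],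
  [(nat_lit 3), (nat_lit 3), (nat_lit 3), (nat_lit 3), (nat_lit 3)],
  [(nat_lit 1), (nat_lit 3), (nat_lit 1), (nat_lit 3), (nat_lit 1), (nat_lit 3), (nat_lit 1), (nat_lit 3)],
  [(nat_lit 2), (nat_lit 2), (nat_lit 4), (nat_lit 1), (nat_lit 1), (nat_lit 3)],
  [(nat_lit 2), (nat_lit 4), (nat_lit 1), (nat_lit 3), (nat_lit 2), (nat_lit 4), (nat_lit 1), (nat_lit 3), (nat_lit 2), (nat_lit 4), (nat_lit 1), (nat_lit 3)],
  [(nat_lit 21), (nat_lit 6)],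
  [(nat_lit 23), (nat_lit 2), (nat_lit 6), (nat_lit 1)],
  [(nat_lit 25), (nat_lit 4), (nat_lit 6), (nat_lit 3)],
  [(nat_lit 27), (nat_lit 3), (nat_lit 6), (nat_lit 4)],
  [(nat_lit 29), (nat_lit 24), (nat_lit 22), (nat_lit 23), (nat_lit 21)],
  [(nat_lit 21), (nat_lit 21), (nat_lit 21), (nat_lit 21), (nat_lit 21)],
  [(nat_lit 29), (nat_lit 29), (nat_lit 29), (nat_lit 29), (nat_lit 29)],
  [(nat_lit 22), (nat_lit 30), (nat_lit 21), (nat_lit 29)],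
  [(nat_lit 24), (nat_lit 30), (nat_lit 23), (nat_lit 29)],
  [(nat_lit 26), (nat_lit 30), (nat_lit 25), (nat_lit 29)],
  [(nat_lit 28), (nat_lit 30), (nat_lit 27), (nat_lit 29)],
  [(nat_lit 22), (nat_lit 26), (nat_lit 21), (nat_lit 25), (nat_lit 29), (nat_lit 29)],
  [(nat_lit 22), (nat_lit 28), (nat_lit 21), (nat_lit 27), (nat_lit 30), (nat_lit 30)],
  [(nat_lit 24), (nat_lit 26), (nat_lit 23), (nat_lit 25), (nat_lit 29)],
  [(nat_lit 24), (nat_lit 28), (nat_lit 23), (nat_lit 27)],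
  [(nat_lit 26), (nat_lit 28), (nat_lit 25), (nat_lit 27), (nat_lit 29)],
  [(nat_lit 2), (nat_lit 23), (nat_lit 1), (nat_lit 21), (nat_lit 21)],
  [(nat_lit 2), (nat_lit 25), (nat_lit 1), (nat_lit 28), (nat_lit 22), (nat_lit 25), (nat_lit 25)],
  [(nat_lit 2), (nat_lit 27), (nat_lit 1), (nat_lit 28), (nat_lit 22), (nat_lit 28), (nat_lit 25), (nat_lit 23), (nat_lit 22)],
  [(nat_lit 2), (nat_lit 29), (nat_lit 1), (nat_lit 30), (nat_lit 30)],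
  [(nat_lit 4), (nat_lit 23), (nat_lit 3), (nat_lit 27), (nat_lit 21), (nat_lit 27), (nat_lit 26), (nat_lit 24)],
  [(nat_lit 4), (nat_lit 25), (nat_lit 3), (nat_lit 25), (nat_lit 25), (nat_lit 28), (nat_lit 22), (nat_lit 22)],
  [(nat_lit 4), (nat_lit 29), (nat_lit 3), (nat_lit 30)],
  [(nat_lit 11), (nat_lit 8), (nat_lit 22), (nat_lit 8), (nat_lit 3), (nat_lit 2), (nat_lit 4), (nat_lit 22), (nat_lit 8), (nat_lit 2), (nat_lit 22), (nat_lit 1), (nat_lit 22), (nat_lit 2), (nat_lit 21), (nat_lit 1), (nat_lit 3), (nat_lit 3)],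
  [(nat_lit 11), (nat_lit 11)],
  [(nat_lit 12), (nat_lit 21), (nat_lit 11), (nat_lit 21), (nat_lit 4), (nat_lit 26), (nat_lit 4)],
  [(nat_lit 12), (nat_lit 25), (nat_lit 11), (nat_lit 1), (nat_lit 27), (nat_lit 21), (nat_lit 24), (nat_lit 2), (nat_lit 4), (nat_lit 4)],
  [(nat_lit 12), (nat_lit 27), (nat_lit 11), (nat_lit 28), (nat_lit 25), (nat_lit 4), (nat_lit 4)],
  [(nat_lit 12), (nat_lit 29), (nat_lit 11), (nat_lit 27), (nat_lit 22), (nat_lit 25), (nat_lit 22)],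
  [(nat_lit 11), (nat_lit 1), (nat_lit 1), (nat_lit 11), (nat_lit 27), (nat_lit 30), (nat_lit 22), (nat_lit 2), (nat_lit 3), (nat_lit 2), (nat_lit 4), (nat_lit 4), (nat_lit 2)],
  [(nat_lit 12), (nat_lit 3), (nat_lit 11), (nat_lit 27), (nat_lit 27), (nat_lit 25), (nat_lit 22)],
  [(nat_lit 11), (nat_lit 1), (nat_lit 3), (nat_lit 3), (nat_lit 1), (nat_lit 4), (nat_lit 1), (nat_lit 11), (nat_lit 27), (nat_lit 30), (nat_lit 22), (nat_lit 2), (nat_lit 2)],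
  [(nat_lit 11), (nat_lit 23), (nat_lit 11), (nat_lit 24), (nat_lit 11), (nat_lit 23), (nat_lit 28), (nat_lit 1), (nat_lit 25), (nat_lit 1), (nat_lit 1), (nat_lit 1)],
  [(nat_lit 7), (nat_lit 12), (nat_lit 4), (nat_lit 23), (nat_lit 2), (nat_lit 12), (nat_lit 2), (nat_lit 12), (nat_lit 2), (nat_lit 29), (nat_lit 27), (nat_lit 21), (nat_lit 3), (nat_lit 1), (nat_lit 4), (nat_lit 4), (nat_lit 2)],
  [(nat_lit 7), (nat_lit 7), (nat_lit 2), (nat_lit 2), (nat_lit 2), (nat_lit 2)],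
  [(nat_lit 4), (nat_lit 8), (nat_lit 3), (nat_lit 7)],
  [(nat_lit 8), (nat_lit 1), (nat_lit 7), (nat_lit 2), (nat_lit 2), (nat_lit 2)],
  [(nat_lit 7), (nat_lit 29), (nat_lit 7), (nat_lit 29), (nat_lit 7), (nat_lit 29), (nat_lit 7), (nat_lit 29), (nat_lit 7), (nat_lit 29)],
  [(nat_lit 7), (nat_lit 29), (nat_lit 7), (nat_lit 30), (nat_lit 7), (nat_lit 29), (nat_lit 2), (nat_lit 2)]]
noncomputable def H1 : List (List Nat) := [[(nat_lit 1)],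
  [(nat_lit 3)],
  [(nat_lit 5)],
  [(nat_lit 7)]]
noncomputable def H2 : List (List Nat) := [[(nat_lit 1)],
  [(nat_lit 3)],
  [(nat_lit 5)]]
noncomputable def H3 : List (List Nat) := [[(nat_lit 1)],
  [(nat_lit 3)]]
noncomputable def H4 : List (List Nat) := [[(nat_lit 1)]]
noncomputable def R2 : List (List Nat) := [[(nat_lit 1), (nat_lit 1), (nat_lit 1), (nat_lit 1), (nat_lit 1), (nat_lit 1), (nat_lit 1), (nat_lit 1)],
  [(nat_lit 3), (nat_lit 3), (nat_lit 3), (nat_lit 3), (nat_lit 3)],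
  [(nat_lit 1), (nat_lit 3), (nat_lit 1), (nat_lit 3), (nat_lit 1), (nat_lit 3), (nat_lit 1), (nat_lit 3)],
  [(nat_lit 2), (nat_lit 2), (nat_lit 4), (nat_lit 1), (nat_lit 1), (nat_lit 3)],
  [(nat_lit 2), (nat_lit 4), (nat_lit 1), (nat_lit 3), (nat_lit 2), (nat_lit 4), (nat_lit 1), (nat_lit 3), (nat_lit 2), (nat_lit 4), (nat_lit 1), (nat_lit 3)],
  [(nat_lit 21), (nat_lit 6)],
  [(nat_lit 23), (nat_lit 2), (nat_lit 6), (nat_lit 1)],
  [(nat_lit 25), (nat_lit 4), (nat_lit 6), (nat_lit 3)],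
  [(nat_lit 27), (nat_lit 3), (nat_lit 6), (nat_lit 4)],
  [(nat_lit 29), (nat_lit 24), (nat_lit 22), (nat_lit 23), (nat_lit 21)],
  [(nat_lit 21), (nat_lit 21), (nat_lit 21), (nat_lit 21), (nat_lit 21)],
  [(nat_lit 29), (nat_lit 29), (nat_lit 29), (nat_lit 29), (nat_lit 29)],
  [(nat_lit 22), (nat_lit 30), (nat_lit 21), (nat_lit 29)],
  [(nat_lit 24), (nat_lit 30), (nat_lit 23), (nat_lit 29)],
  [(nat_lit 26), (nat_lit 30), (nat_lit 25), (nat_lit 29)],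
  [(nat_lit 28), (nat_lit 30), (nat_lit 27), (nat_lit 29)],
  [(nat_lit 22), (nat_lit 26), (nat_lit 21), (nat_lit 25), (nat_lit 29), (nat_lit 29)],
  [(nat_lit 22), (nat_lit 28), (nat_lit 21), (nat_lit 27), (nat_lit 30), (nat_lit 30)],
  [(nat_lit 24), (nat_lit 26), (nat_lit 23), (nat_lit 25), (nat_lit 29)],
  [(nat_lit 24), (nat_lit 28), (nat_lit 23), (nat_lit 27)],
  [(nat_lit 26), (nat_lit 28), (nat_lit 25), (nat_lit 27), (nat_lit 29)],
  [(nat_lit 2), (nat_lit 23), (nat_lit 1), (nat_lit 21), (nat_lit 21)],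
  [(nat_lit 2), (nat_lit 25), (nat_lit 1), (nat_lit 28), (nat_lit 22), (nat_lit 25), (nat_lit 25)],
  [(nat_lit 2), (nat_lit 27), (nat_lit 1), (nat_lit 28), (nat_lit 22), (nat_lit 28), (nat_lit 25), (nat_lit 23), (nat_lit 22)],
  [(nat_lit 2), (nat_lit 29), (nat_lit 1), (nat_lit 30), (nat_lit 30)],
  [(nat_lit 4), (nat_lit 23), (nat_lit 3), (nat_lit 27), (nat_lit 21), (nat_lit 27), (nat_lit 26), (nat_lit 24)],
  [(nat_lit 4), (nat_lit 25), (nat_lit 3), (nat_lit 25), (nat_lit 25), (nat_lit 28), (nat_lit 22), (nat_lit 22)],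
  [(nat_lit 4), (nat_lit 29), (nat_lit 3), (nat_lit 30)]]
noncomputable def R3 : List (List Nat) := [[(nat_lit 1), (nat_lit 1), (nat_lit 1), (nat_lit 1), (nat_lit 1), (nat_lit 1), (nat_lit 1), (nat_lit 1)],
  [(nat_lit 3), (nat_lit 3), (nat_lit 3), (nat_lit 3), (nat_lit 3)],
  [(nat_lit 1), (nat_lit 3), (nat_lit 1), (nat_lit 3), (nat_lit 1), (nat_lit 3), (nat_lit 1), (nat_lit 3)],
  [(nat_lit 2), (nat_lit 2), (nat_lit 4), (nat_lit 1), (nat_lit 1), (nat_lit 3)],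
  [(nat_lit 2), (nat_lit 4), (nat_lit 1), (nat_lit 3), (nat_lit 2), (nat_lit 4), (nat_lit 1), (nat_lit 3), (nat_lit 2), (nat_lit 4), (nat_lit 1), (nat_lit 3)]]
noncomputable def Ns : List (List Nat × List Nat) := [([(nat_lit 5)], [(nat_lit 2), (nat_lit 4), (nat_lit 2), (nat_lit 3), (nat_lit 6), (nat_lit 4), (nat_lit 1), (nat_lit 6), (nat_lit 3), (nat_lit 1)]),
  ([(nat_lit 2), (nat_lit 5), (nat_lit 1)], [(nat_lit 4), (nat_lit 4), (nat_lit 1), (nat_lit 5), (nat_lit 2), (nat_lit 3), (nat_lit 5), (nat_lit 3)]),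
  ([(nat_lit 4), (nat_lit 5), (nat_lit 3)], [(nat_lit 2), (nat_lit 4), (nat_lit 2), (nat_lit 5), (nat_lit 1), (nat_lit 3), (nat_lit 1)]),
  ([(nat_lit 3), (nat_lit 5), (nat_lit 4)], [(nat_lit 4), (nat_lit 2), (nat_lit 3), (nat_lit 5), (nat_lit 4), (nat_lit 1), (nat_lit 3)]),
  ([(nat_lit 6), (nat_lit 2), (nat_lit 6), (nat_lit 1), (nat_lit 5), (nat_lit 2), (nat_lit 5), (nat_lit 1)], [(nat_lit 3), (nat_lit 3), (nat_lit 2), (nat_lit 4), (nat_lit 5), (nat_lit 3), (nat_lit 1), (nat_lit 5), (nat_lit 4), (nat_lit 4), (nat_lit 6)]),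
  ([(nat_lit 1)], [(nat_lit 2), (nat_lit 2), (nat_lit 2)]),
  ([(nat_lit 3), (nat_lit 1), (nat_lit 4)], [(nat_lit 3), (nat_lit 2), (nat_lit 4), (nat_lit 2), (nat_lit 2)]),
  ([(nat_lit 3), (nat_lit 3), (nat_lit 1), (nat_lit 4), (nat_lit 4)], [(nat_lit 1), (nat_lit 3), (nat_lit 3), (nat_lit 1), (nat_lit 4), (nat_lit 4), (nat_lit 2)])]
noncomputable def Ws : List (List (List Nat)) := [[[(nat_lit 4), (nat_lit 4), (nat_lit 1), (nat_lit 3), (nat_lit 3)],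
  [(nat_lit 4), (nat_lit 4), (nat_lit 1), (nat_lit 3), (nat_lit 3)],
  [(nat_lit 1), (nat_lit 1), (nat_lit 4), (nat_lit 4), (nat_lit 1), (nat_lit 3), (nat_lit 3)]],
 [[(nat_lit 4), (nat_lit 4), (nat_lit 1), (nat_lit 3), (nat_lit 3)],
  [(nat_lit 1), (nat_lit 1), (nat_lit 4), (nat_lit 4), (nat_lit 1), (nat_lit 3), (nat_lit 3)],
  [(nat_lit 4), (nat_lit 4), (nat_lit 1), (nat_lit 3), (nat_lit 3)]],
 [[(nat_lit 1), (nat_lit 1), (nat_lit 4), (nat_lit 4), (nat_lit 1), (nat_lit 3), (nat_lit 3)],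
  [(nat_lit 4), (nat_lit 4), (nat_lit 1), (nat_lit 3), (nat_lit 3)],
  [(nat_lit 4), (nat_lit 4), (nat_lit 1), (nat_lit 3), (nat_lit 3)]],
 [[(nat_lit 2), (nat_lit 2), (nat_lit 4), (nat_lit 4), (nat_lit 2), (nat_lit 3), (nat_lit 3)],
  [(nat_lit 2), (nat_lit 2), (nat_lit 4), (nat_lit 4), (nat_lit 2), (nat_lit 3), (nat_lit 3)],
  [(nat_lit 2), (nat_lit 2), (nat_lit 4), (nat_lit 4), (nat_lit 2), (nat_lit 3), (nat_lit 3), (nat_lit 2), (nat_lit 2)]],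
 [[(nat_lit 2), (nat_lit 2), (nat_lit 4), (nat_lit 4), (nat_lit 2), (nat_lit 3), (nat_lit 3)],
  [(nat_lit 2), (nat_lit 2), (nat_lit 4), (nat_lit 4), (nat_lit 2), (nat_lit 3), (nat_lit 3), (nat_lit 2), (nat_lit 2)],
  [(nat_lit 2), (nat_lit 2), (nat_lit 4), (nat_lit 4), (nat_lit 2), (nat_lit 3), (nat_lit 3)]],
 [[(nat_lit 2), (nat_lit 2), (nat_lit 4), (nat_lit 4), (nat_lit 2), (nat_lit 3), (nat_lit 3), (nat_lit 2), (nat_lit 2)],
  [(nat_lit 2), (nat_lit 2), (nat_lit 4), (nat_lit 4), (nat_lit 2), (nat_lit 3), (nat_lit 3)],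
  [(nat_lit 2), (nat_lit 2), (nat_lit 4), (nat_lit 4), (nat_lit 2), (nat_lit 3), (nat_lit 3)]],
 [[(nat_lit 2), (nat_lit 7), (nat_lit 4), (nat_lit 6), (nat_lit 2), (nat_lit 3), (nat_lit 6), (nat_lit 8), (nat_lit 3), (nat_lit 6), (nat_lit 4), (nat_lit 2), (nat_lit 6), (nat_lit 1), (nat_lit 4), (nat_lit 1), (nat_lit 3), (nat_lit 1), (nat_lit 4)],
  [(nat_lit 2), (nat_lit 6), (nat_lit 8), (nat_lit 1), (nat_lit 6), (nat_lit 4), (nat_lit 1), (nat_lit 6), (nat_lit 8), (nat_lit 2), (nat_lit 6), (nat_lit 1), (nat_lit 5), (nat_lit 4), (nat_lit 4), (nat_lit 6), (nat_lit 4), (nat_lit 2), (nat_lit 4), (nat_lit 4)],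
  [(nat_lit 6), (nat_lit 8), (nat_lit 2), (nat_lit 6), (nat_lit 2), (nat_lit 3), (nat_lit 6), (nat_lit 8)]],
 [[(nat_lit 2), (nat_lit 6), (nat_lit 8), (nat_lit 1), (nat_lit 6), (nat_lit 4), (nat_lit 1), (nat_lit 6), (nat_lit 8), (nat_lit 2), (nat_lit 6), (nat_lit 1), (nat_lit 5), (nat_lit 4), (nat_lit 4), (nat_lit 6), (nat_lit 4), (nat_lit 2), (nat_lit 4), (nat_lit 4)],
  [(nat_lit 6), (nat_lit 8), (nat_lit 2), (nat_lit 6), (nat_lit 2), (nat_lit 3), (nat_lit 6), (nat_lit 8)],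
  [(nat_lit 2), (nat_lit 7), (nat_lit 4), (nat_lit 6), (nat_lit 2), (nat_lit 3), (nat_lit 6), (nat_lit 8), (nat_lit 3), (nat_lit 6), (nat_lit 4), (nat_lit 2), (nat_lit 6), (nat_lit 1), (nat_lit 4), (nat_lit 1), (nat_lit 3), (nat_lit 1), (nat_lit 4)]],
 [[(nat_lit 6), (nat_lit 8), (nat_lit 2), (nat_lit 6), (nat_lit 2), (nat_lit 3), (nat_lit 6), (nat_lit 8)],
  [(nat_lit 2), (nat_lit 7), (nat_lit 4), (nat_lit 6), (nat_lit 2), (nat_lit 3), (nat_lit 6), (nat_lit 8), (nat_lit 3), (nat_lit 6), (nat_lit 4), (nat_lit 2), (nat_lit 6), (nat_lit 1), (nat_lit 4), (nat_lit 1), (nat_lit 3), (nat_lit 1), (nat_lit 4)],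
  [(nat_lit 2), (nat_lit 6), (nat_lit 8), (nat_lit 1), (nat_lit 6), (nat_lit 4), (nat_lit 1), (nat_lit 6), (nat_lit 8), (nat_lit 2), (nat_lit 6), (nat_lit 1), (nat_lit 5), (nat_lit 4), (nat_lit 4), (nat_lit 6), (nat_lit 4), (nat_lit 2), (nat_lit 4), (nat_lit 4)]],
 [[(nat_lit 2), (nat_lit 2), (nat_lit 3), (nat_lit 3), (nat_lit 1), (nat_lit 3), (nat_lit 5), (nat_lit 3), (nat_lit 3), (nat_lit 6), (nat_lit 2), (nat_lit 5), (nat_lit 1), (nat_lit 7), (nat_lit 5), (nat_lit 2), (nat_lit 3), (nat_lit 5), (nat_lit 2), (nat_lit 7), (nat_lit 5), (nat_lit 1)],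
  [(nat_lit 2), (nat_lit 2), (nat_lit 3), (nat_lit 2), (nat_lit 4), (nat_lit 2), (nat_lit 3), (nat_lit 2), (nat_lit 5), (nat_lit 1), (nat_lit 3), (nat_lit 5), (nat_lit 4), (nat_lit 7), (nat_lit 5), (nat_lit 4), (nat_lit 1), (nat_lit 5), (nat_lit 3), (nat_lit 8), (nat_lit 1)],
  [(nat_lit 2), (nat_lit 2), (nat_lit 7), (nat_lit 5), (nat_lit 4), (nat_lit 1), (nat_lit 5), (nat_lit 1), (nat_lit 7), (nat_lit 5)]],
 [[(nat_lit 2), (nat_lit 2), (nat_lit 3), (nat_lit 2), (nat_lit 4), (nat_lit 2), (nat_lit 3), (nat_lit 2), (nat_lit 5), (nat_lit 1), (nat_lit 3), (nat_lit 5), (nat_lit 4), (nat_lit 7), (nat_lit 5), (nat_lit 4), (nat_lit 1), (nat_lit 5), (nat_lit 3), (nat_lit 8), (nat_lit 1)],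
  [(nat_lit 2), (nat_lit 2), (nat_lit 7), (nat_lit 5), (nat_lit 4), (nat_lit 1), (nat_lit 5), (nat_lit 1), (nat_lit 7), (nat_lit 5)],
  [(nat_lit 2), (nat_lit 2), (nat_lit 3), (nat_lit 3), (nat_lit 1), (nat_lit 3), (nat_lit 5), (nat_lit 3), (nat_lit 3), (nat_lit 6), (nat_lit 2), (nat_lit 5), (nat_lit 1), (nat_lit 7), (nat_lit 5), (nat_lit 2), (nat_lit 3), (nat_lit 5), (nat_lit 2), (nat_lit 7), (nat_lit 5), (nat_lit 1)]],
 [[(nat_lit 2), (nat_lit 2), (nat_lit 7), (nat_lit 5), (nat_lit 4), (nat_lit 1), (nat_lit 5), (nat_lit 1), (nat_lit 7), (nat_lit 5)],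
  [(nat_lit 2), (nat_lit 2), (nat_lit 3), (nat_lit 3), (nat_lit 1), (nat_lit 3), (nat_lit 5), (nat_lit 3), (nat_lit 3), (nat_lit 6), (nat_lit 2), (nat_lit 5), (nat_lit 1), (nat_lit 7), (nat_lit 5), (nat_lit 2), (nat_lit 3), (nat_lit 5), (nat_lit 2), (nat_lit 7), (nat_lit 5), (nat_lit 1)],
  [(nat_lit 2), (nat_lit 2), (nat_lit 3), (nat_lit 2), (nat_lit 4), (nat_lit 2), (nat_lit 3), (nat_lit 2), (nat_lit 5), (nat_lit 1), (nat_lit 3), (nat_lit 5), (nat_lit 4), (nat_lit 7), (nat_lit 5), (nat_lit 4), (nat_lit 1), (nat_lit 5), (nat_lit 3), (nat_lit 8), (nat_lit 1)]],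
 [[(nat_lit 2), (nat_lit 2), (nat_lit 8)],
  [(nat_lit 2), (nat_lit 2), (nat_lit 2), (nat_lit 6), (nat_lit 8), (nat_lit 3), (nat_lit 2), (nat_lit 4), (nat_lit 6), (nat_lit 8), (nat_lit 3), (nat_lit 2), (nat_lit 4), (nat_lit 6), (nat_lit 4), (nat_lit 1), (nat_lit 4), (nat_lit 4), (nat_lit 1), (nat_lit 4)],
  [(nat_lit 7)],
  [(nat_lit 1), (nat_lit 3), (nat_lit 2), (nat_lit 3), (nat_lit 3), (nat_lit 2), (nat_lit 3), (nat_lit 3), (nat_lit 6), (nat_lit 1), (nat_lit 5), (nat_lit 3), (nat_lit 5), (nat_lit 4), (nat_lit 7), (nat_lit 5), (nat_lit 4), (nat_lit 4), (nat_lit 7), (nat_lit 5), (nat_lit 3), (nat_lit 5)]],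
 [[(nat_lit 2), (nat_lit 2), (nat_lit 2), (nat_lit 6), (nat_lit 8), (nat_lit 3), (nat_lit 2), (nat_lit 4), (nat_lit 6), (nat_lit 8), (nat_lit 3), (nat_lit 2), (nat_lit 4), (nat_lit 6), (nat_lit 4), (nat_lit 1), (nat_lit 4), (nat_lit 4), (nat_lit 1), (nat_lit 4)],
  [(nat_lit 7)],
  [(nat_lit 1), (nat_lit 3), (nat_lit 2), (nat_lit 3), (nat_lit 3), (nat_lit 2), (nat_lit 3), (nat_lit 3), (nat_lit 6), (nat_lit 1), (nat_lit 5), (nat_lit 3), (nat_lit 5), (nat_lit 4), (nat_lit 7), (nat_lit 5), (nat_lit 4), (nat_lit 4), (nat_lit 7), (nat_lit 5), (nat_lit 3), (nat_lit 5)],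
  [(nat_lit 2), (nat_lit 2), (nat_lit 8)]],
 [[(nat_lit 7)],
  [(nat_lit 1), (nat_lit 3), (nat_lit 2), (nat_lit 3), (nat_lit 3), (nat_lit 2), (nat_lit 3), (nat_lit 3), (nat_lit 6), (nat_lit 1), (nat_lit 5), (nat_lit 3), (nat_lit 5), (nat_lit 4), (nat_lit 7), (nat_lit 5), (nat_lit 4), (nat_lit 4), (nat_lit 7), (nat_lit 5), (nat_lit 3), (nat_lit 5)],
  [(nat_lit 2), (nat_lit 2), (nat_lit 8)],
  [(nat_lit 2), (nat_lit 2), (nat_lit 2), (nat_lit 6), (nat_lit 8), (nat_lit 3), (nat_lit 2), (nat_lit 4), (nat_lit 6), (nat_lit 8), (nat_lit 3), (nat_lit 2), (nat_lit 4), (nat_lit 6), (nat_lit 4), (nat_lit 1), (nat_lit 4), (nat_lit 4), (nat_lit 1), (nat_lit 4)]],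
 [[(nat_lit 1), (nat_lit 3), (nat_lit 2), (nat_lit 3), (nat_lit 3), (nat_lit 2), (nat_lit 3), (nat_lit 3), (nat_lit 6), (nat_lit 1), (nat_lit 5), (nat_lit 3), (nat_lit 5), (nat_lit 4), (nat_lit 7), (nat_lit 5), (nat_lit 4), (nat_lit 4), (nat_lit 7), (nat_lit 5), (nat_lit 3), (nat_lit 5)],
  [(nat_lit 2), (nat_lit 2), (nat_lit 8)],
  [(nat_lit 2), (nat_lit 2), (nat_lit 2), (nat_lit 6), (nat_lit 8), (nat_lit 3), (nat_lit 2), (nat_lit 4), (nat_lit 6), (nat_lit 8), (nat_lit 3), (nat_lit 2), (nat_lit 4), (nat_lit 6), (nat_lit 4), (nat_lit 1), (nat_lit 4), (nat_lit 4), (nat_lit 1), (nat_lit 4)],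
  [(nat_lit 7)]],
 [[(nat_lit 2), (nat_lit 2), (nat_lit 8)],
  [(nat_lit 2), (nat_lit 2), (nat_lit 3), (nat_lit 2), (nat_lit 3), (nat_lit 3), (nat_lit 2), (nat_lit 3), (nat_lit 5), (nat_lit 3), (nat_lit 1), (nat_lit 4), (nat_lit 7), (nat_lit 5), (nat_lit 3), (nat_lit 1), (nat_lit 4), (nat_lit 7), (nat_lit 5), (nat_lit 1)],
  [(nat_lit 7)],
  [(nat_lit 6), (nat_lit 4), (nat_lit 6), (nat_lit 8), (nat_lit 3), (nat_lit 3), (nat_lit 6), (nat_lit 8), (nat_lit 3), (nat_lit 6), (nat_lit 4), (nat_lit 6), (nat_lit 2), (nat_lit 5), (nat_lit 4), (nat_lit 4), (nat_lit 1), (nat_lit 4), (nat_lit 4), (nat_lit 1), (nat_lit 4), (nat_lit 2)]],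
 [[(nat_lit 2), (nat_lit 2), (nat_lit 3), (nat_lit 2), (nat_lit 3), (nat_lit 3), (nat_lit 2), (nat_lit 3), (nat_lit 5), (nat_lit 3), (nat_lit 1), (nat_lit 4), (nat_lit 7), (nat_lit 5), (nat_lit 3), (nat_lit 1), (nat_lit 4), (nat_lit 7), (nat_lit 5), (nat_lit 1)],
  [(nat_lit 7)],
  [(nat_lit 6), (nat_lit 4), (nat_lit 6), (nat_lit 8), (nat_lit 3), (nat_lit 3), (nat_lit 6), (nat_lit 8), (nat_lit 3), (nat_lit 6), (nat_lit 4), (nat_lit 6), (nat_lit 2), (nat_lit 5), (nat_lit 4), (nat_lit 4), (nat_lit 1), (nat_lit 4), (nat_lit 4), (nat_lit 1), (nat_lit 4), (nat_lit 2)],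
  [(nat_lit 2), (nat_lit 2), (nat_lit 8)]],
 [[(nat_lit 7)],
  [(nat_lit 6), (nat_lit 4), (nat_lit 6), (nat_lit 8), (nat_lit 3), (nat_lit 3), (nat_lit 6), (nat_lit 8), (nat_lit 3), (nat_lit 6), (nat_lit 4), (nat_lit 6), (nat_lit 2), (nat_lit 5), (nat_lit 4), (nat_lit 4), (nat_lit 1), (nat_lit 4), (nat_lit 4), (nat_lit 1), (nat_lit 4), (nat_lit 2)],
  [(nat_lit 2), (nat_lit 2), (nat_lit 8)],
  [(nat_lit 2), (nat_lit 2), (nat_lit 3), (nat_lit 2), (nat_lit 3), (nat_lit 3), (nat_lit 2), (nat_lit 3), (nat_lit 5), (nat_lit 3), (nat_lit 1), (nat_lit 4), (nat_lit 7), (nat_lit 5), (nat_lit 3), (nat_lit 1), (nat_lit 4), (nat_lit 7), (nat_lit 5), (nat_lit 1)]],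
 [[(nat_lit 6), (nat_lit 4), (nat_lit 6), (nat_lit 8), (nat_lit 3), (nat_lit 3), (nat_lit 6), (nat_lit 8), (nat_lit 3), (nat_lit 6), (nat_lit 4), (nat_lit 6), (nat_lit 2), (nat_lit 5), (nat_lit 4), (nat_lit 4), (nat_lit 1), (nat_lit 4), (nat_lit 4), (nat_lit 1), (nat_lit 4), (nat_lit 2)],
  [(nat_lit 2), (nat_lit 2), (nat_lit 8)],
  [(nat_lit 2), (nat_lit 2), (nat_lit 3), (nat_lit 2), (nat_lit 3), (nat_lit 3), (nat_lit 2), (nat_lit 3), (nat_lit 5), (nat_lit 3), (nat_lit 1), (nat_lit 4), (nat_lit 7), (nat_lit 5), (nat_lit 3), (nat_lit 1), (nat_lit 4), (nat_lit 7), (nat_lit 5), (nat_lit 1)],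
  [(nat_lit 7)]],
 [[(nat_lit 3), (nat_lit 1), (nat_lit 4), (nat_lit 2), (nat_lit 4), (nat_lit 4), (nat_lit 2), (nat_lit 4), (nat_lit 5), (nat_lit 3), (nat_lit 3), (nat_lit 5), (nat_lit 3), (nat_lit 7), (nat_lit 5), (nat_lit 4), (nat_lit 4), (nat_lit 7), (nat_lit 5), (nat_lit 3), (nat_lit 5)],
  [(nat_lit 1), (nat_lit 4), (nat_lit 4), (nat_lit 2), (nat_lit 5), (nat_lit 3), (nat_lit 6), (nat_lit 3), (nat_lit 2), (nat_lit 6), (nat_lit 6), (nat_lit 7), (nat_lit 5), (nat_lit 1), (nat_lit 5), (nat_lit 2), (nat_lit 5), (nat_lit 4), (nat_lit 8)],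
  [(nat_lit 2), (nat_lit 2), (nat_lit 6), (nat_lit 4), (nat_lit 6), (nat_lit 8), (nat_lit 3), (nat_lit 3), (nat_lit 6), (nat_lit 8), (nat_lit 4), (nat_lit 6), (nat_lit 4), (nat_lit 4), (nat_lit 6), (nat_lit 3), (nat_lit 1), (nat_lit 3), (nat_lit 3), (nat_lit 1), (nat_lit 3), (nat_lit 2), (nat_lit 4)],
  [(nat_lit 2), (nat_lit 2), (nat_lit 8), (nat_lit 1), (nat_lit 5), (nat_lit 3), (nat_lit 5), (nat_lit 2), (nat_lit 6), (nat_lit 8), (nat_lit 1), (nat_lit 4), (nat_lit 2), (nat_lit 5), (nat_lit 2), (nat_lit 4), (nat_lit 4), (nat_lit 2), (nat_lit 3), (nat_lit 2)]],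
 [[(nat_lit 1), (nat_lit 4), (nat_lit 4), (nat_lit 2), (nat_lit 5), (nat_lit 3), (nat_lit 6), (nat_lit 3), (nat_lit 2), (nat_lit 6), (nat_lit 6), (nat_lit 7), (nat_lit 5), (nat_lit 1), (nat_lit 5), (nat_lit 2), (nat_lit 5), (nat_lit 4), (nat_lit 8)],
  [(nat_lit 2), (nat_lit 2), (nat_lit 6), (nat_lit 4), (nat_lit 6), (nat_lit 8), (nat_lit 3), (nat_lit 3), (nat_lit 6), (nat_lit 8), (nat_lit 4), (nat_lit 6), (nat_lit 4), (nat_lit 4), (nat_lit 6), (nat_lit 3), (nat_lit 1), (nat_lit 3), (nat_lit 3), (nat_lit 1), (nat_lit 3), (nat_lit 2), (nat_lit 4)],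
  [(nat_lit 2), (nat_lit 2), (nat_lit 8), (nat_lit 1), (nat_lit 5), (nat_lit 3), (nat_lit 5), (nat_lit 2), (nat_lit 6), (nat_lit 8), (nat_lit 1), (nat_lit 4), (nat_lit 2), (nat_lit 5), (nat_lit 2), (nat_lit 4), (nat_lit 4), (nat_lit 2), (nat_lit 3), (nat_lit 2)],
  [(nat_lit 3), (nat_lit 1), (nat_lit 4), (nat_lit 2), (nat_lit 4), (nat_lit 4), (nat_lit 2), (nat_lit 4), (nat_lit 5), (nat_lit 3), (nat_lit 3), (nat_lit 5), (nat_lit 3), (nat_lit 7), (nat_lit 5), (nat_lit 4), (nat_lit 4), (nat_lit 7), (nat_lit 5), (nat_lit 3), (nat_lit 5)]],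
 [[(nat_lit 2), (nat_lit 2), (nat_lit 6), (nat_lit 4), (nat_lit 6), (nat_lit 8), (nat_lit 3), (nat_lit 3), (nat_lit 6), (nat_lit 8), (nat_lit 4), (nat_lit 6), (nat_lit 4), (nat_lit 4), (nat_lit 6), (nat_lit 3), (nat_lit 1), (nat_lit 3), (nat_lit 3), (nat_lit 1), (nat_lit 3), (nat_lit 2), (nat_lit 4)],
  [(nat_lit 2), (nat_lit 2), (nat_lit 8), (nat_lit 1), (nat_lit 5), (nat_lit 3), (nat_lit 5), (nat_lit 2), (nat_lit 6), (nat_lit 8), (nat_lit 1), (nat_lit 4), (nat_lit 2), (nat_lit 5), (nat_lit 2), (nat_lit 4), (nat_lit 4), (nat_lit 2), (nat_lit 3), (nat_lit 2)],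
  [(nat_lit 3), (nat_lit 1), (nat_lit 4), (nat_lit 2), (nat_lit 4), (nat_lit 4), (nat_lit 2), (nat_lit 4), (nat_lit 5), (nat_lit 3), (nat_lit 3), (nat_lit 5), (nat_lit 3), (nat_lit 7), (nat_lit 5), (nat_lit 4), (nat_lit 4), (nat_lit 7), (nat_lit 5), (nat_lit 3), (nat_lit 5)],
  [(nat_lit 1), (nat_lit 4), (nat_lit 4), (nat_lit 2), (nat_lit 5), (nat_lit 3), (nat_lit 6), (nat_lit 3), (nat_lit 2), (nat_lit 6), (nat_lit 6), (nat_lit 7), (nat_lit 5), (nat_lit 1), (nat_lit 5), (nat_lit 2), (nat_lit 5), (nat_lit 4), (nat_lit 8)]],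
 [[(nat_lit 2), (nat_lit 2), (nat_lit 8), (nat_lit 1), (nat_lit 5), (nat_lit 3), (nat_lit 5), (nat_lit 2), (nat_lit 6), (nat_lit 8), (nat_lit 1), (nat_lit 4), (nat_lit 2), (nat_lit 5), (nat_lit 2), (nat_lit 4), (nat_lit 4), (nat_lit 2), (nat_lit 3), (nat_lit 2)],
  [(nat_lit 3), (nat_lit 1), (nat_lit 4), (nat_lit 2), (nat_lit 4), (nat_lit 4), (nat_lit 2), (nat_lit 4), (nat_lit 5), (nat_lit 3), (nat_lit 3), (nat_lit 5), (nat_lit 3), (nat_lit 7), (nat_lit 5), (nat_lit 4), (nat_lit 4), (nat_lit 7), (nat_lit 5), (nat_lit 3), (nat_lit 5)],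
  [(nat_lit 1), (nat_lit 4), (nat_lit 4), (nat_lit 2), (nat_lit 5), (nat_lit 3), (nat_lit 6), (nat_lit 3), (nat_lit 2), (nat_lit 6), (nat_lit 6), (nat_lit 7), (nat_lit 5), (nat_lit 1), (nat_lit 5), (nat_lit 2), (nat_lit 5), (nat_lit 4), (nat_lit 8)],
  [(nat_lit 2), (nat_lit 2), (nat_lit 6), (nat_lit 4), (nat_lit 6), (nat_lit 8), (nat_lit 3), (nat_lit 3), (nat_lit 6), (nat_lit 8), (nat_lit 4), (nat_lit 6), (nat_lit 4), (nat_lit 4), (nat_lit 6), (nat_lit 3), (nat_lit 1), (nat_lit 3), (nat_lit 3), (nat_lit 1), (nat_lit 3), (nat_lit 2), (nat_lit 4)]],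
 [[(nat_lit 3), (nat_lit 1), (nat_lit 4), (nat_lit 2), (nat_lit 4), (nat_lit 4), (nat_lit 2), (nat_lit 4), (nat_lit 5), (nat_lit 3), (nat_lit 3), (nat_lit 5), (nat_lit 3), (nat_lit 7), (nat_lit 5), (nat_lit 4), (nat_lit 4), (nat_lit 7), (nat_lit 5), (nat_lit 3), (nat_lit 5)],
  [(nat_lit 7), (nat_lit 3), (nat_lit 6), (nat_lit 1), (nat_lit 6), (nat_lit 2), (nat_lit 6), (nat_lit 8), (nat_lit 5), (nat_lit 5), (nat_lit 1), (nat_lit 4), (nat_lit 5), (nat_lit 4), (nat_lit 6), (nat_lit 1), (nat_lit 3), (nat_lit 3), (nat_lit 2)],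
  [(nat_lit 2), (nat_lit 2), (nat_lit 6), (nat_lit 4), (nat_lit 6), (nat_lit 8), (nat_lit 3), (nat_lit 3), (nat_lit 6), (nat_lit 8), (nat_lit 4), (nat_lit 6), (nat_lit 4), (nat_lit 4), (nat_lit 6), (nat_lit 3), (nat_lit 1), (nat_lit 3), (nat_lit 3), (nat_lit 1), (nat_lit 3), (nat_lit 2), (nat_lit 4)],
  [(nat_lit 2), (nat_lit 4), (nat_lit 1), (nat_lit 3), (nat_lit 3), (nat_lit 1), (nat_lit 6), (nat_lit 1), (nat_lit 3), (nat_lit 2), (nat_lit 7), (nat_lit 5), (nat_lit 1), (nat_lit 6), (nat_lit 4), (nat_lit 6), (nat_lit 2), (nat_lit 7)]],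
 [[(nat_lit 7), (nat_lit 3), (nat_lit 6), (nat_lit 1), (nat_lit 6), (nat_lit 2), (nat_lit 6), (nat_lit 8), (nat_lit 5), (nat_lit 5), (nat_lit 1), (nat_lit 4), (nat_lit 5), (nat_lit 4), (nat_lit 6), (nat_lit 1), (nat_lit 3), (nat_lit 3), (nat_lit 2)],
  [(nat_lit 2), (nat_lit 2), (nat_lit 6), (nat_lit 4), (nat_lit 6), (nat_lit 8), (nat_lit 3), (nat_lit 3), (nat_lit 6), (nat_lit 8), (nat_lit 4), (nat_lit 6), (nat_lit 4), (nat_lit 4), (nat_lit 6), (nat_lit 3), (nat_lit 1), (nat_lit 3), (nat_lit 3), (nat_lit 1), (nat_lit 3), (nat_lit 2), (nat_lit 4)],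
  [(nat_lit 2), (nat_lit 4), (nat_lit 1), (nat_lit 3), (nat_lit 3), (nat_lit 1), (nat_lit 6), (nat_lit 1), (nat_lit 3), (nat_lit 2), (nat_lit 7), (nat_lit 5), (nat_lit 1), (nat_lit 6), (nat_lit 4), (nat_lit 6), (nat_lit 2), (nat_lit 7)],
  [(nat_lit 3), (nat_lit 1), (nat_lit 4), (nat_lit 2), (nat_lit 4), (nat_lit 4), (nat_lit 2), (nat_lit 4), (nat_lit 5), (nat_lit 3), (nat_lit 3), (nat_lit 5), (nat_lit 3), (nat_lit 7), (nat_lit 5), (nat_lit 4), (nat_lit 4), (nat_lit 7), (nat_lit 5), (nat_lit 3), (nat_lit 5)]],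
 [[(nat_lit 2), (nat_lit 2), (nat_lit 6), (nat_lit 4), (nat_lit 6), (nat_lit 8), (nat_lit 3), (nat_lit 3), (nat_lit 6), (nat_lit 8), (nat_lit 4), (nat_lit 6), (nat_lit 4), (nat_lit 4), (nat_lit 6), (nat_lit 3), (nat_lit 1), (nat_lit 3), (nat_lit 3), (nat_lit 1), (nat_lit 3), (nat_lit 2), (nat_lit 4)],
  [(nat_lit 2), (nat_lit 4), (nat_lit 1), (nat_lit 3), (nat_lit 3), (nat_lit 1), (nat_lit 6), (nat_lit 1), (nat_lit 3), (nat_lit 2), (nat_lit 7), (nat_lit 5), (nat_lit 1), (nat_lit 6), (nat_lit 4), (nat_lit 6), (nat_lit 2), (nat_lit 7)],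
  [(nat_lit 3), (nat_lit 1), (nat_lit 4), (nat_lit 2), (nat_lit 4), (nat_lit 4), (nat_lit 2), (nat_lit 4), (nat_lit 5), (nat_lit 3), (nat_lit 3), (nat_lit 5), (nat_lit 3), (nat_lit 7), (nat_lit 5), (nat_lit 4), (nat_lit 4), (nat_lit 7), (nat_lit 5), (nat_lit 3), (nat_lit 5)],
  [(nat_lit 7), (nat_lit 3), (nat_lit 6), (nat_lit 1), (nat_lit 6), (nat_lit 2), (nat_lit 6), (nat_lit 8), (nat_lit 5), (nat_lit 5), (nat_lit 1), (nat_lit 4), (nat_lit 5), (nat_lit 4), (nat_lit 6), (nat_lit 1), (nat_lit 3), (nat_lit 3), (nat_lit 2)]],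
 [[(nat_lit 2), (nat_lit 4), (nat_lit 1), (nat_lit 3), (nat_lit 3), (nat_lit 1), (nat_lit 6), (nat_lit 1), (nat_lit 3), (nat_lit 2), (nat_lit 7), (nat_lit 5), (nat_lit 1), (nat_lit 6), (nat_lit 4), (nat_lit 6), (nat_lit 2), (nat_lit 7)],
  [(nat_lit 3), (nat_lit 1), (nat_lit 4), (nat_lit 2), (nat_lit 4), (nat_lit 4), (nat_lit 2), (nat_lit 4), (nat_lit 5), (nat_lit 3), (nat_lit 3), (nat_lit 5), (nat_lit 3), (nat_lit 7), (nat_lit 5), (nat_lit 4), (nat_lit 4), (nat_lit 7), (nat_lit 5), (nat_lit 3), (nat_lit 5)],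
  [(nat_lit 7), (nat_lit 3), (nat_lit 6), (nat_lit 1), (nat_lit 6), (nat_lit 2), (nat_lit 6), (nat_lit 8), (nat_lit 5), (nat_lit 5), (nat_lit 1), (nat_lit 4), (nat_lit 5), (nat_lit 4), (nat_lit 6), (nat_lit 1), (nat_lit 3), (nat_lit 3), (nat_lit 2)],
  [(nat_lit 2), (nat_lit 2), (nat_lit 6), (nat_lit 4), (nat_lit 6), (nat_lit 8), (nat_lit 3), (nat_lit 3), (nat_lit 6), (nat_lit 8), (nat_lit 4), (nat_lit 6), (nat_lit 4), (nat_lit 4), (nat_lit 6), (nat_lit 3), (nat_lit 1), (nat_lit 3), (nat_lit 3), (nat_lit 1), (nat_lit 3), (nat_lit 2), (nat_lit 4)]],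
 [[(nat_lit 3), (nat_lit 7)],
  [(nat_lit 3), (nat_lit 3), (nat_lit 2), (nat_lit 4), (nat_lit 2), (nat_lit 3), (nat_lit 3), (nat_lit 6), (nat_lit 1), (nat_lit 5), (nat_lit 2), (nat_lit 6), (nat_lit 7), (nat_lit 6), (nat_lit 3), (nat_lit 3), (nat_lit 2), (nat_lit 5), (nat_lit 3)],
  [(nat_lit 2), (nat_lit 2), (nat_lit 8), (nat_lit 4)],
  [(nat_lit 2), (nat_lit 2), (nat_lit 6), (nat_lit 2), (nat_lit 5), (nat_lit 3), (nat_lit 6), (nat_lit 8), (nat_lit 5), (nat_lit 2), (nat_lit 5), (nat_lit 1), (nat_lit 5), (nat_lit 4), (nat_lit 2), (nat_lit 4), (nat_lit 2), (nat_lit 3)]],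
 [[(nat_lit 3), (nat_lit 3), (nat_lit 2), (nat_lit 4), (nat_lit 2), (nat_lit 3), (nat_lit 3), (nat_lit 6), (nat_lit 1), (nat_lit 5), (nat_lit 2), (nat_lit 6), (nat_lit 7), (nat_lit 6), (nat_lit 3), (nat_lit 3), (nat_lit 2), (nat_lit 5), (nat_lit 3)],
  [(nat_lit 2), (nat_lit 2), (nat_lit 8), (nat_lit 4)],
  [(nat_lit 2), (nat_lit 2), (nat_lit 6), (nat_lit 2), (nat_lit 5), (nat_lit 3), (nat_lit 6), (nat_lit 8), (nat_lit 5), (nat_lit 2), (nat_lit 5), (nat_lit 1), (nat_lit 5), (nat_lit 4), (nat_lit 2), (nat_lit 4), (nat_lit 2), (nat_lit 3)],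
  [(nat_lit 3), (nat_lit 7)]],
 [[(nat_lit 2), (nat_lit 2), (nat_lit 8), (nat_lit 4)],
  [(nat_lit 2), (nat_lit 2), (nat_lit 6), (nat_lit 2), (nat_lit 5), (nat_lit 3), (nat_lit 6), (nat_lit 8), (nat_lit 5), (nat_lit 2), (nat_lit 5), (nat_lit 1), (nat_lit 5), (nat_lit 4), (nat_lit 2), (nat_lit 4), (nat_lit 2), (nat_lit 3)],
  [(nat_lit 3), (nat_lit 7)],
  [(nat_lit 3), (nat_lit 3), (nat_lit 2), (nat_lit 4), (nat_lit 2), (nat_lit 3), (nat_lit 3), (nat_lit 6), (nat_lit 1), (nat_lit 5), (nat_lit 2), (nat_lit 6), (nat_lit 7), (nat_lit 6), (nat_lit 3), (nat_lit 3), (nat_lit 2), (nat_lit 5), (nat_lit 3)]],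
 [[(nat_lit 2), (nat_lit 2), (nat_lit 6), (nat_lit 2), (nat_lit 5), (nat_lit 3), (nat_lit 6), (nat_lit 8), (nat_lit 5), (nat_lit 2), (nat_lit 5), (nat_lit 1), (nat_lit 5), (nat_lit 4), (nat_lit 2), (nat_lit 4), (nat_lit 2), (nat_lit 3)],
  [(nat_lit 3), (nat_lit 7)],
  [(nat_lit 3), (nat_lit 3), (nat_lit 2), (nat_lit 4), (nat_lit 2), (nat_lit 3), (nat_lit 3), (nat_lit 6), (nat_lit 1), (nat_lit 5), (nat_lit 2), (nat_lit 6), (nat_lit 7), (nat_lit 6), (nat_lit 3), (nat_lit 3), (nat_lit 2), (nat_lit 5), (nat_lit 3)],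
  [(nat_lit 2), (nat_lit 2), (nat_lit 8), (nat_lit 4)]],
 [[(nat_lit 3), (nat_lit 7)],
  [(nat_lit 4), (nat_lit 6), (nat_lit 1), (nat_lit 4), (nat_lit 4), (nat_lit 5), (nat_lit 8), (nat_lit 5), (nat_lit 1), (nat_lit 6), (nat_lit 2), (nat_lit 5), (nat_lit 4), (nat_lit 4), (nat_lit 1), (nat_lit 3), (nat_lit 1), (nat_lit 4), (nat_lit 4)],
  [(nat_lit 2), (nat_lit 2), (nat_lit 8), (nat_lit 4)],
  [(nat_lit 2), (nat_lit 2), (nat_lit 4), (nat_lit 1), (nat_lit 3), (nat_lit 1), (nat_lit 3), (nat_lit 6), (nat_lit 2), (nat_lit 6), (nat_lit 1), (nat_lit 6), (nat_lit 7), (nat_lit 5), (nat_lit 4), (nat_lit 6), (nat_lit 1), (nat_lit 5)]],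
 [[(nat_lit 4), (nat_lit 6), (nat_lit 1), (nat_lit 4), (nat_lit 4), (nat_lit 5), (nat_lit 8), (nat_lit 5), (nat_lit 1), (nat_lit 6), (nat_lit 2), (nat_lit 5), (nat_lit 4), (nat_lit 4), (nat_lit 1), (nat_lit 3), (nat_lit 1), (nat_lit 4), (nat_lit 4)],
  [(nat_lit 2), (nat_lit 2), (nat_lit 8), (nat_lit 4)],
  [(nat_lit 2), (nat_lit 2), (nat_lit 4), (nat_lit 1), (nat_lit 3), (nat_lit 1), (nat_lit 3), (nat_lit 6), (nat_lit 2), (nat_lit 6), (nat_lit 1), (nat_lit 6), (nat_lit 7), (nat_lit 5), (nat_lit 4), (nat_lit 6), (nat_lit 1), (nat_lit 5)],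
  [(nat_lit 3), (nat_lit 7)]],
 [[(nat_lit 2), (nat_lit 2), (nat_lit 8), (nat_lit 4)],
  [(nat_lit 2), (nat_lit 2), (nat_lit 4), (nat_lit 1), (nat_lit 3), (nat_lit 1), (nat_lit 3), (nat_lit 6), (nat_lit 2), (nat_lit 6), (nat_lit 1), (nat_lit 6), (nat_lit 7), (nat_lit 5), (nat_lit 4), (nat_lit 6), (nat_lit 1), (nat_lit 5)],
  [(nat_lit 3), (nat_lit 7)],
  [(nat_lit 4), (nat_lit 6), (nat_lit 1), (nat_lit 4), (nat_lit 4), (nat_lit 5), (nat_lit 8), (nat_lit 5), (nat_lit 1), (nat_lit 6), (nat_lit 2), (nat_lit 5), (nat_lit 4), (nat_lit 4), (nat_lit 1), (nat_lit 3), (nat_lit 1), (nat_lit 4), (nat_lit 4)]],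
 [[(nat_lit 2), (nat_lit 2), (nat_lit 4), (nat_lit 1), (nat_lit 3), (nat_lit 1), (nat_lit 3), (nat_lit 6), (nat_lit 2), (nat_lit 6), (nat_lit 1), (nat_lit 6), (nat_lit 7), (nat_lit 5), (nat_lit 4), (nat_lit 6), (nat_lit 1), (nat_lit 5)],
  [(nat_lit 3), (nat_lit 7)],
  [(nat_lit 4), (nat_lit 6), (nat_lit 1), (nat_lit 4), (nat_lit 4), (nat_lit 5), (nat_lit 8), (nat_lit 5), (nat_lit 1), (nat_lit 6), (nat_lit 2), (nat_lit 5), (nat_lit 4), (nat_lit 4), (nat_lit 1), (nat_lit 3), (nat_lit 1), (nat_lit 4), (nat_lit 4)],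
  [(nat_lit 2), (nat_lit 2), (nat_lit 8), (nat_lit 4)]]]
noncomputable def cN : List (List (List Nat × Nat)) := [[([(nat_lit 5), (nat_lit 9), (nat_lit 48)], (nat_lit 113)), ([], (nat_lit 12)), ([(nat_lit 9)], (nat_lit 145))],
  [([(nat_lit 2), (nat_lit 5), (nat_lit 1), (nat_lit 9), (nat_lit 50)], (nat_lit 115)), ([], (nat_lit 14)), ([(nat_lit 9)], (nat_lit 147))],
  [([(nat_lit 4), (nat_lit 5), (nat_lit 3), (nat_lit 9), (nat_lit 52)], (nat_lit 117)), ([], (nat_lit 16)), ([(nat_lit 9)], (nat_lit 149))],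
  [([(nat_lit 3), (nat_lit 5), (nat_lit 4), (nat_lit 9), (nat_lit 54)], (nat_lit 119)), ([], (nat_lit 18)), ([(nat_lit 9)], (nat_lit 151))],
  [([(nat_lit 6), (nat_lit 2), (nat_lit 6), (nat_lit 1), (nat_lit 5), (nat_lit 2), (nat_lit 5), (nat_lit 1), (nat_lit 9), (nat_lit 56)], (nat_lit 121)), ([(nat_lit 6), (nat_lit 2), (nat_lit 6), (nat_lit 1), (nat_lit 5)], (nat_lit 14)), ([(nat_lit 6), (nat_lit 2), (nat_lit 6), (nat_lit 1)], (nat_lit 12)), ([(nat_lit 6), (nat_lit 24)], (nat_lit 13)), ([(nat_lit 22)], (nat_lit 11)), ([], (nat_lit 20)), ([(nat_lit 9)], (nat_lit 153))],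
  [([(nat_lit 1), (nat_lit 9), (nat_lit 58)], (nat_lit 123)), ([], (nat_lit 90)), ([(nat_lit 9)], (nat_lit 155))],
  [([(nat_lit 3), (nat_lit 1), (nat_lit 4), (nat_lit 9), (nat_lit 60)], (nat_lit 125)), ([], (nat_lit 92)), ([(nat_lit 9)], (nat_lit 157))],
  [([(nat_lit 3), (nat_lit 3), (nat_lit 1), (nat_lit 4), (nat_lit 4), (nat_lit 9), (nat_lit 62)], (nat_lit 127)), ([], (nat_lit 94)), ([(nat_lit 9)], (nat_lit 159))]]
noncomputable def cR : List (List (List Nat × Nat)) := [[([(nat_lit 4), (nat_lit 4), (nat_lit 1), (nat_lit 3), (nat_lit 3), (nat_lit 9), (nat_lit 4), (nat_lit 4), (nat_lit 1), (nat_lit 3), (nat_lit 3), (nat_lit 9)], (nat_lit 98)), ([(nat_lit 4), (nat_lit 4), (nat_lit 1), (nat_lit 3), (nat_lit 3), (nat_lit 9)], (nat_lit 96)), ([], (nat_lit 96)), ([(nat_lit 10), (nat_lit 4), (nat_lit 4), (nat_lit 2), (nat_lit 3), (nat_lit 3)], (nat_lit 96)), ([(nat_lit 10), (nat_lit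 4), (nat_lit 4), (nat_lit 2), (nat_lit 3), (nat_lit 3)], (nat_lit 163))],
  [([(nat_lit 4), (nat_lit 4), (nat_lit 1), (nat_lit 3), (nat_lit 3), (nat_lit 9)], (nat_lit 98)), ([], (nat_lit 96)), ([(nat_lit 10), (nat_lit 4), (nat_lit 4), (nat_lit 2), (nat_lit 3), (nat_lit 3)], (nat_lit 96)), ([(nat_lit 10), (nat_lit 4), (nat_lit 4), (nat_lit 2), (nat_lit 3), (nat_lit 3), (nat_lit 10), (nat_lit 4), (nat_lit 4), (nat_lit 2), (nat_lit 3), (nat_lit 3)], (nat_lit 96)), ([(nat_lit 10), (nat_lit 4), (nat_lit 4), (nat_lit 2), (nat_lit 3), (nat_lit 3), (nat_lit 10), (nat_lit 4), (nat_lit 4), (nat_lit 2), (nat_lit 3), (nat_lit 3)], (nat_lit 163))],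
  [([], (nat_lit 98)), ([(nat_lit 10), (nat_lit 4), (nat_lit 4), (nat_lit 2), (nat_lit 3), (nat_lit 3)], (nat_lit 96)), ([(nat_lit 10), (nat_lit 4), (nat_lit 4), (nat_lit 2), (nat_lit 3), (nat_lit 3), (nat_lit 10), (nat_lit 4), (nat_lit 4), (nat_lit 2), (nat_lit 3), (nat_lit 3)], (nat_lit 96)), ([(nat_lit 10), (nat_lit 4), (nat_lit 4), (nat_lit 2), (nat_lit 3), (nat_lit 3), (nat_lit 10), (nat_lit 4), (nat_lit 4), (nat_lit 2), (nat_lit 3), (nat_lit 3), (nat_lit 10), (nat_lit 4), (nat_lit 4), (nat_lit 2), (nat_lit 3), (nat_lit 3)], (nat_lit 96)), ([(nat_lit 10), (nat_lit 4), (nat_lit 4), (nat_lit 2), (nat_lit 3), (nat_lit 3), (nat_lit 10), (nat_lit 4), (nat_lit 4), (nat_lit 2), (nat_lit 3), (nat_lit 3), (nat_lit 10), (nat_lit 4), (nat_lit 4), (nat_lit 2), (nat_lit 3), (nat_lit 3)], (nat_lit 163))],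
  [([(nat_lit 2), (nat_lit 2), (nat_lit 4), (nat_lit 4), (nat_lit 2), (nat_lit 3), (nat_lit 3), (nat_lit 9), (nat_lit 2), (nat_lit 2), (nat_lit 4), (nat_lit 4), (nat_lit 2), (nat_lit 3), (nat_lit 3), (nat_lit 9), (nat_lit 2), (nat_lit 2), (nat_lit 20)], (nat_lit 95)), ([(nat_lit 2), (nat_lit 2), (nat_lit 4), (nat_lit 4), (nat_lit 2), (nat_lit 3), (nat_lit 3), (nat_lit 9), (nat_lit 2), (nat_lit 2), (nat_lit 4), (nat_lit 4), (nat_lit 2), (nat_lit 3), (nat_lit 3), (nat_lit 9), (nat_lit 32)], (nat_lit 97)), ([(nat_lit 2), (nat_lit 2), (nat_lit 4), (nat_lit 4), (nat_lit 2), (nat_lit 3), (nat_lit 3), (nat_lit 9), (nat_lit 2), (nat_lit 2), (nat_lit 4), (nat_lit 4), (nat_lit 2), (nat_lit 3), (nat_lit 3), (nat_lit 10)], (nat_lit 161)), ([(nat_lit 2), (nat_lit 2), (nat_lit 4), (nat_lit 4), (nat_lit 2), (nat_lit 3), (nat_lit 3), (nat_lit 9), (nat_lit 2), (nat_lit 2), (nat_lit 20)], (nat_lit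 95)), ([(nat_lit 2), (nat_lit 2), (nat_lit 4), (nat_lit 4), (nat_lit 2), (nat_lit 3), (nat_lit 3), (nat_lit 9), (nat_lit 32)], (nat_lit 97)), ([(nat_lit 2), (nat_lit 2), (nat_lit 4), (nat_lit 4), (nat_lit 2), (nat_lit 3), (nat_lit 3), (nat_lit 10)], (nat_lit 161)), ([(nat_lit 2), (nat_lit 2), (nat_lit 20)], (nat_lit 95)), ([(nat_lit 32)], (nat_lit 97)), ([(nat_lit 10), (nat_lit 10)], (nat_lit 161)), ([(nat_lit 10), (nat_lit 1), (nat_lit 1), (nat_lit 32)], (nat_lit 97)), ([(nat_lit 10), (nat_lit 1), (nat_lit 1)], (nat_lit 164))],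
  [([(nat_lit 2), (nat_lit 2), (nat_lit 4), (nat_lit 4), (nat_lit 2), (nat_lit 3), (nat_lit 3), (nat_lit 9), (nat_lit 2), (nat_lit 2), (nat_lit 20)], (nat_lit 95)), ([(nat_lit 2), (nat_lit 2), (nat_lit 4), (nat_lit 4), (nat_lit 2), (nat_lit 3), (nat_lit 3), (nat_lit 9), (nat_lit 32)], (nat_lit 97)), ([(nat_lit 2), (nat_lit 2), (nat_lit 4), (nat_lit 4), (nat_lit 2), (nat_lit 3), (nat_lit 3), (nat_lit 10)], (nat_lit 161)), ([(nat_lit 2), (nat_lit 2), (nat_lit 20)], (nat_lit 95)), ([(nat_lit 32)], (nat_lit 97)), ([(nat_lit 10), (nat_lit 10)], (nat_lit 161)), ([(nat_lit 10), (nat_lit 4), (nat_lit 4), (nat_lit 1), (nat_lit 3), (nat_lit 3), (nat_lit 20)], (nat_lit 95)), ([(nat_lit 10), (nat_lit 4), (nat_lit 4), (nat_lit 1), (nat_lit 3), (nat_lit 3), (nat_lit 1), (nat_lit 1), (nat_lit 32)], (nat_lit 97)), ([(nat_lit 10), (nat_lit 4), (nat_lit 4), (nat_lit 1), (nat_lit 3), (nat_lit 3),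 (nat_lit 1), (nat_lit 1), (nat_lit 10), (nat_lit 10)], (nat_lit 161)), ([(nat_lit 10), (nat_lit 4), (nat_lit 4), (nat_lit 1), (nat_lit 3), (nat_lit 3), (nat_lit 1), (nat_lit 1), (nat_lit 10), (nat_lit 1), (nat_lit 1), (nat_lit 32)], (nat_lit 97)), ([(nat_lit 10), (nat_lit 4), (nat_lit 4), (nat_lit 1), (nat_lit 3), (nat_lit 3), (nat_lit 1), (nat_lit 1), (nat_lit 10), (nat_lit 1), (nat_lit 1)], (nat_lit 164))],
  [([(nat_lit 2), (nat_lit 2), (nat_lit 20)], (nat_lit 95)), ([(nat_lit 32)], (nat_lit 97)), ([(nat_lit 10), (nat_lit 10)], (nat_lit 161)), ([(nat_lit 10), (nat_lit 4), (nat_lit 4), (nat_lit 1), (nat_lit 3), (nat_lit 3), (nat_lit 20)], (nat_lit 95)), ([(nat_lit 10), (nat_lit 4), (nat_lit 4), (nat_lit 1), (nat_lit 3), (nat_lit 3), (nat_lit 1), (nat_lit 1), (nat_lit 32)], (nat_lit 97)), ([(nat_lit 10), (nat_lit 4), (nat_lit 4), (nat_lit 1), (nat_lit 3), (nat_lit 3), (nat_lit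 1), (nat_lit 1), (nat_lit 10), (nat_lit 10)], (nat_lit 161)), ([(nat_lit 10), (nat_lit 4), (nat_lit 4), (nat_lit 1), (nat_lit 3), (nat_lit 3), (nat_lit 1), (nat_lit 1), (nat_lit 10), (nat_lit 4), (nat_lit 4), (nat_lit 1), (nat_lit 3), (nat_lit 3), (nat_lit 20)], (nat_lit 95)), ([(nat_lit 10), (nat_lit 4), (nat_lit 4), (nat_lit 1), (nat_lit 3), (nat_lit 3), (nat_lit 1), (nat_lit 1), (nat_lit 10), (nat_lit 4), (nat_lit 4), (nat_lit 1), (nat_lit 3), (nat_lit 3), (nat_lit 1), (nat_lit 1), (nat_lit 32)], (nat_lit 97)), ([(nat_lit 10), (nat_lit 4), (nat_lit 4), (nat_lit 1), (nat_lit 3), (nat_lit 3), (nat_lit 1), (nat_lit 1), (nat_lit 10), (nat_lit 4), (nat_lit 4), (nat_lit 1), (nat_lit 3), (nat_lit 3), (nat_lit 1), (nat_lit 1), (nat_lit 10), (nat_lit 10)], (nat_lit 161)), ([(nat_lit 10), (nat_lit 4), (nat_lit 4), (nat_lit 1), (nat_lit 3), (nat_lit 3), (nat_lit 1), (nat_lit 1), (nat_lit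 10), (nat_lit 4), (nat_lit 4), (nat_lit 1), (nat_lit 3), (nat_lit 3), (nat_lit 1), (nat_lit 1), (nat_lit 10), (nat_lit 1), (nat_lit 1), (nat_lit 32)], (nat_lit 97)), ([(nat_lit 10), (nat_lit 4), (nat_lit 4), (nat_lit 1), (nat_lit 3), (nat_lit 3), (nat_lit 1), (nat_lit 1), (nat_lit 10), (nat_lit 4), (nat_lit 4), (nat_lit 1), (nat_lit 3), (nat_lit 3), (nat_lit 1), (nat_lit 1), (nat_lit 10), (nat_lit 1), (nat_lit 1)], (nat_lit 164))],
  [([(nat_lit 2), (nat_lit 7), (nat_lit 4), (nat_lit 6), (nat_lit 2), (nat_lit 3), (nat_lit 6), (nat_lit 8), (nat_lit 3), (nat_lit 6), (nat_lit 4), (nat_lit 2), (nat_lit 6), (nat_lit 1), (nat_lit 4), (nat_lit 1), (nat_lit 3), (nat_lit 1), (nat_lit 4), (nat_lit 9)], (nat_lit 138)), ([], (nat_lit 130)), ([(nat_lit 10), (nat_lit 7), (nat_lit 5), (nat_lit 4), (nat_lit 1), (nat_lit 5), (nat_lit 1), (nat_lit 7), (nat_lit 5)], (nat_lit 108)), ([(nat_lit 10),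 (nat_lit 7), (nat_lit 5), (nat_lit 4), (nat_lit 1), (nat_lit 5), (nat_lit 1), (nat_lit 7), (nat_lit 5)], (nat_lit 165))],
  [([], (nat_lit 138)), ([(nat_lit 10), (nat_lit 3), (nat_lit 2), (nat_lit 4), (nat_lit 2), (nat_lit 3), (nat_lit 2), (nat_lit 5), (nat_lit 1), (nat_lit 3), (nat_lit 5), (nat_lit 4), (nat_lit 7), (nat_lit 5), (nat_lit 4), (nat_lit 1), (nat_lit 5), (nat_lit 3), (nat_lit 8), (nat_lit 1)], (nat_lit 130)), ([(nat_lit 10), (nat_lit 3), (nat_lit 2), (nat_lit 4), (nat_lit 2), (nat_lit 3), (nat_lit 2), (nat_lit 5), (nat_lit 1), (nat_lit 3), (nat_lit 5), (nat_lit 4), (nat_lit 7), (nat_lit 5), (nat_lit 4), (nat_lit 1), (nat_lit 5), (nat_lit 3), (nat_lit 8), (nat_lit 1), (nat_lit 10), (nat_lit 7), (nat_lit 5), (nat_lit 4), (nat_lit 1), (nat_lit 5), (nat_lit 1), (nat_lit 7), (nat_lit 5)], (nat_lit 108)), ([(nat_lit 10), (nat_lit 3), (nat_lit 2), (nat_lit 4), (nat_lit 2),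 (nat_lit 3), (nat_lit 2), (nat_lit 5), (nat_lit 1), (nat_lit 3), (nat_lit 5), (nat_lit 4), (nat_lit 7), (nat_lit 5), (nat_lit 4), (nat_lit 1), (nat_lit 5), (nat_lit 3), (nat_lit 8), (nat_lit 1), (nat_lit 10), (nat_lit 7), (nat_lit 5), (nat_lit 4), (nat_lit 1), (nat_lit 5), (nat_lit 1), (nat_lit 7), (nat_lit 5)], (nat_lit 165))],
  [([(nat_lit 6), (nat_lit 8), (nat_lit 2), (nat_lit 6), (nat_lit 2), (nat_lit 3), (nat_lit 6), (nat_lit 8), (nat_lit 9), (nat_lit 2), (nat_lit 7), (nat_lit 4), (nat_lit 6), (nat_lit 2), (nat_lit 3), (nat_lit 6), (nat_lit 8), (nat_lit 3), (nat_lit 6), (nat_lit 4), (nat_lit 2), (nat_lit 6), (nat_lit 1), (nat_lit 4), (nat_lit 1), (nat_lit 3), (nat_lit 1), (nat_lit 4), (nat_lit 9)], (nat_lit 138)), ([(nat_lit 6), (nat_lit 8), (nat_lit 2), (nat_lit 6), (nat_lit 2), (nat_lit 3), (nat_lit 6), (nat_lit 8), (nat_lit 9)], (nat_lit 130)), ([], (nat_lit 108)), ([],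 (nat_lit 165))],
  [([(nat_lit 2), (nat_lit 2), (nat_lit 3), (nat_lit 3), (nat_lit 1), (nat_lit 3), (nat_lit 5), (nat_lit 3), (nat_lit 3), (nat_lit 6), (nat_lit 2), (nat_lit 5), (nat_lit 1), (nat_lit 7), (nat_lit 5), (nat_lit 2), (nat_lit 3), (nat_lit 5), (nat_lit 2), (nat_lit 7), (nat_lit 5), (nat_lit 1), (nat_lit 9), (nat_lit 2), (nat_lit 2), (nat_lit 3), (nat_lit 2), (nat_lit 4), (nat_lit 2), (nat_lit 3), (nat_lit 2), (nat_lit 5), (nat_lit 1), (nat_lit 3), (nat_lit 5), (nat_lit 4), (nat_lit 7), (nat_lit 5), (nat_lit 4), (nat_lit 1), (nat_lit 5), (nat_lit 3), (nat_lit 8), (nat_lit 1), (nat_lit 9), (nat_lit 2), (nat_lit 2), (nat_lit 42)], (nat_lit 107)), ([(nat_lit 2), (nat_lit 2), (nat_lit 3), (nat_lit 3), (nat_lit 1), (nat_lit 3), (nat_lit 5), (nat_lit 3), (nat_lit 3), (nat_lit 6), (nat_lit 2), (nat_lit 5), (nat_lit 1), (nat_lit 7), (nat_lit 5), (nat_lit 2), (nat_lit 3), (nat_lit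 5), (nat_lit 2), (nat_lit 7), (nat_lit 5), (nat_lit 1), (nat_lit 9), (nat_lit 2), (nat_lit 2), (nat_lit 3), (nat_lit 2), (nat_lit 4), (nat_lit 2), (nat_lit 3), (nat_lit 2), (nat_lit 5), (nat_lit 1), (nat_lit 3), (nat_lit 5), (nat_lit 4), (nat_lit 7), (nat_lit 5), (nat_lit 4), (nat_lit 1), (nat_lit 5), (nat_lit 3), (nat_lit 8), (nat_lit 1), (nat_lit 9), (nat_lit 32)], (nat_lit 97)), ([(nat_lit 2), (nat_lit 2), (nat_lit 3), (nat_lit 3), (nat_lit 1), (nat_lit 3), (nat_lit 5), (nat_lit 3), (nat_lit 3), (nat_lit 6), (nat_lit 2), (nat_lit 5), (nat_lit 1), (nat_lit 7), (nat_lit 5), (nat_lit 2), (nat_lit 3), (nat_lit 5), (nat_lit 2), (nat_lit 7), (nat_lit 5), (nat_lit 1), (nat_lit 9), (nat_lit 2), (nat_lit 2), (nat_lit 3), (nat_lit 2), (nat_lit 4), (nat_lit 2), (nat_lit 3), (nat_lit 2), (nat_lit 5), (nat_lit 1), (nat_lit 3), (nat_lit 5), (nat_lit 4), (nat_lit 7), (nat_lit 5), (nat_lit 4),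 (nat_lit 1), (nat_lit 5), (nat_lit 3), (nat_lit 8), (nat_lit 1), (nat_lit 10)], (nat_lit 161)), ([(nat_lit 2), (nat_lit 2), (nat_lit 3), (nat_lit 3), (nat_lit 1), (nat_lit 3), (nat_lit 5), (nat_lit 3), (nat_lit 3), (nat_lit 6), (nat_lit 2), (nat_lit 5), (nat_lit 1), (nat_lit 7), (nat_lit 5), (nat_lit 2), (nat_lit 3), (nat_lit 5), (nat_lit 2), (nat_lit 7), (nat_lit 5), (nat_lit 1), (nat_lit 9), (nat_lit 2), (nat_lit 2), (nat_lit 64)], (nat_lit 129)), ([(nat_lit 2), (nat_lit 2), (nat_lit 3), (nat_lit 3), (nat_lit 1), (nat_lit 3), (nat_lit 5), (nat_lit 3), (nat_lit 3), (nat_lit 6), (nat_lit 2), (nat_lit 5), (nat_lit 1), (nat_lit 7), (nat_lit 5), (nat_lit 2), (nat_lit 3), (nat_lit 5), (nat_lit 2), (nat_lit 7), (nat_lit 5), (nat_lit 1), (nat_lit 9), (nat_lit 32)], (nat_lit 97)), ([(nat_lit 2), (nat_lit 2), (nat_lit 3), (nat_lit 3), (nat_lit 1), (nat_lit 3), (nat_lit 5), (nat_lit 3),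 (nat_lit 3), (nat_lit 6), (nat_lit 2), (nat_lit 5), (nat_lit 1), (nat_lit 7), (nat_lit 5), (nat_lit 2), (nat_lit 3), (nat_lit 5), (nat_lit 2), (nat_lit 7), (nat_lit 5), (nat_lit 1), (nat_lit 10)], (nat_lit 161)), ([(nat_lit 2), (nat_lit 2), (nat_lit 72)], (nat_lit 137)), ([(nat_lit 32)], (nat_lit 97)), ([(nat_lit 10), (nat_lit 10)], (nat_lit 161)), ([(nat_lit 10)], (nat_lit 166))],
  [([(nat_lit 2), (nat_lit 2), (nat_lit 3), (nat_lit 2), (nat_lit 4), (nat_lit 2), (nat_lit 3), (nat_lit 2), (nat_lit 5), (nat_lit 1), (nat_lit 3), (nat_lit 5), (nat_lit 4), (nat_lit 7), (nat_lit 5), (nat_lit 4), (nat_lit 1), (nat_lit 5), (nat_lit 3), (nat_lit 8), (nat_lit 1), (nat_lit 9), (nat_lit 2), (nat_lit 2), (nat_lit 42)], (nat_lit 107)), ([(nat_lit 2), (nat_lit 2), (nat_lit 3), (nat_lit 2), (nat_lit 4), (nat_lit 2), (nat_lit 3), (nat_lit 2), (nat_lit 5), (nat_lit 1), (nat_lit 3), (nat_lit 5),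 (nat_lit 4), (nat_lit 7), (nat_lit 5), (nat_lit 4), (nat_lit 1), (nat_lit 5), (nat_lit 3), (nat_lit 8), (nat_lit 1), (nat_lit 9), (nat_lit 32)], (nat_lit 97)), ([(nat_lit 2), (nat_lit 2), (nat_lit 3), (nat_lit 2), (nat_lit 4), (nat_lit 2), (nat_lit 3), (nat_lit 2), (nat_lit 5), (nat_lit 1), (nat_lit 3), (nat_lit 5), (nat_lit 4), (nat_lit 7), (nat_lit 5), (nat_lit 4), (nat_lit 1), (nat_lit 5), (nat_lit 3), (nat_lit 8), (nat_lit 1), (nat_lit 10)], (nat_lit 161)), ([(nat_lit 2), (nat_lit 2), (nat_lit 64)], (nat_lit 129)), ([(nat_lit 32)], (nat_lit 97)), ([(nat_lit 10), (nat_lit 10)], (nat_lit 161)), ([(nat_lit 10), (nat_lit 2), (nat_lit 6), (nat_lit 8), (nat_lit 1), (nat_lit 6), (nat_lit 4), (nat_lit 1), (nat_lit 6), (nat_lit 8), (nat_lit 2), (nat_lit 6), (nat_lit 1), (nat_lit 5), (nat_lit 4), (nat_lit 4), (nat_lit 6), (nat_lit 4), (nat_lit 2), (nat_lit 4), (nat_lit 4), (nat_lit 72)],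 (nat_lit 137)), ([(nat_lit 10), (nat_lit 2), (nat_lit 6), (nat_lit 8), (nat_lit 1), (nat_lit 6), (nat_lit 4), (nat_lit 1), (nat_lit 6), (nat_lit 8), (nat_lit 2), (nat_lit 6), (nat_lit 1), (nat_lit 5), (nat_lit 4), (nat_lit 4), (nat_lit 6), (nat_lit 4), (nat_lit 2), (nat_lit 4), (nat_lit 4), (nat_lit 1), (nat_lit 1), (nat_lit 32)], (nat_lit 97)), ([(nat_lit 10), (nat_lit 2), (nat_lit 6), (nat_lit 8), (nat_lit 1), (nat_lit 6), (nat_lit 4), (nat_lit 1), (nat_lit 6), (nat_lit 8), (nat_lit 2), (nat_lit 6), (nat_lit 1), (nat_lit 5), (nat_lit 4), (nat_lit 4), (nat_lit 6), (nat_lit 4), (nat_lit 2), (nat_lit 4), (nat_lit 4), (nat_lit 1), (nat_lit 1), (nat_lit 10), (nat_lit 10)], (nat_lit 161)), ([(nat_lit 10), (nat_lit 2), (nat_lit 6), (nat_lit 8), (nat_lit 1), (nat_lit 6), (nat_lit 4), (nat_lit 1), (nat_lit 6), (nat_lit 8), (nat_lit 2), (nat_lit 6), (nat_lit 1), (nat_lit 5), (nat_lit 4),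 (nat_lit 4), (nat_lit 6), (nat_lit 4), (nat_lit 2), (nat_lit 4), (nat_lit 4), (nat_lit 1), (nat_lit 1), (nat_lit 10)], (nat_lit 166))],
  [([(nat_lit 2), (nat_lit 2), (nat_lit 42)], (nat_lit 107)), ([(nat_lit 32)], (nat_lit 97)), ([(nat_lit 10), (nat_lit 10)], (nat_lit 161)), ([(nat_lit 10), (nat_lit 2), (nat_lit 7), (nat_lit 4), (nat_lit 6), (nat_lit 2), (nat_lit 3), (nat_lit 6), (nat_lit 8), (nat_lit 3), (nat_lit 6), (nat_lit 4), (nat_lit 2), (nat_lit 6), (nat_lit 1), (nat_lit 4), (nat_lit 1), (nat_lit 3), (nat_lit 1), (nat_lit 4), (nat_lit 64)], (nat_lit 129)), ([(nat_lit 10), (nat_lit 2), (nat_lit 7), (nat_lit 4), (nat_lit 6), (nat_lit 2), (nat_lit 3), (nat_lit 6), (nat_lit 8), (nat_lit 3), (nat_lit 6), (nat_lit 4), (nat_lit 2), (nat_lit 6), (nat_lit 1), (nat_lit 4), (nat_lit 1), (nat_lit 3), (nat_lit 1), (nat_lit 4), (nat_lit 1), (nat_lit 1), (nat_lit 32)], (nat_lit 97)), ([(nat_lit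 10), (nat_lit 2), (nat_lit 7), (nat_lit 4), (nat_lit 6), (nat_lit 2), (nat_lit 3), (nat_lit 6), (nat_lit 8), (nat_lit 3), (nat_lit 6), (nat_lit 4), (nat_lit 2), (nat_lit 6), (nat_lit 1), (nat_lit 4), (nat_lit 1), (nat_lit 3), (nat_lit 1), (nat_lit 4), (nat_lit 1), (nat_lit 1), (nat_lit 10), (nat_lit 10)], (nat_lit 161)), ([(nat_lit 10), (nat_lit 2), (nat_lit 7), (nat_lit 4), (nat_lit 6), (nat_lit 2), (nat_lit 3), (nat_lit 6), (nat_lit 8), (nat_lit 3), (nat_lit 6), (nat_lit 4), (nat_lit 2), (nat_lit 6), (nat_lit 1), (nat_lit 4), (nat_lit 1), (nat_lit 3), (nat_lit 1), (nat_lit 4), (nat_lit 1), (nat_lit 1), (nat_lit 10), (nat_lit 2), (nat_lit 6), (nat_lit 8), (nat_lit 1), (nat_lit 6), (nat_lit 4), (nat_lit 1), (nat_lit 6), (nat_lit 8), (nat_lit 2), (nat_lit 6), (nat_lit 1), (nat_lit 5), (nat_lit 4), (nat_lit 4), (nat_lit 6), (nat_lit 4), (nat_lit 2), (nat_lit 4), (nat_lit 4), (nat_lit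 72)], (nat_lit 137)), ([(nat_lit 10), (nat_lit 2), (nat_lit 7), (nat_lit 4), (nat_lit 6), (nat_lit 2), (nat_lit 3), (nat_lit 6), (nat_lit 8), (nat_lit 3), (nat_lit 6), (nat_lit 4), (nat_lit 2), (nat_lit 6), (nat_lit 1), (nat_lit 4), (nat_lit 1), (nat_lit 3), (nat_lit 1), (nat_lit 4), (nat_lit 1), (nat_lit 1), (nat_lit 10), (nat_lit 2), (nat_lit 6), (nat_lit 8), (nat_lit 1), (nat_lit 6), (nat_lit 4), (nat_lit 1), (nat_lit 6), (nat_lit 8), (nat_lit 2), (nat_lit 6), (nat_lit 1), (nat_lit 5), (nat_lit 4), (nat_lit 4), (nat_lit 6), (nat_lit 4), (nat_lit 2), (nat_lit 4), (nat_lit 4), (nat_lit 1), (nat_lit 1), (nat_lit 32)], (nat_lit 97)), ([(nat_lit 10), (nat_lit 2), (nat_lit 7), (nat_lit 4), (nat_lit 6), (nat_lit 2), (nat_lit 3), (nat_lit 6), (nat_lit 8), (nat_lit 3), (nat_lit 6), (nat_lit 4), (nat_lit 2), (nat_lit 6), (nat_lit 1), (nat_lit 4), (nat_lit 1), (nat_lit 3), (nat_lit 1),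 (nat_lit 4), (nat_lit 1), (nat_lit 1), (nat_lit 10), (nat_lit 2), (nat_lit 6), (nat_lit 8), (nat_lit 1), (nat_lit 6), (nat_lit 4), (nat_lit 1), (nat_lit 6), (nat_lit 8), (nat_lit 2), (nat_lit 6), (nat_lit 1), (nat_lit 5), (nat_lit 4), (nat_lit 4), (nat_lit 6), (nat_lit 4), (nat_lit 2), (nat_lit 4), (nat_lit 4), (nat_lit 1), (nat_lit 1), (nat_lit 10), (nat_lit 10)], (nat_lit 161)), ([(nat_lit 10), (nat_lit 2), (nat_lit 7), (nat_lit 4), (nat_lit 6), (nat_lit 2), (nat_lit 3), (nat_lit 6), (nat_lit 8), (nat_lit 3), (nat_lit 6), (nat_lit 4), (nat_lit 2), (nat_lit 6), (nat_lit 1), (nat_lit 4), (nat_lit 1), (nat_lit 3), (nat_lit 1), (nat_lit 4), (nat_lit 1), (nat_lit 1), (nat_lit 10), (nat_lit 2), (nat_lit 6), (nat_lit 8), (nat_lit 1), (nat_lit 6), (nat_lit 4), (nat_lit 1), (nat_lit 6), (nat_lit 8), (nat_lit 2), (nat_lit 6), (nat_lit 1), (nat_lit 5), (nat_lit 4), (nat_lit 4), (nat_lit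 6), (nat_lit 4), (nat_lit 2), (nat_lit 4), (nat_lit 4), (nat_lit 1), (nat_lit 1), (nat_lit 10)], (nat_lit 166))],
  [([(nat_lit 2), (nat_lit 2), (nat_lit 8), (nat_lit 9), (nat_lit 2), (nat_lit 2), (nat_lit 2), (nat_lit 6), (nat_lit 8), (nat_lit 3), (nat_lit 2), (nat_lit 4), (nat_lit 6), (nat_lit 8), (nat_lit 3), (nat_lit 2), (nat_lit 4), (nat_lit 6), (nat_lit 4), (nat_lit 1), (nat_lit 4), (nat_lit 4), (nat_lit 1), (nat_lit 4), (nat_lit 9), (nat_lit 7), (nat_lit 9)], (nat_lit 106)), ([(nat_lit 2), (nat_lit 2), (nat_lit 8), (nat_lit 9), (nat_lit 2), (nat_lit 2), (nat_lit 2), (nat_lit 6), (nat_lit 8), (nat_lit 3), (nat_lit 2), (nat_lit 4), (nat_lit 6), (nat_lit 8), (nat_lit 3), (nat_lit 2), (nat_lit 4), (nat_lit 6), (nat_lit 4), (nat_lit 1), (nat_lit 4), (nat_lit 4), (nat_lit 1), (nat_lit 4), (nat_lit 9)], (nat_lit 100)), ([(nat_lit 2), (nat_lit 2), (nat_lit 8), (nat_lit 9), (nat_lit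 2), (nat_lit 2)], (nat_lit 140)), ([(nat_lit 2), (nat_lit 2), (nat_lit 8), (nat_lit 9), (nat_lit 32)], (nat_lit 97)), ([(nat_lit 2), (nat_lit 2), (nat_lit 8), (nat_lit 10)], (nat_lit 161)), ([(nat_lit 2), (nat_lit 2)], (nat_lit 102)), ([(nat_lit 32)], (nat_lit 97)), ([(nat_lit 10), (nat_lit 10)], (nat_lit 161)), ([(nat_lit 10)], (nat_lit 167))],
  [([(nat_lit 2), (nat_lit 2), (nat_lit 2), (nat_lit 6), (nat_lit 8), (nat_lit 3), (nat_lit 2), (nat_lit 4), (nat_lit 6), (nat_lit 8), (nat_lit 3), (nat_lit 2), (nat_lit 4), (nat_lit 6), (nat_lit 4), (nat_lit 1), (nat_lit 4), (nat_lit 4), (nat_lit 1), (nat_lit 4), (nat_lit 9), (nat_lit 7), (nat_lit 9)], (nat_lit 106)), ([(nat_lit 2), (nat_lit 2), (nat_lit 2), (nat_lit 6), (nat_lit 8), (nat_lit 3), (nat_lit 2), (nat_lit 4), (nat_lit 6), (nat_lit 8), (nat_lit 3), (nat_lit 2), (nat_lit 4), (nat_lit 6), (nat_lit 4), (nat_lit 1), (nat_lit 4),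 (nat_lit 4), (nat_lit 1), (nat_lit 4), (nat_lit 9)], (nat_lit 100)), ([(nat_lit 2), (nat_lit 2)], (nat_lit 140)), ([(nat_lit 32)], (nat_lit 97)), ([(nat_lit 10), (nat_lit 10)], (nat_lit 161)), ([(nat_lit 10), (nat_lit 7)], (nat_lit 102)), ([(nat_lit 10), (nat_lit 7), (nat_lit 1), (nat_lit 1), (nat_lit 32)], (nat_lit 97)), ([(nat_lit 10), (nat_lit 7), (nat_lit 1), (nat_lit 1), (nat_lit 10), (nat_lit 10)], (nat_lit 161)), ([(nat_lit 10), (nat_lit 7), (nat_lit 1), (nat_lit 1), (nat_lit 10)], (nat_lit 167))],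
  [([(nat_lit 7), (nat_lit 9)], (nat_lit 106)), ([], (nat_lit 100)), ([(nat_lit 10), (nat_lit 3), (nat_lit 2), (nat_lit 3), (nat_lit 3), (nat_lit 2), (nat_lit 3), (nat_lit 5), (nat_lit 3), (nat_lit 1), (nat_lit 4), (nat_lit 7), (nat_lit 5), (nat_lit 3), (nat_lit 1), (nat_lit 4), (nat_lit 7), (nat_lit 5), (nat_lit 1)], (nat_lit 140)), ([(nat_lit 10), (nat_lit 3), (nat_lit 2), (nat_lit 3), (nat_lit 3), (nat_lit 2), (nat_lit 3), (nat_lit 5), (nat_lit 3), (nat_lit 1), (nat_lit 4), (nat_lit 7), (nat_lit 5), (nat_lit 3), (nat_lit 1), (nat_lit 4), (nat_lit 7), (nat_lit 5), (nat_lit 1), (nat_lit 1), (nat_lit 1), (nat_lit 32)], (nat_lit 97)), ([(nat_lit 10), (nat_lit 3), (nat_lit 2), (nat_lit 3), (nat_lit 3), (nat_lit 2), (nat_lit 3), (nat_lit 5), (nat_lit 3), (nat_lit 1), (nat_lit 4), (nat_lit 7), (nat_lit 5), (nat_lit 3), (nat_lit 1), (nat_lit 4), (nat_lit 7), (nat_lit 5), (nat_lit 1),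 (nat_lit 1), (nat_lit 1), (nat_lit 10), (nat_lit 10)], (nat_lit 161)), ([(nat_lit 10), (nat_lit 3), (nat_lit 2), (nat_lit 3), (nat_lit 3), (nat_lit 2), (nat_lit 3), (nat_lit 5), (nat_lit 3), (nat_lit 1), (nat_lit 4), (nat_lit 7), (nat_lit 5), (nat_lit 3), (nat_lit 1), (nat_lit 4), (nat_lit 7), (nat_lit 5), (nat_lit 1), (nat_lit 1), (nat_lit 1), (nat_lit 10), (nat_lit 7)], (nat_lit 102)), ([(nat_lit 10), (nat_lit 3), (nat_lit 2), (nat_lit 3), (nat_lit 3), (nat_lit 2), (nat_lit 3), (nat_lit 5), (nat_lit 3), (nat_lit 1), (nat_lit 4), (nat_lit 7), (nat_lit 5), (nat_lit 3), (nat_lit 1), (nat_lit 4), (nat_lit 7), (nat_lit 5), (nat_lit 1), (nat_lit 1), (nat_lit 1), (nat_lit 10), (nat_lit 7), (nat_lit 1), (nat_lit 1), (nat_lit 32)], (nat_lit 97)), ([(nat_lit 10), (nat_lit 3), (nat_lit 2), (nat_lit 3), (nat_lit 3), (nat_lit 2), (nat_lit 3), (nat_lit 5), (nat_lit 3), (nat_lit 1), (nat_lit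 4), (nat_lit 7), (nat_lit 5), (nat_lit 3), (nat_lit 1), (nat_lit 4), (nat_lit 7), (nat_lit 5), (nat_lit 1), (nat_lit 1), (nat_lit 1), (nat_lit 10), (nat_lit 7), (nat_lit 1), (nat_lit 1), (nat_lit 10), (nat_lit 10)], (nat_lit 161)), ([(nat_lit 10), (nat_lit 3), (nat_lit 2), (nat_lit 3), (nat_lit 3), (nat_lit 2), (nat_lit 3), (nat_lit 5), (nat_lit 3), (nat_lit 1), (nat_lit 4), (nat_lit 7), (nat_lit 5), (nat_lit 3), (nat_lit 1), (nat_lit 4), (nat_lit 7), (nat_lit 5), (nat_lit 1), (nat_lit 1), (nat_lit 1), (nat_lit 10), (nat_lit 7), (nat_lit 1), (nat_lit 1), (nat_lit 10)], (nat_lit 167))],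
  [([], (nat_lit 106)), ([(nat_lit 10), (nat_lit 8)], (nat_lit 100)), ([(nat_lit 10), (nat_lit 8), (nat_lit 10), (nat_lit 3), (nat_lit 2), (nat_lit 3), (nat_lit 3), (nat_lit 2), (nat_lit 3), (nat_lit 5), (nat_lit 3), (nat_lit 1), (nat_lit 4), (nat_lit 7), (nat_lit 5), (nat_lit 3), (nat_lit 1), (nat_lit 4), (nat_lit 7), (nat_lit 5), (nat_lit 1)], (nat_lit 140)), ([(nat_lit 10), (nat_lit 8), (nat_lit 10), (nat_lit 3), (nat_lit 2), (nat_lit 3), (nat_lit 3), (nat_lit 2), (nat_lit 3), (nat_lit 5), (nat_lit 3), (nat_lit 1), (nat_lit 4), (nat_lit 7), (nat_lit 5), (nat_lit 3), (nat_lit 1), (nat_lit 4), (nat_lit 7), (nat_lit 5), (nat_lit 1), (nat_lit 1), (nat_lit 1), (nat_lit 32)], (nat_lit 97)), ([(nat_lit 10), (nat_lit 8), (nat_lit 10), (nat_lit 3), (nat_lit 2), (nat_lit 3), (nat_lit 3), (nat_lit 2), (nat_lit 3), (nat_lit 5), (nat_lit 3), (nat_lit 1), (nat_lit 4), (nat_lit 7), (nat_lit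 5), (nat_lit 3), (nat_lit 1), (nat_lit 4), (nat_lit 7), (nat_lit 5), (nat_lit 1), (nat_lit 1), (nat_lit 1), (nat_lit 10), (nat_lit 10)], (nat_lit 161)), ([(nat_lit 10), (nat_lit 8), (nat_lit 10), (nat_lit 3), (nat_lit 2), (nat_lit 3), (nat_lit 3), (nat_lit 2), (nat_lit 3), (nat_lit 5), (nat_lit 3), (nat_lit 1), (nat_lit 4), (nat_lit 7), (nat_lit 5), (nat_lit 3), (nat_lit 1), (nat_lit 4), (nat_lit 7), (nat_lit 5), (nat_lit 1), (nat_lit 1), (nat_lit 1), (nat_lit 10), (nat_lit 7)], (nat_lit 102)), ([(nat_lit 10), (nat_lit 8), (nat_lit 10), (nat_lit 3), (nat_lit 2), (nat_lit 3), (nat_lit 3), (nat_lit 2), (nat_lit 3), (nat_lit 5), (nat_lit 3), (nat_lit 1), (nat_lit 4), (nat_lit 7), (nat_lit 5), (nat_lit 3), (nat_lit 1), (nat_lit 4), (nat_lit 7), (nat_lit 5), (nat_lit 1), (nat_lit 1), (nat_lit 1), (nat_lit 10), (nat_lit 7), (nat_lit 1), (nat_lit 1), (nat_lit 32)], (nat_lit 97)), ([(nat_lit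 10), (nat_lit 8), (nat_lit 10), (nat_lit 3), (nat_lit 2), (nat_lit 3), (nat_lit 3), (nat_lit 2), (nat_lit 3), (nat_lit 5), (nat_lit 3), (nat_lit 1), (nat_lit 4), (nat_lit 7), (nat_lit 5), (nat_lit 3), (nat_lit 1), (nat_lit 4), (nat_lit 7), (nat_lit 5), (nat_lit 1), (nat_lit 1), (nat_lit 1), (nat_lit 10), (nat_lit 7), (nat_lit 1), (nat_lit 1), (nat_lit 10), (nat_lit 10)], (nat_lit 161)), ([(nat_lit 10), (nat_lit 8), (nat_lit 10), (nat_lit 3), (nat_lit 2), (nat_lit 3), (nat_lit 3), (nat_lit 2), (nat_lit 3), (nat_lit 5), (nat_lit 3), (nat_lit 1), (nat_lit 4), (nat_lit 7), (nat_lit 5), (nat_lit 3), (nat_lit 1), (nat_lit 4), (nat_lit 7), (nat_lit 5), (nat_lit 1), (nat_lit 1), (nat_lit 1), (nat_lit 10), (nat_lit 7), (nat_lit 1), (nat_lit 1), (nat_lit 10)], (nat_lit 167))],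
  [([(nat_lit 2), (nat_lit 2), (nat_lit 8), (nat_lit 9), (nat_lit 2), (nat_lit 2), (nat_lit 3), (nat_lit 2), (nat_lit 3), (nat_lit 3), (nat_lit 2), (nat_lit 3), (nat_lit 5), (nat_lit 3), (nat_lit 1), (nat_lit 4), (nat_lit 7), (nat_lit 5), (nat_lit 3), (nat_lit 1), (nat_lit 4), (nat_lit 7), (nat_lit 5), (nat_lit 1), (nat_lit 9), (nat_lit 36)], (nat_lit 101)), ([(nat_lit 2), (nat_lit 2), (nat_lit 8), (nat_lit 9), (nat_lit 2), (nat_lit 2), (nat_lit 74)], (nat_lit 139)), ([(nat_lit 2), (nat_lit 2), (nat_lit 8), (nat_lit 9), (nat_lit 32)], (nat_lit 97)), ([(nat_lit 2), (nat_lit 2), (nat_lit 8), (nat_lit 10)], (nat_lit 161)), ([(nat_lit 2), (nat_lit 2), (nat_lit 34)], (nat_lit 99)), ([(nat_lit 32)], (nat_lit 97)), ([(nat_lit 10), (nat_lit 10)], (nat_lit 161)), ([(nat_lit 10), (nat_lit 1), (nat_lit 3), (nat_lit 2), (nat_lit 3), (nat_lit 3), (nat_lit 2), (nat_lit 3), (nat_lit 3), (nat_lit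 6), (nat_lit 1), (nat_lit 5), (nat_lit 3), (nat_lit 5), (nat_lit 4), (nat_lit 7), (nat_lit 5), (nat_lit 4), (nat_lit 4), (nat_lit 7), (nat_lit 5), (nat_lit 3), (nat_lit 5), (nat_lit 40)], (nat_lit 105)), ([(nat_lit 10), (nat_lit 1), (nat_lit 3), (nat_lit 2), (nat_lit 3), (nat_lit 3), (nat_lit 2), (nat_lit 3), (nat_lit 3), (nat_lit 6), (nat_lit 1), (nat_lit 5), (nat_lit 3), (nat_lit 5), (nat_lit 4), (nat_lit 7), (nat_lit 5), (nat_lit 4), (nat_lit 4), (nat_lit 7), (nat_lit 5), (nat_lit 3), (nat_lit 5)], (nat_lit 168))],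
  [([(nat_lit 2), (nat_lit 2), (nat_lit 3), (nat_lit 2), (nat_lit 3), (nat_lit 3), (nat_lit 2), (nat_lit 3), (nat_lit 5), (nat_lit 3), (nat_lit 1), (nat_lit 4), (nat_lit 7), (nat_lit 5), (nat_lit 3), (nat_lit 1), (nat_lit 4), (nat_lit 7), (nat_lit 5), (nat_lit 1), (nat_lit 9), (nat_lit 36)], (nat_lit 101)), ([(nat_lit 2), (nat_lit 2), (nat_lit 74)], (nat_lit 139)), ([(nat_lit 32)], (nat_lit 97)), ([(nat_lit 10), (nat_lit 10)], (nat_lit 161)), ([(nat_lit 10), (nat_lit 7), (nat_lit 34)], (nat_lit 99)), ([(nat_lit 10), (nat_lit 7), (nat_lit 1), (nat_lit 1), (nat_lit 32)], (nat_lit 97)), ([(nat_lit 10), (nat_lit 7), (nat_lit 1), (nat_lit 1), (nat_lit 10), (nat_lit 10)], (nat_lit 161)), ([(nat_lit 10), (nat_lit 7), (nat_lit 1), (nat_lit 1), (nat_lit 10), (nat_lit 1), (nat_lit 3), (nat_lit 2), (nat_lit 3), (nat_lit 3), (nat_lit 2), (nat_lit 3), (nat_lit 3), (nat_lit 6), (nat_lit 1), (nat_lit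 5), (nat_lit 3), (nat_lit 5), (nat_lit 4), (nat_lit 7), (nat_lit 5), (nat_lit 4), (nat_lit 4), (nat_lit 7), (nat_lit 5), (nat_lit 3), (nat_lit 5), (nat_lit 40)], (nat_lit 105)), ([(nat_lit 10), (nat_lit 7), (nat_lit 1), (nat_lit 1), (nat_lit 10), (nat_lit 1), (nat_lit 3), (nat_lit 2), (nat_lit 3), (nat_lit 3), (nat_lit 2), (nat_lit 3), (nat_lit 3), (nat_lit 6), (nat_lit 1), (nat_lit 5), (nat_lit 3), (nat_lit 5), (nat_lit 4), (nat_lit 7), (nat_lit 5), (nat_lit 4), (nat_lit 4), (nat_lit 7), (nat_lit 5), (nat_lit 3), (nat_lit 5)], (nat_lit 168))],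
  [([(nat_lit 36)], (nat_lit 101)), ([(nat_lit 10), (nat_lit 2), (nat_lit 6), (nat_lit 8), (nat_lit 3), (nat_lit 2), (nat_lit 4), (nat_lit 6), (nat_lit 8), (nat_lit 3), (nat_lit 2), (nat_lit 4), (nat_lit 6), (nat_lit 4), (nat_lit 1), (nat_lit 4), (nat_lit 4), (nat_lit 1), (nat_lit 4), (nat_lit 74)], (nat_lit 139)), ([(nat_lit 10), (nat_lit 2), (nat_lit 6), (nat_lit 8), (nat_lit 3), (nat_lit 2), (nat_lit 4), (nat_lit 6), (nat_lit 8), (nat_lit 3), (nat_lit 2), (nat_lit 4), (nat_lit 6), (nat_lit 4), (nat_lit 1), (nat_lit 4), (nat_lit 4), (nat_lit 1), (nat_lit 4), (nat_lit 1), (nat_lit 1), (nat_lit 32)], (nat_lit 97)), ([(nat_lit 10), (nat_lit 2), (nat_lit 6), (nat_lit 8), (nat_lit 3), (nat_lit 2), (nat_lit 4), (nat_lit 6), (nat_lit 8), (nat_lit 3), (nat_lit 2), (nat_lit 4), (nat_lit 6), (nat_lit 4), (nat_lit 1), (nat_lit 4), (nat_lit 4), (nat_lit 1), (nat_lit 4), (nat_lit 1), (nat_lit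 1), (nat_lit 10), (nat_lit 10)], (nat_lit 161)), ([(nat_lit 10), (nat_lit 2), (nat_lit 6), (nat_lit 8), (nat_lit 3), (nat_lit 2), (nat_lit 4), (nat_lit 6), (nat_lit 8), (nat_lit 3), (nat_lit 2), (nat_lit 4), (nat_lit 6), (nat_lit 4), (nat_lit 1), (nat_lit 4), (nat_lit 4), (nat_lit 1), (nat_lit 4), (nat_lit 1), (nat_lit 1), (nat_lit 10), (nat_lit 7), (nat_lit 34)], (nat_lit 99)), ([(nat_lit 10), (nat_lit 2), (nat_lit 6), (nat_lit 8), (nat_lit 3), (nat_lit 2), (nat_lit 4), (nat_lit 6), (nat_lit 8), (nat_lit 3), (nat_lit 2), (nat_lit 4), (nat_lit 6), (nat_lit 4), (nat_lit 1), (nat_lit 4), (nat_lit 4), (nat_lit 1), (nat_lit 4), (nat_lit 1), (nat_lit 1), (nat_lit 10), (nat_lit 7), (nat_lit 1), (nat_lit 1), (nat_lit 32)], (nat_lit 97)), ([(nat_lit 10), (nat_lit 2), (nat_lit 6), (nat_lit 8), (nat_lit 3), (nat_lit 2), (nat_lit 4), (nat_lit 6), (nat_lit 8), (nat_lit 3), (nat_lit 2), (nat_lit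 4), (nat_lit 6), (nat_lit 4), (nat_lit 1), (nat_lit 4), (nat_lit 4), (nat_lit 1), (nat_lit 4), (nat_lit 1), (nat_lit 1), (nat_lit 10), (nat_lit 7), (nat_lit 1), (nat_lit 1), (nat_lit 10), (nat_lit 10)], (nat_lit 161)), ([(nat_lit 10), (nat_lit 2), (nat_lit 6), (nat_lit 8), (nat_lit 3), (nat_lit 2), (nat_lit 4), (nat_lit 6), (nat_lit 8), (nat_lit 3), (nat_lit 2), (nat_lit 4), (nat_lit 6), (nat_lit 4), (nat_lit 1), (nat_lit 4), (nat_lit 4), (nat_lit 1), (nat_lit 4), (nat_lit 1), (nat_lit 1), (nat_lit 10), (nat_lit 7), (nat_lit 1), (nat_lit 1), (nat_lit 10), (nat_lit 1), (nat_lit 3), (nat_lit 2), (nat_lit 3), (nat_lit 3), (nat_lit 2), (nat_lit 3), (nat_lit 3), (nat_lit 6), (nat_lit 1), (nat_lit 5), (nat_lit 3), (nat_lit 5), (nat_lit 4), (nat_lit 7), (nat_lit 5), (nat_lit 4), (nat_lit 4), (nat_lit 7), (nat_lit 5), (nat_lit 3), (nat_lit 5), (nat_lit 40)], (nat_lit 105)), ([(nat_lit 10),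 (nat_lit 2), (nat_lit 6), (nat_lit 8), (nat_lit 3), (nat_lit 2), (nat_lit 4), (nat_lit 6), (nat_lit 8), (nat_lit 3), (nat_lit 2), (nat_lit 4), (nat_lit 6), (nat_lit 4), (nat_lit 1), (nat_lit 4), (nat_lit 4), (nat_lit 1), (nat_lit 4), (nat_lit 1), (nat_lit 1), (nat_lit 10), (nat_lit 7), (nat_lit 1), (nat_lit 1), (nat_lit 10), (nat_lit 1), (nat_lit 3), (nat_lit 2), (nat_lit 3), (nat_lit 3), (nat_lit 2), (nat_lit 3), (nat_lit 3), (nat_lit 6), (nat_lit 1), (nat_lit 5), (nat_lit 3), (nat_lit 5), (nat_lit 4), (nat_lit 7), (nat_lit 5), (nat_lit 4), (nat_lit 4), (nat_lit 7), (nat_lit 5), (nat_lit 3), (nat_lit 5)], (nat_lit 168))],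
  [([(nat_lit 6), (nat_lit 4), (nat_lit 6), (nat_lit 8), (nat_lit 3), (nat_lit 3), (nat_lit 6), (nat_lit 8), (nat_lit 3), (nat_lit 6), (nat_lit 4), (nat_lit 6), (nat_lit 2), (nat_lit 5), (nat_lit 4), (nat_lit 4), (nat_lit 1), (nat_lit 4), (nat_lit 4), (nat_lit 1), (nat_lit 4), (nat_lit 2), (nat_lit 9), (nat_lit 2), (nat_lit 2), (nat_lit 8), (nat_lit 9), (nat_lit 2), (nat_lit 2), (nat_lit 3), (nat_lit 2), (nat_lit 3), (nat_lit 3), (nat_lit 2), (nat_lit 3), (nat_lit 5), (nat_lit 3), (nat_lit 1), (nat_lit 4), (nat_lit 7), (nat_lit 5), (nat_lit 3), (nat_lit 1), (nat_lit 4), (nat_lit 7), (nat_lit 5), (nat_lit 1), (nat_lit 9), (nat_lit 36)], (nat_lit 101)), ([(nat_lit 6), (nat_lit 4), (nat_lit 6), (nat_lit 8), (nat_lit 3), (nat_lit 3), (nat_lit 6), (nat_lit 8), (nat_lit 3), (nat_lit 6), (nat_lit 4), (nat_lit 6), (nat_lit 2), (nat_lit 5), (nat_lit 4), (nat_lit 4), (nat_lit 1), (nat_lit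 4), (nat_lit 4), (nat_lit 1), (nat_lit 4), (nat_lit 2), (nat_lit 9), (nat_lit 2), (nat_lit 2), (nat_lit 8), (nat_lit 9), (nat_lit 2), (nat_lit 2), (nat_lit 74)], (nat_lit 139)), ([(nat_lit 6), (nat_lit 4), (nat_lit 6), (nat_lit 8), (nat_lit 3), (nat_lit 3), (nat_lit 6), (nat_lit 8), (nat_lit 3), (nat_lit 6), (nat_lit 4), (nat_lit 6), (nat_lit 2), (nat_lit 5), (nat_lit 4), (nat_lit 4), (nat_lit 1), (nat_lit 4), (nat_lit 4), (nat_lit 1), (nat_lit 4), (nat_lit 2), (nat_lit 9), (nat_lit 2), (nat_lit 2), (nat_lit 8), (nat_lit 9), (nat_lit 32)], (nat_lit 97)), ([(nat_lit 6), (nat_lit 4), (nat_lit 6), (nat_lit 8), (nat_lit 3), (nat_lit 3), (nat_lit 6), (nat_lit 8), (nat_lit 3), (nat_lit 6), (nat_lit 4), (nat_lit 6), (nat_lit 2), (nat_lit 5), (nat_lit 4), (nat_lit 4), (nat_lit 1), (nat_lit 4), (nat_lit 4), (nat_lit 1), (nat_lit 4), (nat_lit 2), (nat_lit 9), (nat_lit 2), (nat_lit 2), (nat_lit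 8), (nat_lit 10)], (nat_lit 161)), ([(nat_lit 6), (nat_lit 4), (nat_lit 6), (nat_lit 8), (nat_lit 3), (nat_lit 3), (nat_lit 6), (nat_lit 8), (nat_lit 3), (nat_lit 6), (nat_lit 4), (nat_lit 6), (nat_lit 2), (nat_lit 5), (nat_lit 4), (nat_lit 4), (nat_lit 1), (nat_lit 4), (nat_lit 4), (nat_lit 1), (nat_lit 4), (nat_lit 2), (nat_lit 9), (nat_lit 2), (nat_lit 2), (nat_lit 34)], (nat_lit 99)), ([(nat_lit 6), (nat_lit 4), (nat_lit 6), (nat_lit 8), (nat_lit 3), (nat_lit 3), (nat_lit 6), (nat_lit 8), (nat_lit 3), (nat_lit 6), (nat_lit 4), (nat_lit 6), (nat_lit 2), (nat_lit 5), (nat_lit 4), (nat_lit 4), (nat_lit 1), (nat_lit 4), (nat_lit 4), (nat_lit 1), (nat_lit 4), (nat_lit 2), (nat_lit 9), (nat_lit 32)], (nat_lit 97)), ([(nat_lit 6), (nat_lit 4), (nat_lit 6), (nat_lit 8), (nat_lit 3), (nat_lit 3), (nat_lit 6), (nat_lit 8), (nat_lit 3), (nat_lit 6), (nat_lit 4), (nat_lit 6), (nat_lit 2),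 (nat_lit 5), (nat_lit 4), (nat_lit 4), (nat_lit 1), (nat_lit 4), (nat_lit 4), (nat_lit 1), (nat_lit 4), (nat_lit 2), (nat_lit 10)], (nat_lit 161)), ([(nat_lit 40)], (nat_lit 105)), ([], (nat_lit 168))],
  [([(nat_lit 3), (nat_lit 1), (nat_lit 4), (nat_lit 2), (nat_lit 4), (nat_lit 4), (nat_lit 2), (nat_lit 4), (nat_lit 5), (nat_lit 3), (nat_lit 3), (nat_lit 5), (nat_lit 3), (nat_lit 7), (nat_lit 5), (nat_lit 4), (nat_lit 4), (nat_lit 7), (nat_lit 5), (nat_lit 3), (nat_lit 5), (nat_lit 9), (nat_lit 1), (nat_lit 4), (nat_lit 4), (nat_lit 2), (nat_lit 5), (nat_lit 3), (nat_lit 6), (nat_lit 3), (nat_lit 2), (nat_lit 6), (nat_lit 6), (nat_lit 7), (nat_lit 5), (nat_lit 1), (nat_lit 5), (nat_lit 2), (nat_lit 5), (nat_lit 4), (nat_lit 8), (nat_lit 9), (nat_lit 2), (nat_lit 2), (nat_lit 6), (nat_lit 4), (nat_lit 6), (nat_lit 8), (nat_lit 3), (nat_lit 3), (nat_lit 6), (nat_lit 8), (nat_lit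 4), (nat_lit 6), (nat_lit 4), (nat_lit 4), (nat_lit 6), (nat_lit 3), (nat_lit 1), (nat_lit 3), (nat_lit 3), (nat_lit 1), (nat_lit 3), (nat_lit 2), (nat_lit 4), (nat_lit 9), (nat_lit 2), (nat_lit 2)], (nat_lit 142)), ([(nat_lit 3), (nat_lit 1), (nat_lit 4), (nat_lit 2), (nat_lit 4), (nat_lit 4), (nat_lit 2), (nat_lit 4), (nat_lit 5), (nat_lit 3), (nat_lit 3), (nat_lit 5), (nat_lit 3), (nat_lit 7), (nat_lit 5), (nat_lit 4), (nat_lit 4), (nat_lit 7), (nat_lit 5), (nat_lit 3), (nat_lit 5), (nat_lit 9), (nat_lit 1), (nat_lit 4), (nat_lit 4), (nat_lit 2), (nat_lit 5), (nat_lit 3), (nat_lit 6), (nat_lit 3), (nat_lit 2), (nat_lit 6), (nat_lit 6), (nat_lit 7), (nat_lit 5), (nat_lit 1), (nat_lit 5), (nat_lit 2), (nat_lit 5), (nat_lit 4), (nat_lit 8), (nat_lit 9), (nat_lit 2), (nat_lit 2), (nat_lit 6), (nat_lit 4), (nat_lit 6), (nat_lit 8), (nat_lit 3), (nat_lit 3), (nat_lit 6), (nat_lit 8),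 (nat_lit 4), (nat_lit 6), (nat_lit 4), (nat_lit 4), (nat_lit 6), (nat_lit 3), (nat_lit 1), (nat_lit 3), (nat_lit 3), (nat_lit 1), (nat_lit 3), (nat_lit 2), (nat_lit 4), (nat_lit 9), (nat_lit 32)], (nat_lit 97)), ([(nat_lit 3), (nat_lit 1), (nat_lit 4), (nat_lit 2), (nat_lit 4), (nat_lit 4), (nat_lit 2), (nat_lit 4), (nat_lit 5), (nat_lit 3), (nat_lit 3), (nat_lit 5), (nat_lit 3), (nat_lit 7), (nat_lit 5), (nat_lit 4), (nat_lit 4), (nat_lit 7), (nat_lit 5), (nat_lit 3), (nat_lit 5), (nat_lit 9), (nat_lit 1), (nat_lit 4), (nat_lit 4), (nat_lit 2), (nat_lit 5), (nat_lit 3), (nat_lit 6), (nat_lit 3), (nat_lit 2), (nat_lit 6), (nat_lit 6), (nat_lit 7), (nat_lit 5), (nat_lit 1), (nat_lit 5), (nat_lit 2), (nat_lit 5), (nat_lit 4), (nat_lit 8), (nat_lit 9), (nat_lit 2), (nat_lit 2), (nat_lit 6), (nat_lit 4), (nat_lit 6), (nat_lit 8), (nat_lit 3), (nat_lit 3), (nat_lit 6), (nat_lit 8), (nat_lit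 4), (nat_lit 6), (nat_lit 4), (nat_lit 4), (nat_lit 6), (nat_lit 3), (nat_lit 1), (nat_lit 3), (nat_lit 3), (nat_lit 1), (nat_lit 3), (nat_lit 2), (nat_lit 4), (nat_lit 10)], (nat_lit 161)), ([(nat_lit 3), (nat_lit 1), (nat_lit 4), (nat_lit 2), (nat_lit 4), (nat_lit 4), (nat_lit 2), (nat_lit 4), (nat_lit 5), (nat_lit 3), (nat_lit 3), (nat_lit 5), (nat_lit 3), (nat_lit 7), (nat_lit 5), (nat_lit 4), (nat_lit 4), (nat_lit 7), (nat_lit 5), (nat_lit 3), (nat_lit 5), (nat_lit 9), (nat_lit 1), (nat_lit 4), (nat_lit 4), (nat_lit 2), (nat_lit 5), (nat_lit 3), (nat_lit 6), (nat_lit 3), (nat_lit 2), (nat_lit 6), (nat_lit 6), (nat_lit 7), (nat_lit 5), (nat_lit 1), (nat_lit 5), (nat_lit 2), (nat_lit 5), (nat_lit 4), (nat_lit 8), (nat_lit 9), (nat_lit 2), (nat_lit 2)], (nat_lit 136)), ([(nat_lit 3), (nat_lit 1), (nat_lit 4), (nat_lit 2), (nat_lit 4), (nat_lit 4), (nat_lit 2), (nat_lit 4), (nat_lit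 5), (nat_lit 3), (nat_lit 3), (nat_lit 5), (nat_lit 3), (nat_lit 7), (nat_lit 5), (nat_lit 4), (nat_lit 4), (nat_lit 7), (nat_lit 5), (nat_lit 3), (nat_lit 5), (nat_lit 9), (nat_lit 1), (nat_lit 4), (nat_lit 4), (nat_lit 2), (nat_lit 5), (nat_lit 3), (nat_lit 6), (nat_lit 3), (nat_lit 2), (nat_lit 6), (nat_lit 6), (nat_lit 7), (nat_lit 5), (nat_lit 1), (nat_lit 5), (nat_lit 2), (nat_lit 5), (nat_lit 4), (nat_lit 8), (nat_lit 9), (nat_lit 32)], (nat_lit 97)), ([(nat_lit 3), (nat_lit 1), (nat_lit 4), (nat_lit 2), (nat_lit 4), (nat_lit 4), (nat_lit 2), (nat_lit 4), (nat_lit 5), (nat_lit 3), (nat_lit 3), (nat_lit 5), (nat_lit 3), (nat_lit 7), (nat_lit 5), (nat_lit 4), (nat_lit 4), (nat_lit 7), (nat_lit 5), (nat_lit 3), (nat_lit 5), (nat_lit 9), (nat_lit 1), (nat_lit 4), (nat_lit 4), (nat_lit 2), (nat_lit 5), (nat_lit 3), (nat_lit 6), (nat_lit 3), (nat_lit 2), (nat_lit 6), (nat_lit 6),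 (nat_lit 7), (nat_lit 5), (nat_lit 1), (nat_lit 5), (nat_lit 2), (nat_lit 5), (nat_lit 4), (nat_lit 8), (nat_lit 10)], (nat_lit 161)), ([(nat_lit 3), (nat_lit 1), (nat_lit 4), (nat_lit 2), (nat_lit 4), (nat_lit 4), (nat_lit 2), (nat_lit 4), (nat_lit 5), (nat_lit 3), (nat_lit 3), (nat_lit 5), (nat_lit 3), (nat_lit 7), (nat_lit 5), (nat_lit 4), (nat_lit 4), (nat_lit 7), (nat_lit 5), (nat_lit 3), (nat_lit 5), (nat_lit 9)], (nat_lit 132)), ([], (nat_lit 134)), ([(nat_lit 10)], (nat_lit 169))],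
  [([(nat_lit 1), (nat_lit 4), (nat_lit 4), (nat_lit 2), (nat_lit 5), (nat_lit 3), (nat_lit 6), (nat_lit 3), (nat_lit 2), (nat_lit 6), (nat_lit 6), (nat_lit 7), (nat_lit 5), (nat_lit 1), (nat_lit 5), (nat_lit 2), (nat_lit 5), (nat_lit 4), (nat_lit 8), (nat_lit 9), (nat_lit 2), (nat_lit 2), (nat_lit 6), (nat_lit 4), (nat_lit 6), (nat_lit 8), (nat_lit 3), (nat_lit 3), (nat_lit 6), (nat_lit 8), (nat_lit 4), (nat_lit 6), (nat_lit 4), (nat_lit 4), (nat_lit 6), (nat_lit 3), (nat_lit 1), (nat_lit 3), (nat_lit 3), (nat_lit 1), (nat_lit 3), (nat_lit 2), (nat_lit 4), (nat_lit 9), (nat_lit 2), (nat_lit 2)], (nat_lit 142)), ([(nat_lit 1), (nat_lit 4), (nat_lit 4), (nat_lit 2), (nat_lit 5), (nat_lit 3), (nat_lit 6), (nat_lit 3), (nat_lit 2), (nat_lit 6), (nat_lit 6), (nat_lit 7), (nat_lit 5), (nat_lit 1), (nat_lit 5), (nat_lit 2), (nat_lit 5), (nat_lit 4), (nat_lit 8), (nat_lit 9), (nat_lit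 2), (nat_lit 2), (nat_lit 6), (nat_lit 4), (nat_lit 6), (nat_lit 8), (nat_lit 3), (nat_lit 3), (nat_lit 6), (nat_lit 8), (nat_lit 4), (nat_lit 6), (nat_lit 4), (nat_lit 4), (nat_lit 6), (nat_lit 3), (nat_lit 1), (nat_lit 3), (nat_lit 3), (nat_lit 1), (nat_lit 3), (nat_lit 2), (nat_lit 4), (nat_lit 9), (nat_lit 32)], (nat_lit 97)), ([(nat_lit 1), (nat_lit 4), (nat_lit 4), (nat_lit 2), (nat_lit 5), (nat_lit 3), (nat_lit 6), (nat_lit 3), (nat_lit 2), (nat_lit 6), (nat_lit 6), (nat_lit 7), (nat_lit 5), (nat_lit 1), (nat_lit 5), (nat_lit 2), (nat_lit 5), (nat_lit 4), (nat_lit 8), (nat_lit 9), (nat_lit 2), (nat_lit 2), (nat_lit 6), (nat_lit 4), (nat_lit 6), (nat_lit 8), (nat_lit 3), (nat_lit 3), (nat_lit 6), (nat_lit 8), (nat_lit 4), (nat_lit 6), (nat_lit 4), (nat_lit 4), (nat_lit 6), (nat_lit 3), (nat_lit 1), (nat_lit 3), (nat_lit 3), (nat_lit 1), (nat_lit 3), (nat_lit 2), (nat_lit 4),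 (nat_lit 10)], (nat_lit 161)), ([(nat_lit 1), (nat_lit 4), (nat_lit 4), (nat_lit 2), (nat_lit 5), (nat_lit 3), (nat_lit 6), (nat_lit 3), (nat_lit 2), (nat_lit 6), (nat_lit 6), (nat_lit 7), (nat_lit 5), (nat_lit 1), (nat_lit 5), (nat_lit 2), (nat_lit 5), (nat_lit 4), (nat_lit 8), (nat_lit 9), (nat_lit 2), (nat_lit 2)], (nat_lit 136)), ([(nat_lit 1), (nat_lit 4), (nat_lit 4), (nat_lit 2), (nat_lit 5), (nat_lit 3), (nat_lit 6), (nat_lit 3), (nat_lit 2), (nat_lit 6), (nat_lit 6), (nat_lit 7), (nat_lit 5), (nat_lit 1), (nat_lit 5), (nat_lit 2), (nat_lit 5), (nat_lit 4), (nat_lit 8), (nat_lit 9), (nat_lit 32)], (nat_lit 97)), ([(nat_lit 1), (nat_lit 4), (nat_lit 4), (nat_lit 2), (nat_lit 5), (nat_lit 3), (nat_lit 6), (nat_lit 3), (nat_lit 2), (nat_lit 6), (nat_lit 6), (nat_lit 7), (nat_lit 5), (nat_lit 1), (nat_lit 5), (nat_lit 2), (nat_lit 5), (nat_lit 4), (nat_lit 8), (nat_lit 10)],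 (nat_lit 161)), ([], (nat_lit 132)), ([(nat_lit 10), (nat_lit 6), (nat_lit 4), (nat_lit 6), (nat_lit 8), (nat_lit 3), (nat_lit 3), (nat_lit 6), (nat_lit 8), (nat_lit 4), (nat_lit 6), (nat_lit 4), (nat_lit 4), (nat_lit 6), (nat_lit 3), (nat_lit 1), (nat_lit 3), (nat_lit 3), (nat_lit 1), (nat_lit 3), (nat_lit 2), (nat_lit 4)], (nat_lit 134)), ([(nat_lit 10), (nat_lit 6), (nat_lit 4), (nat_lit 6), (nat_lit 8), (nat_lit 3), (nat_lit 3), (nat_lit 6), (nat_lit 8), (nat_lit 4), (nat_lit 6), (nat_lit 4), (nat_lit 4), (nat_lit 6), (nat_lit 3), (nat_lit 1), (nat_lit 3), (nat_lit 3), (nat_lit 1), (nat_lit 3), (nat_lit 2), (nat_lit 4), (nat_lit 10)], (nat_lit 169))],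
  [([(nat_lit 2), (nat_lit 2), (nat_lit 6), (nat_lit 4), (nat_lit 6), (nat_lit 8), (nat_lit 3), (nat_lit 3), (nat_lit 6), (nat_lit 8), (nat_lit 4), (nat_lit 6), (nat_lit 4), (nat_lit 4), (nat_lit 6), (nat_lit 3), (nat_lit 1), (nat_lit 3), (nat_lit 3), (nat_lit 1), (nat_lit 3), (nat_lit 2), (nat_lit 4), (nat_lit 9), (nat_lit 2), (nat_lit 2)], (nat_lit 142)), ([(nat_lit 2), (nat_lit 2), (nat_lit 6), (nat_lit 4), (nat_lit 6), (nat_lit 8), (nat_lit 3), (nat_lit 3), (nat_lit 6), (nat_lit 8), (nat_lit 4), (nat_lit 6), (nat_lit 4), (nat_lit 4), (nat_lit 6), (nat_lit 3), (nat_lit 1), (nat_lit 3), (nat_lit 3), (nat_lit 1), (nat_lit 3), (nat_lit 2), (nat_lit 4), (nat_lit 9), (nat_lit 32)], (nat_lit 97)), ([(nat_lit 2), (nat_lit 2), (nat_lit 6), (nat_lit 4), (nat_lit 6), (nat_lit 8), (nat_lit 3), (nat_lit 3), (nat_lit 6), (nat_lit 8), (nat_lit 4), (nat_lit 6), (nat_lit 4), (nat_lit 4), (nat_lit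 6), (nat_lit 3), (nat_lit 1), (nat_lit 3), (nat_lit 3), (nat_lit 1), (nat_lit 3), (nat_lit 2), (nat_lit 4), (nat_lit 10)], (nat_lit 161)), ([(nat_lit 2), (nat_lit 2)], (nat_lit 136)), ([(nat_lit 32)], (nat_lit 97)), ([(nat_lit 10), (nat_lit 10)], (nat_lit 161)), ([(nat_lit 10), (nat_lit 7), (nat_lit 3), (nat_lit 6), (nat_lit 1), (nat_lit 6), (nat_lit 2), (nat_lit 6), (nat_lit 8), (nat_lit 5), (nat_lit 5), (nat_lit 1), (nat_lit 4), (nat_lit 5), (nat_lit 4), (nat_lit 6), (nat_lit 1), (nat_lit 3), (nat_lit 3), (nat_lit 2)], (nat_lit 132)), ([(nat_lit 10), (nat_lit 7), (nat_lit 3), (nat_lit 6), (nat_lit 1), (nat_lit 6), (nat_lit 2), (nat_lit 6), (nat_lit 8), (nat_lit 5), (nat_lit 5), (nat_lit 1), (nat_lit 4), (nat_lit 5), (nat_lit 4), (nat_lit 6), (nat_lit 1), (nat_lit 3), (nat_lit 3), (nat_lit 2), (nat_lit 10), (nat_lit 6), (nat_lit 4), (nat_lit 6), (nat_lit 8), (nat_lit 3), (nat_lit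 3), (nat_lit 6), (nat_lit 8), (nat_lit 4), (nat_lit 6), (nat_lit 4), (nat_lit 4), (nat_lit 6), (nat_lit 3), (nat_lit 1), (nat_lit 3), (nat_lit 3), (nat_lit 1), (nat_lit 3), (nat_lit 2), (nat_lit 4)], (nat_lit 134)), ([(nat_lit 10), (nat_lit 7), (nat_lit 3), (nat_lit 6), (nat_lit 1), (nat_lit 6), (nat_lit 2), (nat_lit 6), (nat_lit 8), (nat_lit 5), (nat_lit 5), (nat_lit 1), (nat_lit 4), (nat_lit 5), (nat_lit 4), (nat_lit 6), (nat_lit 1), (nat_lit 3), (nat_lit 3), (nat_lit 2), (nat_lit 10), (nat_lit 6), (nat_lit 4), (nat_lit 6), (nat_lit 8), (nat_lit 3), (nat_lit 3), (nat_lit 6), (nat_lit 8), (nat_lit 4), (nat_lit 6), (nat_lit 4), (nat_lit 4), (nat_lit 6), (nat_lit 3), (nat_lit 1), (nat_lit 3), (nat_lit 3), (nat_lit 1), (nat_lit 3), (nat_lit 2), (nat_lit 4), (nat_lit 10)], (nat_lit 169))],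
  [([(nat_lit 2), (nat_lit 2)], (nat_lit 142)), ([(nat_lit 32)], (nat_lit 97)), ([(nat_lit 10), (nat_lit 10)], (nat_lit 161)), ([(nat_lit 10), (nat_lit 3), (nat_lit 1), (nat_lit 4), (nat_lit 2), (nat_lit 4), (nat_lit 4), (nat_lit 2), (nat_lit 4), (nat_lit 5), (nat_lit 3), (nat_lit 3), (nat_lit 5), (nat_lit 3), (nat_lit 7), (nat_lit 5), (nat_lit 4), (nat_lit 4), (nat_lit 7), (nat_lit 5), (nat_lit 3), (nat_lit 5)], (nat_lit 136)), ([(nat_lit 10), (nat_lit 3), (nat_lit 1), (nat_lit 4), (nat_lit 2), (nat_lit 4), (nat_lit 4), (nat_lit 2), (nat_lit 4), (nat_lit 5), (nat_lit 3), (nat_lit 3), (nat_lit 5), (nat_lit 3), (nat_lit 7), (nat_lit 5), (nat_lit 4), (nat_lit 4), (nat_lit 7), (nat_lit 5), (nat_lit 3), (nat_lit 5), (nat_lit 1), (nat_lit 1), (nat_lit 32)], (nat_lit 97)), ([(nat_lit 10), (nat_lit 3), (nat_lit 1), (nat_lit 4), (nat_lit 2), (nat_lit 4), (nat_lit 4), (nat_lit 2), (nat_lit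 4), (nat_lit 5), (nat_lit 3), (nat_lit 3), (nat_lit 5), (nat_lit 3), (nat_lit 7), (nat_lit 5), (nat_lit 4), (nat_lit 4), (nat_lit 7), (nat_lit 5), (nat_lit 3), (nat_lit 5), (nat_lit 1), (nat_lit 1), (nat_lit 10), (nat_lit 10)], (nat_lit 161)), ([(nat_lit 10), (nat_lit 3), (nat_lit 1), (nat_lit 4), (nat_lit 2), (nat_lit 4), (nat_lit 4), (nat_lit 2), (nat_lit 4), (nat_lit 5), (nat_lit 3), (nat_lit 3), (nat_lit 5), (nat_lit 3), (nat_lit 7), (nat_lit 5), (nat_lit 4), (nat_lit 4), (nat_lit 7), (nat_lit 5), (nat_lit 3), (nat_lit 5), (nat_lit 1), (nat_lit 1), (nat_lit 10), (nat_lit 7), (nat_lit 3), (nat_lit 6), (nat_lit 1), (nat_lit 6), (nat_lit 2), (nat_lit 6), (nat_lit 8), (nat_lit 5), (nat_lit 5), (nat_lit 1), (nat_lit 4), (nat_lit 5), (nat_lit 4), (nat_lit 6), (nat_lit 1), (nat_lit 3), (nat_lit 3), (nat_lit 2)], (nat_lit 132)), ([(nat_lit 10), (nat_lit 3), (nat_lit 1), (nat_lit 4),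 (nat_lit 2), (nat_lit 4), (nat_lit 4), (nat_lit 2), (nat_lit 4), (nat_lit 5), (nat_lit 3), (nat_lit 3), (nat_lit 5), (nat_lit 3), (nat_lit 7), (nat_lit 5), (nat_lit 4), (nat_lit 4), (nat_lit 7), (nat_lit 5), (nat_lit 3), (nat_lit 5), (nat_lit 1), (nat_lit 1), (nat_lit 10), (nat_lit 7), (nat_lit 3), (nat_lit 6), (nat_lit 1), (nat_lit 6), (nat_lit 2), (nat_lit 6), (nat_lit 8), (nat_lit 5), (nat_lit 5), (nat_lit 1), (nat_lit 4), (nat_lit 5), (nat_lit 4), (nat_lit 6), (nat_lit 1), (nat_lit 3), (nat_lit 3), (nat_lit 2), (nat_lit 10), (nat_lit 6), (nat_lit 4), (nat_lit 6), (nat_lit 8), (nat_lit 3), (nat_lit 3), (nat_lit 6), (nat_lit 8), (nat_lit 4), (nat_lit 6), (nat_lit 4), (nat_lit 4), (nat_lit 6), (nat_lit 3), (nat_lit 1), (nat_lit 3), (nat_lit 3), (nat_lit 1), (nat_lit 3), (nat_lit 2), (nat_lit 4)], (nat_lit 134)), ([(nat_lit 10), (nat_lit 3), (nat_lit 1), (nat_lit 4), (nat_lit 2),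 (nat_lit 4), (nat_lit 4), (nat_lit 2), (nat_lit 4), (nat_lit 5), (nat_lit 3), (nat_lit 3), (nat_lit 5), (nat_lit 3), (nat_lit 7), (nat_lit 5), (nat_lit 4), (nat_lit 4), (nat_lit 7), (nat_lit 5), (nat_lit 3), (nat_lit 5), (nat_lit 1), (nat_lit 1), (nat_lit 10), (nat_lit 7), (nat_lit 3), (nat_lit 6), (nat_lit 1), (nat_lit 6), (nat_lit 2), (nat_lit 6), (nat_lit 8), (nat_lit 5), (nat_lit 5), (nat_lit 1), (nat_lit 4), (nat_lit 5), (nat_lit 4), (nat_lit 6), (nat_lit 1), (nat_lit 3), (nat_lit 3), (nat_lit 2), (nat_lit 10), (nat_lit 6), (nat_lit 4), (nat_lit 6), (nat_lit 8), (nat_lit 3), (nat_lit 3), (nat_lit 6), (nat_lit 8), (nat_lit 4), (nat_lit 6), (nat_lit 4), (nat_lit 4), (nat_lit 6), (nat_lit 3), (nat_lit 1), (nat_lit 3), (nat_lit 3), (nat_lit 1), (nat_lit 3), (nat_lit 2), (nat_lit 4), (nat_lit 10)], (nat_lit 169))],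
  [([(nat_lit 3), (nat_lit 1), (nat_lit 4), (nat_lit 2), (nat_lit 4), (nat_lit 4), (nat_lit 2), (nat_lit 4), (nat_lit 5), (nat_lit 3), (nat_lit 3), (nat_lit 5), (nat_lit 3), (nat_lit 7), (nat_lit 5), (nat_lit 4), (nat_lit 4), (nat_lit 7), (nat_lit 5), (nat_lit 3), (nat_lit 5), (nat_lit 9), (nat_lit 7), (nat_lit 3), (nat_lit 6), (nat_lit 1), (nat_lit 6), (nat_lit 2), (nat_lit 6), (nat_lit 8), (nat_lit 5), (nat_lit 5), (nat_lit 1), (nat_lit 4), (nat_lit 5), (nat_lit 4), (nat_lit 6), (nat_lit 1), (nat_lit 3), (nat_lit 3), (nat_lit 2), (nat_lit 9), (nat_lit 2), (nat_lit 2), (nat_lit 6), (nat_lit 4), (nat_lit 6), (nat_lit 8), (nat_lit 3), (nat_lit 3), (nat_lit 6), (nat_lit 8), (nat_lit 4), (nat_lit 6), (nat_lit 4), (nat_lit 4), (nat_lit 6), (nat_lit 3), (nat_lit 1), (nat_lit 3), (nat_lit 3), (nat_lit 1), (nat_lit 3), (nat_lit 2), (nat_lit 4), (nat_lit 9), (nat_lit 32)], (nat_lit 97)),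 ([(nat_lit 3), (nat_lit 1), (nat_lit 4), (nat_lit 2), (nat_lit 4), (nat_lit 4), (nat_lit 2), (nat_lit 4), (nat_lit 5), (nat_lit 3), (nat_lit 3), (nat_lit 5), (nat_lit 3), (nat_lit 7), (nat_lit 5), (nat_lit 4), (nat_lit 4), (nat_lit 7), (nat_lit 5), (nat_lit 3), (nat_lit 5), (nat_lit 9), (nat_lit 7), (nat_lit 3), (nat_lit 6), (nat_lit 1), (nat_lit 6), (nat_lit 2), (nat_lit 6), (nat_lit 8), (nat_lit 5), (nat_lit 5), (nat_lit 1), (nat_lit 4), (nat_lit 5), (nat_lit 4), (nat_lit 6), (nat_lit 1), (nat_lit 3), (nat_lit 3), (nat_lit 2), (nat_lit 9), (nat_lit 2), (nat_lit 2), (nat_lit 6), (nat_lit 4), (nat_lit 6), (nat_lit 8), (nat_lit 3), (nat_lit 3), (nat_lit 6), (nat_lit 8), (nat_lit 4), (nat_lit 6), (nat_lit 4), (nat_lit 4), (nat_lit 6), (nat_lit 3), (nat_lit 1), (nat_lit 3), (nat_lit 3), (nat_lit 1), (nat_lit 3), (nat_lit 2), (nat_lit 4), (nat_lit 10)], (nat_lit 161)), ([(nat_lit 3),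 (nat_lit 1), (nat_lit 4), (nat_lit 2), (nat_lit 4), (nat_lit 4), (nat_lit 2), (nat_lit 4), (nat_lit 5), (nat_lit 3), (nat_lit 3), (nat_lit 5), (nat_lit 3), (nat_lit 7), (nat_lit 5), (nat_lit 4), (nat_lit 4), (nat_lit 7), (nat_lit 5), (nat_lit 3), (nat_lit 5), (nat_lit 9), (nat_lit 7), (nat_lit 3), (nat_lit 6), (nat_lit 1), (nat_lit 6), (nat_lit 2), (nat_lit 6), (nat_lit 8), (nat_lit 5), (nat_lit 5), (nat_lit 1), (nat_lit 4), (nat_lit 5), (nat_lit 4), (nat_lit 6), (nat_lit 1), (nat_lit 3), (nat_lit 3), (nat_lit 2), (nat_lit 9), (nat_lit 2), (nat_lit 2), (nat_lit 68)], (nat_lit 133)), ([(nat_lit 3), (nat_lit 1), (nat_lit 4), (nat_lit 2), (nat_lit 4), (nat_lit 4), (nat_lit 2), (nat_lit 4), (nat_lit 5), (nat_lit 3), (nat_lit 3), (nat_lit 5), (nat_lit 3), (nat_lit 7), (nat_lit 5), (nat_lit 4), (nat_lit 4), (nat_lit 7), (nat_lit 5), (nat_lit 3), (nat_lit 5), (nat_lit 9), (nat_lit 7),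 (nat_lit 3), (nat_lit 6), (nat_lit 1), (nat_lit 6), (nat_lit 2), (nat_lit 6), (nat_lit 8), (nat_lit 5), (nat_lit 5), (nat_lit 1), (nat_lit 4), (nat_lit 5), (nat_lit 4), (nat_lit 6), (nat_lit 1), (nat_lit 3), (nat_lit 3), (nat_lit 2), (nat_lit 9), (nat_lit 32)], (nat_lit 97)), ([(nat_lit 3), (nat_lit 1), (nat_lit 4), (nat_lit 2), (nat_lit 4), (nat_lit 4), (nat_lit 2), (nat_lit 4), (nat_lit 5), (nat_lit 3), (nat_lit 3), (nat_lit 5), (nat_lit 3), (nat_lit 7), (nat_lit 5), (nat_lit 4), (nat_lit 4), (nat_lit 7), (nat_lit 5), (nat_lit 3), (nat_lit 5), (nat_lit 9), (nat_lit 7), (nat_lit 3), (nat_lit 6), (nat_lit 1), (nat_lit 6), (nat_lit 2), (nat_lit 6), (nat_lit 8), (nat_lit 5), (nat_lit 5), (nat_lit 1), (nat_lit 4), (nat_lit 5), (nat_lit 4), (nat_lit 6), (nat_lit 1), (nat_lit 3), (nat_lit 3), (nat_lit 2), (nat_lit 10)], (nat_lit 161)), ([(nat_lit 3), (nat_lit 1), (nat_lit 4), (nat_lit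 2), (nat_lit 4), (nat_lit 4), (nat_lit 2), (nat_lit 4), (nat_lit 5), (nat_lit 3), (nat_lit 3), (nat_lit 5), (nat_lit 3), (nat_lit 7), (nat_lit 5), (nat_lit 4), (nat_lit 4), (nat_lit 7), (nat_lit 5), (nat_lit 3), (nat_lit 5), (nat_lit 9), (nat_lit 66)], (nat_lit 131)), ([(nat_lit 70)], (nat_lit 135)), ([(nat_lit 10), (nat_lit 8), (nat_lit 1), (nat_lit 5), (nat_lit 3), (nat_lit 5), (nat_lit 2), (nat_lit 6), (nat_lit 8), (nat_lit 1), (nat_lit 4), (nat_lit 2), (nat_lit 5), (nat_lit 2), (nat_lit 4), (nat_lit 4), (nat_lit 2), (nat_lit 3), (nat_lit 2), (nat_lit 76)], (nat_lit 141)), ([(nat_lit 10), (nat_lit 8), (nat_lit 1), (nat_lit 5), (nat_lit 3), (nat_lit 5), (nat_lit 2), (nat_lit 6), (nat_lit 8), (nat_lit 1), (nat_lit 4), (nat_lit 2), (nat_lit 5), (nat_lit 2), (nat_lit 4), (nat_lit 4), (nat_lit 2), (nat_lit 3), (nat_lit 2)], (nat_lit 170))],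
  [([(nat_lit 7), (nat_lit 3), (nat_lit 6), (nat_lit 1), (nat_lit 6), (nat_lit 2), (nat_lit 6), (nat_lit 8), (nat_lit 5), (nat_lit 5), (nat_lit 1), (nat_lit 4), (nat_lit 5), (nat_lit 4), (nat_lit 6), (nat_lit 1), (nat_lit 3), (nat_lit 3), (nat_lit 2), (nat_lit 9), (nat_lit 2), (nat_lit 2), (nat_lit 6), (nat_lit 4), (nat_lit 6), (nat_lit 8), (nat_lit 3), (nat_lit 3), (nat_lit 6), (nat_lit 8), (nat_lit 4), (nat_lit 6), (nat_lit 4), (nat_lit 4), (nat_lit 6), (nat_lit 3), (nat_lit 1), (nat_lit 3), (nat_lit 3), (nat_lit 1), (nat_lit 3), (nat_lit 2), (nat_lit 4), (nat_lit 9), (nat_lit 32)], (nat_lit 97)), ([(nat_lit 7), (nat_lit 3), (nat_lit 6), (nat_lit 1), (nat_lit 6), (nat_lit 2), (nat_lit 6), (nat_lit 8), (nat_lit 5), (nat_lit 5), (nat_lit 1), (nat_lit 4), (nat_lit 5), (nat_lit 4), (nat_lit 6), (nat_lit 1), (nat_lit 3), (nat_lit 3), (nat_lit 2), (nat_lit 9), (nat_lit 2), (nat_lit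 2), (nat_lit 6), (nat_lit 4), (nat_lit 6), (nat_lit 8), (nat_lit 3), (nat_lit 3), (nat_lit 6), (nat_lit 8), (nat_lit 4), (nat_lit 6), (nat_lit 4), (nat_lit 4), (nat_lit 6), (nat_lit 3), (nat_lit 1), (nat_lit 3), (nat_lit 3), (nat_lit 1), (nat_lit 3), (nat_lit 2), (nat_lit 4), (nat_lit 10)], (nat_lit 161)), ([(nat_lit 7), (nat_lit 3), (nat_lit 6), (nat_lit 1), (nat_lit 6), (nat_lit 2), (nat_lit 6), (nat_lit 8), (nat_lit 5), (nat_lit 5), (nat_lit 1), (nat_lit 4), (nat_lit 5), (nat_lit 4), (nat_lit 6), (nat_lit 1), (nat_lit 3), (nat_lit 3), (nat_lit 2), (nat_lit 9), (nat_lit 2), (nat_lit 2), (nat_lit 68)], (nat_lit 133)), ([(nat_lit 7), (nat_lit 3), (nat_lit 6), (nat_lit 1), (nat_lit 6), (nat_lit 2), (nat_lit 6), (nat_lit 8), (nat_lit 5), (nat_lit 5), (nat_lit 1), (nat_lit 4), (nat_lit 5), (nat_lit 4), (nat_lit 6), (nat_lit 1), (nat_lit 3), (nat_lit 3), (nat_lit 2), (nat_lit 9), (nat_lit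 32)], (nat_lit 97)), ([(nat_lit 7), (nat_lit 3), (nat_lit 6), (nat_lit 1), (nat_lit 6), (nat_lit 2), (nat_lit 6), (nat_lit 8), (nat_lit 5), (nat_lit 5), (nat_lit 1), (nat_lit 4), (nat_lit 5), (nat_lit 4), (nat_lit 6), (nat_lit 1), (nat_lit 3), (nat_lit 3), (nat_lit 2), (nat_lit 10)], (nat_lit 161)), ([(nat_lit 66)], (nat_lit 131)), ([(nat_lit 10), (nat_lit 6), (nat_lit 4), (nat_lit 6), (nat_lit 8), (nat_lit 3), (nat_lit 3), (nat_lit 6), (nat_lit 8), (nat_lit 4), (nat_lit 6), (nat_lit 4), (nat_lit 4), (nat_lit 6), (nat_lit 3), (nat_lit 1), (nat_lit 3), (nat_lit 3), (nat_lit 1), (nat_lit 3), (nat_lit 2), (nat_lit 4), (nat_lit 70)], (nat_lit 135)), ([(nat_lit 10), (nat_lit 6), (nat_lit 4), (nat_lit 6), (nat_lit 8), (nat_lit 3), (nat_lit 3), (nat_lit 6), (nat_lit 8), (nat_lit 4), (nat_lit 6), (nat_lit 4), (nat_lit 4), (nat_lit 6), (nat_lit 3), (nat_lit 1), (nat_lit 3), (nat_lit 3),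 (nat_lit 1), (nat_lit 3), (nat_lit 2), (nat_lit 4), (nat_lit 10), (nat_lit 8), (nat_lit 1), (nat_lit 5), (nat_lit 3), (nat_lit 5), (nat_lit 2), (nat_lit 6), (nat_lit 8), (nat_lit 1), (nat_lit 4), (nat_lit 2), (nat_lit 5), (nat_lit 2), (nat_lit 4), (nat_lit 4), (nat_lit 2), (nat_lit 3), (nat_lit 2), (nat_lit 76)], (nat_lit 141)), ([(nat_lit 10), (nat_lit 6), (nat_lit 4), (nat_lit 6), (nat_lit 8), (nat_lit 3), (nat_lit 3), (nat_lit 6), (nat_lit 8), (nat_lit 4), (nat_lit 6), (nat_lit 4), (nat_lit 4), (nat_lit 6), (nat_lit 3), (nat_lit 1), (nat_lit 3), (nat_lit 3), (nat_lit 1), (nat_lit 3), (nat_lit 2), (nat_lit 4), (nat_lit 10), (nat_lit 8), (nat_lit 1), (nat_lit 5), (nat_lit 3), (nat_lit 5), (nat_lit 2), (nat_lit 6), (nat_lit 8), (nat_lit 1), (nat_lit 4), (nat_lit 2), (nat_lit 5), (nat_lit 2), (nat_lit 4), (nat_lit 4), (nat_lit 2), (nat_lit 3), (nat_lit 2)], (nat_lit 170))],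
  [([(nat_lit 2), (nat_lit 2), (nat_lit 6), (nat_lit 4), (nat_lit 6), (nat_lit 8), (nat_lit 3), (nat_lit 3), (nat_lit 6), (nat_lit 8), (nat_lit 4), (nat_lit 6), (nat_lit 4), (nat_lit 4), (nat_lit 6), (nat_lit 3), (nat_lit 1), (nat_lit 3), (nat_lit 3), (nat_lit 1), (nat_lit 3), (nat_lit 2), (nat_lit 4), (nat_lit 9), (nat_lit 32)], (nat_lit 97)), ([(nat_lit 2), (nat_lit 2), (nat_lit 6), (nat_lit 4), (nat_lit 6), (nat_lit 8), (nat_lit 3), (nat_lit 3), (nat_lit 6), (nat_lit 8), (nat_lit 4), (nat_lit 6), (nat_lit 4), (nat_lit 4), (nat_lit 6), (nat_lit 3), (nat_lit 1), (nat_lit 3), (nat_lit 3), (nat_lit 1), (nat_lit 3), (nat_lit 2), (nat_lit 4), (nat_lit 10)], (nat_lit 161)), ([(nat_lit 2), (nat_lit 2), (nat_lit 68)], (nat_lit 133)), ([(nat_lit 32)], (nat_lit 97)), ([(nat_lit 10), (nat_lit 10)], (nat_lit 161)), ([(nat_lit 10), (nat_lit 1), (nat_lit 4), (nat_lit 4), (nat_lit 2), (nat_lit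 5), (nat_lit 3), (nat_lit 6), (nat_lit 3), (nat_lit 2), (nat_lit 6), (nat_lit 6), (nat_lit 7), (nat_lit 5), (nat_lit 1), (nat_lit 5), (nat_lit 2), (nat_lit 5), (nat_lit 4), (nat_lit 8), (nat_lit 66)], (nat_lit 131)), ([(nat_lit 10), (nat_lit 1), (nat_lit 4), (nat_lit 4), (nat_lit 2), (nat_lit 5), (nat_lit 3), (nat_lit 6), (nat_lit 3), (nat_lit 2), (nat_lit 6), (nat_lit 6), (nat_lit 7), (nat_lit 5), (nat_lit 1), (nat_lit 5), (nat_lit 2), (nat_lit 5), (nat_lit 4), (nat_lit 8), (nat_lit 10), (nat_lit 6), (nat_lit 4), (nat_lit 6), (nat_lit 8), (nat_lit 3), (nat_lit 3), (nat_lit 6), (nat_lit 8), (nat_lit 4), (nat_lit 6), (nat_lit 4), (nat_lit 4), (nat_lit 6), (nat_lit 3), (nat_lit 1), (nat_lit 3), (nat_lit 3), (nat_lit 1), (nat_lit 3), (nat_lit 2), (nat_lit 4), (nat_lit 70)], (nat_lit 135)), ([(nat_lit 10), (nat_lit 1), (nat_lit 4), (nat_lit 4), (nat_lit 2), (nat_lit 5), (nat_lit 3),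 (nat_lit 6), (nat_lit 3), (nat_lit 2), (nat_lit 6), (nat_lit 6), (nat_lit 7), (nat_lit 5), (nat_lit 1), (nat_lit 5), (nat_lit 2), (nat_lit 5), (nat_lit 4), (nat_lit 8), (nat_lit 10), (nat_lit 6), (nat_lit 4), (nat_lit 6), (nat_lit 8), (nat_lit 3), (nat_lit 3), (nat_lit 6), (nat_lit 8), (nat_lit 4), (nat_lit 6), (nat_lit 4), (nat_lit 4), (nat_lit 6), (nat_lit 3), (nat_lit 1), (nat_lit 3), (nat_lit 3), (nat_lit 1), (nat_lit 3), (nat_lit 2), (nat_lit 4), (nat_lit 10), (nat_lit 8), (nat_lit 1), (nat_lit 5), (nat_lit 3), (nat_lit 5), (nat_lit 2), (nat_lit 6), (nat_lit 8), (nat_lit 1), (nat_lit 4), (nat_lit 2), (nat_lit 5), (nat_lit 2), (nat_lit 4), (nat_lit 4), (nat_lit 2), (nat_lit 3), (nat_lit 2), (nat_lit 76)], (nat_lit 141)), ([(nat_lit 10), (nat_lit 1), (nat_lit 4), (nat_lit 4), (nat_lit 2), (nat_lit 5), (nat_lit 3), (nat_lit 6), (nat_lit 3), (nat_lit 2), (nat_lit 6), (nat_lit 6),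 (nat_lit 7), (nat_lit 5), (nat_lit 1), (nat_lit 5), (nat_lit 2), (nat_lit 5), (nat_lit 4), (nat_lit 8), (nat_lit 10), (nat_lit 6), (nat_lit 4), (nat_lit 6), (nat_lit 8), (nat_lit 3), (nat_lit 3), (nat_lit 6), (nat_lit 8), (nat_lit 4), (nat_lit 6), (nat_lit 4), (nat_lit 4), (nat_lit 6), (nat_lit 3), (nat_lit 1), (nat_lit 3), (nat_lit 3), (nat_lit 1), (nat_lit 3), (nat_lit 2), (nat_lit 4), (nat_lit 10), (nat_lit 8), (nat_lit 1), (nat_lit 5), (nat_lit 3), (nat_lit 5), (nat_lit 2), (nat_lit 6), (nat_lit 8), (nat_lit 1), (nat_lit 4), (nat_lit 2), (nat_lit 5), (nat_lit 2), (nat_lit 4), (nat_lit 4), (nat_lit 2), (nat_lit 3), (nat_lit 2)], (nat_lit 170))],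
  [([(nat_lit 32)], (nat_lit 97)), ([(nat_lit 10), (nat_lit 10)], (nat_lit 161)), ([(nat_lit 10), (nat_lit 3), (nat_lit 1), (nat_lit 4), (nat_lit 2), (nat_lit 4), (nat_lit 4), (nat_lit 2), (nat_lit 4), (nat_lit 5), (nat_lit 3), (nat_lit 3), (nat_lit 5), (nat_lit 3), (nat_lit 7), (nat_lit 5), (nat_lit 4), (nat_lit 4), (nat_lit 7), (nat_lit 5), (nat_lit 3), (nat_lit 5), (nat_lit 68)], (nat_lit 133)), ([(nat_lit 10), (nat_lit 3), (nat_lit 1), (nat_lit 4), (nat_lit 2), (nat_lit 4), (nat_lit 4), (nat_lit 2), (nat_lit 4), (nat_lit 5), (nat_lit 3), (nat_lit 3), (nat_lit 5), (nat_lit 3), (nat_lit 7), (nat_lit 5), (nat_lit 4), (nat_lit 4), (nat_lit 7), (nat_lit 5), (nat_lit 3), (nat_lit 5), (nat_lit 1), (nat_lit 1), (nat_lit 32)], (nat_lit 97)), ([(nat_lit 10), (nat_lit 3), (nat_lit 1), (nat_lit 4), (nat_lit 2), (nat_lit 4), (nat_lit 4), (nat_lit 2), (nat_lit 4), (nat_lit 5), (nat_lit 3),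 (nat_lit 3), (nat_lit 5), (nat_lit 3), (nat_lit 7), (nat_lit 5), (nat_lit 4), (nat_lit 4), (nat_lit 7), (nat_lit 5), (nat_lit 3), (nat_lit 5), (nat_lit 1), (nat_lit 1), (nat_lit 10), (nat_lit 10)], (nat_lit 161)), ([(nat_lit 10), (nat_lit 3), (nat_lit 1), (nat_lit 4), (nat_lit 2), (nat_lit 4), (nat_lit 4), (nat_lit 2), (nat_lit 4), (nat_lit 5), (nat_lit 3), (nat_lit 3), (nat_lit 5), (nat_lit 3), (nat_lit 7), (nat_lit 5), (nat_lit 4), (nat_lit 4), (nat_lit 7), (nat_lit 5), (nat_lit 3), (nat_lit 5), (nat_lit 1), (nat_lit 1), (nat_lit 10), (nat_lit 1), (nat_lit 4), (nat_lit 4), (nat_lit 2), (nat_lit 5), (nat_lit 3), (nat_lit 6), (nat_lit 3), (nat_lit 2), (nat_lit 6), (nat_lit 6), (nat_lit 7), (nat_lit 5), (nat_lit 1), (nat_lit 5), (nat_lit 2), (nat_lit 5), (nat_lit 4), (nat_lit 8), (nat_lit 66)], (nat_lit 131)), ([(nat_lit 10), (nat_lit 3), (nat_lit 1), (nat_lit 4), (nat_lit 2), (nat_lit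 4), (nat_lit 4), (nat_lit 2), (nat_lit 4), (nat_lit 5), (nat_lit 3), (nat_lit 3), (nat_lit 5), (nat_lit 3), (nat_lit 7), (nat_lit 5), (nat_lit 4), (nat_lit 4), (nat_lit 7), (nat_lit 5), (nat_lit 3), (nat_lit 5), (nat_lit 1), (nat_lit 1), (nat_lit 10), (nat_lit 1), (nat_lit 4), (nat_lit 4), (nat_lit 2), (nat_lit 5), (nat_lit 3), (nat_lit 6), (nat_lit 3), (nat_lit 2), (nat_lit 6), (nat_lit 6), (nat_lit 7), (nat_lit 5), (nat_lit 1), (nat_lit 5), (nat_lit 2), (nat_lit 5), (nat_lit 4), (nat_lit 8), (nat_lit 10), (nat_lit 6), (nat_lit 4), (nat_lit 6), (nat_lit 8), (nat_lit 3), (nat_lit 3), (nat_lit 6), (nat_lit 8), (nat_lit 4), (nat_lit 6), (nat_lit 4), (nat_lit 4), (nat_lit 6), (nat_lit 3), (nat_lit 1), (nat_lit 3), (nat_lit 3), (nat_lit 1), (nat_lit 3), (nat_lit 2), (nat_lit 4), (nat_lit 70)], (nat_lit 135)), ([(nat_lit 10), (nat_lit 3), (nat_lit 1), (nat_lit 4), (nat_lit 2), (nat_lit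 4), (nat_lit 4), (nat_lit 2), (nat_lit 4), (nat_lit 5), (nat_lit 3), (nat_lit 3), (nat_lit 5), (nat_lit 3), (nat_lit 7), (nat_lit 5), (nat_lit 4), (nat_lit 4), (nat_lit 7), (nat_lit 5), (nat_lit 3), (nat_lit 5), (nat_lit 1), (nat_lit 1), (nat_lit 10), (nat_lit 1), (nat_lit 4), (nat_lit 4), (nat_lit 2), (nat_lit 5), (nat_lit 3), (nat_lit 6), (nat_lit 3), (nat_lit 2), (nat_lit 6), (nat_lit 6), (nat_lit 7), (nat_lit 5), (nat_lit 1), (nat_lit 5), (nat_lit 2), (nat_lit 5), (nat_lit 4), (nat_lit 8), (nat_lit 10), (nat_lit 6), (nat_lit 4), (nat_lit 6), (nat_lit 8), (nat_lit 3), (nat_lit 3), (nat_lit 6), (nat_lit 8), (nat_lit 4), (nat_lit 6), (nat_lit 4), (nat_lit 4), (nat_lit 6), (nat_lit 3), (nat_lit 1), (nat_lit 3), (nat_lit 3), (nat_lit 1), (nat_lit 3), (nat_lit 2), (nat_lit 4), (nat_lit 10), (nat_lit 8), (nat_lit 1), (nat_lit 5), (nat_lit 3), (nat_lit 5), (nat_lit 2), (nat_lit 6),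 (nat_lit 8), (nat_lit 1), (nat_lit 4), (nat_lit 2), (nat_lit 5), (nat_lit 2), (nat_lit 4), (nat_lit 4), (nat_lit 2), (nat_lit 3), (nat_lit 2), (nat_lit 76)], (nat_lit 141)), ([(nat_lit 10), (nat_lit 3), (nat_lit 1), (nat_lit 4), (nat_lit 2), (nat_lit 4), (nat_lit 4), (nat_lit 2), (nat_lit 4), (nat_lit 5), (nat_lit 3), (nat_lit 3), (nat_lit 5), (nat_lit 3), (nat_lit 7), (nat_lit 5), (nat_lit 4), (nat_lit 4), (nat_lit 7), (nat_lit 5), (nat_lit 3), (nat_lit 5), (nat_lit 1), (nat_lit 1), (nat_lit 10), (nat_lit 1), (nat_lit 4), (nat_lit 4), (nat_lit 2), (nat_lit 5), (nat_lit 3), (nat_lit 6), (nat_lit 3), (nat_lit 2), (nat_lit 6), (nat_lit 6), (nat_lit 7), (nat_lit 5), (nat_lit 1), (nat_lit 5), (nat_lit 2), (nat_lit 5), (nat_lit 4), (nat_lit 8), (nat_lit 10), (nat_lit 6), (nat_lit 4), (nat_lit 6), (nat_lit 8), (nat_lit 3), (nat_lit 3), (nat_lit 6), (nat_lit 8), (nat_lit 4), (nat_lit 6),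 (nat_lit 4), (nat_lit 4), (nat_lit 6), (nat_lit 3), (nat_lit 1), (nat_lit 3), (nat_lit 3), (nat_lit 1), (nat_lit 3), (nat_lit 2), (nat_lit 4), (nat_lit 10), (nat_lit 8), (nat_lit 1), (nat_lit 5), (nat_lit 3), (nat_lit 5), (nat_lit 2), (nat_lit 6), (nat_lit 8), (nat_lit 1), (nat_lit 4), (nat_lit 2), (nat_lit 5), (nat_lit 2), (nat_lit 4), (nat_lit 4), (nat_lit 2), (nat_lit 3), (nat_lit 2)], (nat_lit 170))],
  [([(nat_lit 3), (nat_lit 7), (nat_lit 9), (nat_lit 3), (nat_lit 3), (nat_lit 2), (nat_lit 4), (nat_lit 2), (nat_lit 3), (nat_lit 3), (nat_lit 6), (nat_lit 1), (nat_lit 5), (nat_lit 2), (nat_lit 6), (nat_lit 7), (nat_lit 6), (nat_lit 3), (nat_lit 3), (nat_lit 2), (nat_lit 5), (nat_lit 3), (nat_lit 9), (nat_lit 2), (nat_lit 2), (nat_lit 8), (nat_lit 4), (nat_lit 9), (nat_lit 2), (nat_lit 2)], (nat_lit 144)), ([(nat_lit 3), (nat_lit 7), (nat_lit 9), (nat_lit 3), (nat_lit 3), (nat_lit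 2), (nat_lit 4), (nat_lit 2), (nat_lit 3), (nat_lit 3), (nat_lit 6), (nat_lit 1), (nat_lit 5), (nat_lit 2), (nat_lit 6), (nat_lit 7), (nat_lit 6), (nat_lit 3), (nat_lit 3), (nat_lit 2), (nat_lit 5), (nat_lit 3), (nat_lit 9), (nat_lit 2), (nat_lit 2), (nat_lit 8), (nat_lit 4), (nat_lit 9), (nat_lit 32)], (nat_lit 97)), ([(nat_lit 3), (nat_lit 7), (nat_lit 9), (nat_lit 3), (nat_lit 3), (nat_lit 2), (nat_lit 4), (nat_lit 2), (nat_lit 3), (nat_lit 3), (nat_lit 6), (nat_lit 1), (nat_lit 5), (nat_lit 2), (nat_lit 6), (nat_lit 7), (nat_lit 6), (nat_lit 3), (nat_lit 3), (nat_lit 2), (nat_lit 5), (nat_lit 3), (nat_lit 9), (nat_lit 2), (nat_lit 2), (nat_lit 8), (nat_lit 4), (nat_lit 10)], (nat_lit 161)), ([(nat_lit 3), (nat_lit 7), (nat_lit 9), (nat_lit 3), (nat_lit 3), (nat_lit 2), (nat_lit 4), (nat_lit 2), (nat_lit 3), (nat_lit 3), (nat_lit 6), (nat_lit 1), (nat_lit 5), (nat_lit 2), (nat_lit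 6), (nat_lit 7), (nat_lit 6), (nat_lit 3), (nat_lit 3), (nat_lit 2), (nat_lit 5), (nat_lit 3), (nat_lit 9), (nat_lit 2), (nat_lit 2)], (nat_lit 112)), ([(nat_lit 3), (nat_lit 7), (nat_lit 9), (nat_lit 3), (nat_lit 3), (nat_lit 2), (nat_lit 4), (nat_lit 2), (nat_lit 3), (nat_lit 3), (nat_lit 6), (nat_lit 1), (nat_lit 5), (nat_lit 2), (nat_lit 6), (nat_lit 7), (nat_lit 6), (nat_lit 3), (nat_lit 3), (nat_lit 2), (nat_lit 5), (nat_lit 3), (nat_lit 9), (nat_lit 32)], (nat_lit 97)), ([(nat_lit 3), (nat_lit 7), (nat_lit 9), (nat_lit 3), (nat_lit 3), (nat_lit 2), (nat_lit 4), (nat_lit 2), (nat_lit 3), (nat_lit 3), (nat_lit 6), (nat_lit 1), (nat_lit 5), (nat_lit 2), (nat_lit 6), (nat_lit 7), (nat_lit 6), (nat_lit 3), (nat_lit 3), (nat_lit 2), (nat_lit 5), (nat_lit 3), (nat_lit 10)], (nat_lit 161)), ([(nat_lit 3), (nat_lit 7), (nat_lit 9)], (nat_lit 104)), ([], (nat_lit 110)), ([(nat_lit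 10)], (nat_lit 171))],
  [([(nat_lit 3), (nat_lit 3), (nat_lit 2), (nat_lit 4), (nat_lit 2), (nat_lit 3), (nat_lit 3), (nat_lit 6), (nat_lit 1), (nat_lit 5), (nat_lit 2), (nat_lit 6), (nat_lit 7), (nat_lit 6), (nat_lit 3), (nat_lit 3), (nat_lit 2), (nat_lit 5), (nat_lit 3), (nat_lit 9), (nat_lit 2), (nat_lit 2), (nat_lit 8), (nat_lit 4), (nat_lit 9), (nat_lit 2), (nat_lit 2)], (nat_lit 144)), ([(nat_lit 3), (nat_lit 3), (nat_lit 2), (nat_lit 4), (nat_lit 2), (nat_lit 3), (nat_lit 3), (nat_lit 6), (nat_lit 1), (nat_lit 5), (nat_lit 2), (nat_lit 6), (nat_lit 7), (nat_lit 6), (nat_lit 3), (nat_lit 3), (nat_lit 2), (nat_lit 5), (nat_lit 3), (nat_lit 9), (nat_lit 2), (nat_lit 2), (nat_lit 8), (nat_lit 4), (nat_lit 9), (nat_lit 32)], (nat_lit 97)), ([(nat_lit 3), (nat_lit 3), (nat_lit 2), (nat_lit 4), (nat_lit 2), (nat_lit 3), (nat_lit 3), (nat_lit 6), (nat_lit 1), (nat_lit 5), (nat_lit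 2), (nat_lit 6), (nat_lit 7), (nat_lit 6), (nat_lit 3), (nat_lit 3), (nat_lit 2), (nat_lit 5), (nat_lit 3), (nat_lit 9), (nat_lit 2), (nat_lit 2), (nat_lit 8), (nat_lit 4), (nat_lit 10)], (nat_lit 161)), ([(nat_lit 3), (nat_lit 3), (nat_lit 2), (nat_lit 4), (nat_lit 2), (nat_lit 3), (nat_lit 3), (nat_lit 6), (nat_lit 1), (nat_lit 5), (nat_lit 2), (nat_lit 6), (nat_lit 7), (nat_lit 6), (nat_lit 3), (nat_lit 3), (nat_lit 2), (nat_lit 5), (nat_lit 3), (nat_lit 9), (nat_lit 2), (nat_lit 2)], (nat_lit 112)), ([(nat_lit 3), (nat_lit 3), (nat_lit 2), (nat_lit 4), (nat_lit 2), (nat_lit 3), (nat_lit 3), (nat_lit 6), (nat_lit 1), (nat_lit 5), (nat_lit 2), (nat_lit 6), (nat_lit 7), (nat_lit 6), (nat_lit 3), (nat_lit 3), (nat_lit 2), (nat_lit 5), (nat_lit 3), (nat_lit 9), (nat_lit 32)], (nat_lit 97)), ([(nat_lit 3), (nat_lit 3), (nat_lit 2), (nat_lit 4), (nat_lit 2), (nat_lit 3), (nat_lit 3),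 (nat_lit 6), (nat_lit 1), (nat_lit 5), (nat_lit 2), (nat_lit 6), (nat_lit 7), (nat_lit 6), (nat_lit 3), (nat_lit 3), (nat_lit 2), (nat_lit 5), (nat_lit 3), (nat_lit 10)], (nat_lit 161)), ([], (nat_lit 104)), ([(nat_lit 10), (nat_lit 8), (nat_lit 4)], (nat_lit 110)), ([(nat_lit 10), (nat_lit 8), (nat_lit 4), (nat_lit 10)], (nat_lit 171))],
  [([(nat_lit 2), (nat_lit 2), (nat_lit 8), (nat_lit 4), (nat_lit 9), (nat_lit 2), (nat_lit 2)], (nat_lit 144)), ([(nat_lit 2), (nat_lit 2), (nat_lit 8), (nat_lit 4), (nat_lit 9), (nat_lit 32)], (nat_lit 97)), ([(nat_lit 2), (nat_lit 2), (nat_lit 8), (nat_lit 4), (nat_lit 10)], (nat_lit 161)), ([(nat_lit 2), (nat_lit 2)], (nat_lit 112)), ([(nat_lit 32)], (nat_lit 97)), ([(nat_lit 10), (nat_lit 10)], (nat_lit 161)), ([(nat_lit 10), (nat_lit 4), (nat_lit 6), (nat_lit 1), (nat_lit 4), (nat_lit 4), (nat_lit 5), (nat_lit 8), (nat_lit 5), (nat_lit 1),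 (nat_lit 6), (nat_lit 2), (nat_lit 5), (nat_lit 4), (nat_lit 4), (nat_lit 1), (nat_lit 3), (nat_lit 1), (nat_lit 4), (nat_lit 4)], (nat_lit 104)), ([(nat_lit 10), (nat_lit 4), (nat_lit 6), (nat_lit 1), (nat_lit 4), (nat_lit 4), (nat_lit 5), (nat_lit 8), (nat_lit 5), (nat_lit 1), (nat_lit 6), (nat_lit 2), (nat_lit 5), (nat_lit 4), (nat_lit 4), (nat_lit 1), (nat_lit 3), (nat_lit 1), (nat_lit 4), (nat_lit 4), (nat_lit 10), (nat_lit 8), (nat_lit 4)], (nat_lit 110)), ([(nat_lit 10), (nat_lit 4), (nat_lit 6), (nat_lit 1), (nat_lit 4), (nat_lit 4), (nat_lit 5), (nat_lit 8), (nat_lit 5), (nat_lit 1), (nat_lit 6), (nat_lit 2), (nat_lit 5), (nat_lit 4), (nat_lit 4), (nat_lit 1), (nat_lit 3), (nat_lit 1), (nat_lit 4), (nat_lit 4), (nat_lit 10), (nat_lit 8), (nat_lit 4), (nat_lit 10)], (nat_lit 171))],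
  [([(nat_lit 2), (nat_lit 2)], (nat_lit 144)), ([(nat_lit 32)], (nat_lit 97)), ([(nat_lit 10), (nat_lit 10)], (nat_lit 161)), ([(nat_lit 10), (nat_lit 3), (nat_lit 7)], (nat_lit 112)), ([(nat_lit 10), (nat_lit 3), (nat_lit 7), (nat_lit 1), (nat_lit 1), (nat_lit 32)], (nat_lit 97)), ([(nat_lit 10), (nat_lit 3), (nat_lit 7), (nat_lit 1), (nat_lit 1), (nat_lit 10), (nat_lit 10)], (nat_lit 161)), ([(nat_lit 10), (nat_lit 3), (nat_lit 7), (nat_lit 1), (nat_lit 1), (nat_lit 10), (nat_lit 4), (nat_lit 6), (nat_lit 1), (nat_lit 4), (nat_lit 4), (nat_lit 5), (nat_lit 8), (nat_lit 5), (nat_lit 1), (nat_lit 6), (nat_lit 2), (nat_lit 5), (nat_lit 4), (nat_lit 4), (nat_lit 1), (nat_lit 3), (nat_lit 1), (nat_lit 4), (nat_lit 4)], (nat_lit 104)), ([(nat_lit 10), (nat_lit 3), (nat_lit 7), (nat_lit 1), (nat_lit 1), (nat_lit 10), (nat_lit 4), (nat_lit 6), (nat_lit 1), (nat_lit 4), (nat_lit 4), (nat_lit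 5), (nat_lit 8), (nat_lit 5), (nat_lit 1), (nat_lit 6), (nat_lit 2), (nat_lit 5), (nat_lit 4), (nat_lit 4), (nat_lit 1), (nat_lit 3), (nat_lit 1), (nat_lit 4), (nat_lit 4), (nat_lit 10), (nat_lit 8), (nat_lit 4)], (nat_lit 110)), ([(nat_lit 10), (nat_lit 3), (nat_lit 7), (nat_lit 1), (nat_lit 1), (nat_lit 10), (nat_lit 4), (nat_lit 6), (nat_lit 1), (nat_lit 4), (nat_lit 4), (nat_lit 5), (nat_lit 8), (nat_lit 5), (nat_lit 1), (nat_lit 6), (nat_lit 2), (nat_lit 5), (nat_lit 4), (nat_lit 4), (nat_lit 1), (nat_lit 3), (nat_lit 1), (nat_lit 4), (nat_lit 4), (nat_lit 10), (nat_lit 8), (nat_lit 4), (nat_lit 10)], (nat_lit 171))],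
  [([(nat_lit 3), (nat_lit 7), (nat_lit 9), (nat_lit 4), (nat_lit 6), (nat_lit 1), (nat_lit 4), (nat_lit 4), (nat_lit 5), (nat_lit 8), (nat_lit 5), (nat_lit 1), (nat_lit 6), (nat_lit 2), (nat_lit 5), (nat_lit 4), (nat_lit 4), (nat_lit 1), (nat_lit 3), (nat_lit 1), (nat_lit 4), (nat_lit 4), (nat_lit 9), (nat_lit 2), (nat_lit 2), (nat_lit 8), (nat_lit 4), (nat_lit 9), (nat_lit 32)], (nat_lit 97)), ([(nat_lit 3), (nat_lit 7), (nat_lit 9), (nat_lit 4), (nat_lit 6), (nat_lit 1), (nat_lit 4), (nat_lit 4), (nat_lit 5), (nat_lit 8), (nat_lit 5), (nat_lit 1), (nat_lit 6), (nat_lit 2), (nat_lit 5), (nat_lit 4), (nat_lit 4), (nat_lit 1), (nat_lit 3), (nat_lit 1), (nat_lit 4), (nat_lit 4), (nat_lit 9), (nat_lit 2), (nat_lit 2), (nat_lit 8), (nat_lit 4), (nat_lit 10)], (nat_lit 161)), ([(nat_lit 3), (nat_lit 7), (nat_lit 9), (nat_lit 4), (nat_lit 6), (nat_lit 1), (nat_lit 4), (nat_lit 4), (nat_lit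 5), (nat_lit 8), (nat_lit 5), (nat_lit 1), (nat_lit 6), (nat_lit 2), (nat_lit 5), (nat_lit 4), (nat_lit 4), (nat_lit 1), (nat_lit 3), (nat_lit 1), (nat_lit 4), (nat_lit 4), (nat_lit 9), (nat_lit 2), (nat_lit 2), (nat_lit 44)], (nat_lit 109)), ([(nat_lit 3), (nat_lit 7), (nat_lit 9), (nat_lit 4), (nat_lit 6), (nat_lit 1), (nat_lit 4), (nat_lit 4), (nat_lit 5), (nat_lit 8), (nat_lit 5), (nat_lit 1), (nat_lit 6), (nat_lit 2), (nat_lit 5), (nat_lit 4), (nat_lit 4), (nat_lit 1), (nat_lit 3), (nat_lit 1), (nat_lit 4), (nat_lit 4), (nat_lit 9), (nat_lit 32)], (nat_lit 97)), ([(nat_lit 3), (nat_lit 7), (nat_lit 9), (nat_lit 4), (nat_lit 6), (nat_lit 1), (nat_lit 4), (nat_lit 4), (nat_lit 5), (nat_lit 8), (nat_lit 5), (nat_lit 1), (nat_lit 6), (nat_lit 2), (nat_lit 5), (nat_lit 4), (nat_lit 4), (nat_lit 1), (nat_lit 3), (nat_lit 1), (nat_lit 4), (nat_lit 4), (nat_lit 10)], (nat_lit 161)),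 ([(nat_lit 3), (nat_lit 7), (nat_lit 9), (nat_lit 38)], (nat_lit 103)), ([(nat_lit 46)], (nat_lit 111)), ([(nat_lit 10), (nat_lit 6), (nat_lit 2), (nat_lit 5), (nat_lit 3), (nat_lit 6), (nat_lit 8), (nat_lit 5), (nat_lit 2), (nat_lit 5), (nat_lit 1), (nat_lit 5), (nat_lit 4), (nat_lit 2), (nat_lit 4), (nat_lit 2), (nat_lit 3), (nat_lit 78)], (nat_lit 143)), ([(nat_lit 10), (nat_lit 6), (nat_lit 2), (nat_lit 5), (nat_lit 3), (nat_lit 6), (nat_lit 8), (nat_lit 5), (nat_lit 2), (nat_lit 5), (nat_lit 1), (nat_lit 5), (nat_lit 4), (nat_lit 2), (nat_lit 4), (nat_lit 2), (nat_lit 3)], (nat_lit 172))],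
  [([(nat_lit 4), (nat_lit 6), (nat_lit 1), (nat_lit 4), (nat_lit 4), (nat_lit 5), (nat_lit 8), (nat_lit 5), (nat_lit 1), (nat_lit 6), (nat_lit 2), (nat_lit 5), (nat_lit 4), (nat_lit 4), (nat_lit 1), (nat_lit 3), (nat_lit 1), (nat_lit 4), (nat_lit 4), (nat_lit 9), (nat_lit 2), (nat_lit 2), (nat_lit 8), (nat_lit 4), (nat_lit 9), (nat_lit 32)], (nat_lit 97)), ([(nat_lit 4), (nat_lit 6), (nat_lit 1), (nat_lit 4), (nat_lit 4), (nat_lit 5), (nat_lit 8), (nat_lit 5), (nat_lit 1), (nat_lit 6), (nat_lit 2), (nat_lit 5), (nat_lit 4), (nat_lit 4), (nat_lit 1), (nat_lit 3), (nat_lit 1), (nat_lit 4), (nat_lit 4), (nat_lit 9), (nat_lit 2), (nat_lit 2), (nat_lit 8), (nat_lit 4), (nat_lit 10)], (nat_lit 161)), ([(nat_lit 4), (nat_lit 6), (nat_lit 1), (nat_lit 4), (nat_lit 4), (nat_lit 5), (nat_lit 8), (nat_lit 5), (nat_lit 1), (nat_lit 6), (nat_lit 2), (nat_lit 5), (nat_lit 4), (nat_lit 4), (nat_lit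 1), (nat_lit 3), (nat_lit 1), (nat_lit 4), (nat_lit 4), (nat_lit 9), (nat_lit 2), (nat_lit 2), (nat_lit 44)], (nat_lit 109)), ([(nat_lit 4), (nat_lit 6), (nat_lit 1), (nat_lit 4), (nat_lit 4), (nat_lit 5), (nat_lit 8), (nat_lit 5), (nat_lit 1), (nat_lit 6), (nat_lit 2), (nat_lit 5), (nat_lit 4), (nat_lit 4), (nat_lit 1), (nat_lit 3), (nat_lit 1), (nat_lit 4), (nat_lit 4), (nat_lit 9), (nat_lit 32)], (nat_lit 97)), ([(nat_lit 4), (nat_lit 6), (nat_lit 1), (nat_lit 4), (nat_lit 4), (nat_lit 5), (nat_lit 8), (nat_lit 5), (nat_lit 1), (nat_lit 6), (nat_lit 2), (nat_lit 5), (nat_lit 4), (nat_lit 4), (nat_lit 1), (nat_lit 3), (nat_lit 1), (nat_lit 4), (nat_lit 4), (nat_lit 10)], (nat_lit 161)), ([(nat_lit 38)], (nat_lit 103)), ([(nat_lit 10), (nat_lit 8), (nat_lit 4), (nat_lit 46)], (nat_lit 111)), ([(nat_lit 10), (nat_lit 8), (nat_lit 4), (nat_lit 10), (nat_lit 6), (nat_lit 2), (nat_lit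 5), (nat_lit 3), (nat_lit 6), (nat_lit 8), (nat_lit 5), (nat_lit 2), (nat_lit 5), (nat_lit 1), (nat_lit 5), (nat_lit 4), (nat_lit 2), (nat_lit 4), (nat_lit 2), (nat_lit 3), (nat_lit 78)], (nat_lit 143)), ([(nat_lit 10), (nat_lit 8), (nat_lit 4), (nat_lit 10), (nat_lit 6), (nat_lit 2), (nat_lit 5), (nat_lit 3), (nat_lit 6), (nat_lit 8), (nat_lit 5), (nat_lit 2), (nat_lit 5), (nat_lit 1), (nat_lit 5), (nat_lit 4), (nat_lit 2), (nat_lit 4), (nat_lit 2), (nat_lit 3)], (nat_lit 172))],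
  [([(nat_lit 2), (nat_lit 2), (nat_lit 8), (nat_lit 4), (nat_lit 9), (nat_lit 32)], (nat_lit 97)), ([(nat_lit 2), (nat_lit 2), (nat_lit 8), (nat_lit 4), (nat_lit 10)], (nat_lit 161)), ([(nat_lit 2), (nat_lit 2), (nat_lit 44)], (nat_lit 109)), ([(nat_lit 32)], (nat_lit 97)), ([(nat_lit 10), (nat_lit 10)], (nat_lit 161)), ([(nat_lit 10), (nat_lit 3), (nat_lit 3), (nat_lit 2), (nat_lit 4), (nat_lit 2), (nat_lit 3), (nat_lit 3), (nat_lit 6), (nat_lit 1), (nat_lit 5), (nat_lit 2), (nat_lit 6), (nat_lit 7), (nat_lit 6), (nat_lit 3), (nat_lit 3), (nat_lit 2), (nat_lit 5), (nat_lit 3), (nat_lit 38)], (nat_lit 103)), ([(nat_lit 10), (nat_lit 3), (nat_lit 3), (nat_lit 2), (nat_lit 4), (nat_lit 2), (nat_lit 3), (nat_lit 3), (nat_lit 6), (nat_lit 1), (nat_lit 5), (nat_lit 2), (nat_lit 6), (nat_lit 7), (nat_lit 6), (nat_lit 3), (nat_lit 3), (nat_lit 2), (nat_lit 5), (nat_lit 3), (nat_lit 10),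 (nat_lit 8), (nat_lit 4), (nat_lit 46)], (nat_lit 111)), ([(nat_lit 10), (nat_lit 3), (nat_lit 3), (nat_lit 2), (nat_lit 4), (nat_lit 2), (nat_lit 3), (nat_lit 3), (nat_lit 6), (nat_lit 1), (nat_lit 5), (nat_lit 2), (nat_lit 6), (nat_lit 7), (nat_lit 6), (nat_lit 3), (nat_lit 3), (nat_lit 2), (nat_lit 5), (nat_lit 3), (nat_lit 10), (nat_lit 8), (nat_lit 4), (nat_lit 10), (nat_lit 6), (nat_lit 2), (nat_lit 5), (nat_lit 3), (nat_lit 6), (nat_lit 8), (nat_lit 5), (nat_lit 2), (nat_lit 5), (nat_lit 1), (nat_lit 5), (nat_lit 4), (nat_lit 2), (nat_lit 4), (nat_lit 2), (nat_lit 3), (nat_lit 78)], (nat_lit 143)), ([(nat_lit 10), (nat_lit 3), (nat_lit 3), (nat_lit 2), (nat_lit 4), (nat_lit 2), (nat_lit 3), (nat_lit 3), (nat_lit 6), (nat_lit 1), (nat_lit 5), (nat_lit 2), (nat_lit 6), (nat_lit 7), (nat_lit 6), (nat_lit 3), (nat_lit 3), (nat_lit 2), (nat_lit 5), (nat_lit 3), (nat_lit 10), (nat_lit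 8), (nat_lit 4), (nat_lit 10), (nat_lit 6), (nat_lit 2), (nat_lit 5), (nat_lit 3), (nat_lit 6), (nat_lit 8), (nat_lit 5), (nat_lit 2), (nat_lit 5), (nat_lit 1), (nat_lit 5), (nat_lit 4), (nat_lit 2), (nat_lit 4), (nat_lit 2), (nat_lit 3)], (nat_lit 172))],
  [([(nat_lit 32)], (nat_lit 97)), ([(nat_lit 10), (nat_lit 10)], (nat_lit 161)), ([(nat_lit 10), (nat_lit 3), (nat_lit 7), (nat_lit 44)], (nat_lit 109)), ([(nat_lit 10), (nat_lit 3), (nat_lit 7), (nat_lit 1), (nat_lit 1), (nat_lit 32)], (nat_lit 97)), ([(nat_lit 10), (nat_lit 3), (nat_lit 7), (nat_lit 1), (nat_lit 1), (nat_lit 10), (nat_lit 10)], (nat_lit 161)), ([(nat_lit 10), (nat_lit 3), (nat_lit 7), (nat_lit 1), (nat_lit 1), (nat_lit 10), (nat_lit 3), (nat_lit 3), (nat_lit 2), (nat_lit 4), (nat_lit 2), (nat_lit 3), (nat_lit 3), (nat_lit 6), (nat_lit 1), (nat_lit 5), (nat_lit 2), (nat_lit 6), (nat_lit 7), (nat_lit 6), (nat_lit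 3), (nat_lit 3), (nat_lit 2), (nat_lit 5), (nat_lit 3), (nat_lit 38)], (nat_lit 103)), ([(nat_lit 10), (nat_lit 3), (nat_lit 7), (nat_lit 1), (nat_lit 1), (nat_lit 10), (nat_lit 3), (nat_lit 3), (nat_lit 2), (nat_lit 4), (nat_lit 2), (nat_lit 3), (nat_lit 3), (nat_lit 6), (nat_lit 1), (nat_lit 5), (nat_lit 2), (nat_lit 6), (nat_lit 7), (nat_lit 6), (nat_lit 3), (nat_lit 3), (nat_lit 2), (nat_lit 5), (nat_lit 3), (nat_lit 10), (nat_lit 8), (nat_lit 4), (nat_lit 46)], (nat_lit 111)), ([(nat_lit 10), (nat_lit 3), (nat_lit 7), (nat_lit 1), (nat_lit 1), (nat_lit 10), (nat_lit 3), (nat_lit 3), (nat_lit 2), (nat_lit 4), (nat_lit 2), (nat_lit 3), (nat_lit 3), (nat_lit 6), (nat_lit 1), (nat_lit 5), (nat_lit 2), (nat_lit 6), (nat_lit 7), (nat_lit 6), (nat_lit 3), (nat_lit 3), (nat_lit 2), (nat_lit 5), (nat_lit 3), (nat_lit 10), (nat_lit 8), (nat_lit 4), (nat_lit 10), (nat_lit 6), (nat_lit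 2), (nat_lit 5), (nat_lit 3), (nat_lit 6), (nat_lit 8), (nat_lit 5), (nat_lit 2), (nat_lit 5), (nat_lit 1), (nat_lit 5), (nat_lit 4), (nat_lit 2), (nat_lit 4), (nat_lit 2), (nat_lit 3), (nat_lit 78)], (nat_lit 143)), ([(nat_lit 10), (nat_lit 3), (nat_lit 7), (nat_lit 1), (nat_lit 1), (nat_lit 10), (nat_lit 3), (nat_lit 3), (nat_lit 2), (nat_lit 4), (nat_lit 2), (nat_lit 3), (nat_lit 3), (nat_lit 6), (nat_lit 1), (nat_lit 5), (nat_lit 2), (nat_lit 6), (nat_lit 7), (nat_lit 6), (nat_lit 3), (nat_lit 3), (nat_lit 2), (nat_lit 5), (nat_lit 3), (nat_lit 10), (nat_lit 8), (nat_lit 4), (nat_lit 10), (nat_lit 6), (nat_lit 2), (nat_lit 5), (nat_lit 3), (nat_lit 6), (nat_lit 8), (nat_lit 5), (nat_lit 2), (nat_lit 5), (nat_lit 1), (nat_lit 5), (nat_lit 4), (nat_lit 2), (nat_lit 4), (nat_lit 2), (nat_lit 3)], (nat_lit 172))]]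
noncomputable def cU : List (List (List Nat × Nat)) := [[([(nat_lit 9), (nat_lit 9), (nat_lit 32)], (nat_lit 97)), ([], (nat_lit 161))]]
noncomputable def U : List Nat := [(nat_lit 1), (nat_lit 1)]
noncomputable def P7 : Par := ⟨(nat_lit 5), (nat_lit 14), (nat_lit 7), (nat_lit 98), (nat_lit 0x3fff000000000000000000000fffc000000000000000000003fff000000000000000000000fffc000000000000000000003fff000000000000000000000fffc000000000000000000003fff), (nat_lit 0x3ffffffffffffffffffffffff), (nat_lit 103), (nat_lit 9), (nat_lit 0x1f007c01f007c01f007c01f007c01f007c01f007c01f007c01f007c01f007c01f007c01f007c01f007c01f007c01f007c01f007c01f007c01f007c01f007c01f007c01f007c01f007c01f007c01f007c01f007c01f), (nat_lit 0x7001c007001c007001c007001c007001c007001c007001c007001c007001c007001c007001c007001c007001c007001c007001c007001c007001c007001c007001c007001c007001c007001c007001c007001c007), (nat_lit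 0x1000000000000000000000000000100000000000000000000000000010000000000000000000000000001000000000000000000000000000100000000000000000000000000010000000000000000000000000001)⟩
noncomputable def L7 : List Nat := [(nat_lit 0x1000000000000000000000000000100000000000000000000000000010000000000000000000000000001000000000000000000000000000100000000000000000000000000010000000000000000000000000001),
  (nat_lit 0x1000c0000000000000000000100040000000000000000000000000003000c002000000000000000008003000400000000000000003000400300000000000000000000000000030010000000000000000000008002),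
  (nat_lit 0x2000400000000000000000000c0030000000000000000000000000003000c002000000000000000008003000400000000000000003000400300000000000000000000000000040008000000000000000000004001),
  (nat_lit 0x1000000000000000000000000400100000000000000000000000000010000000000000000000000004001000000000000000000001000800100000000000000000000000000010000000000000000000000004001),
  (nat_lit 0x1000000000000000000000001000100000000000000000000000000010000000000000000000000010001000000000000000000001000c00100000000000000000000000000010000000000000000000000010001),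
  (nat_lit 0x10000000000000000000000000001000000000000000000003000000100000000000000001000200000010000000000000400040000000001000000000040010004001000000100000040010001000c0020000001),
  (nat_lit 0x1000000000000000000000000000100000000000000000000200000010000000000000000040030000001000000000000010010000000000100000000004001001000400000010000004001000400080030000001),
  (nat_lit 0x4000000000000000000000000000400000000010000000000000000000000000001000000000000000000000000000100000000010000000000000000000000000001000000000000000000),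
  (nat_lit 0x10000000000000000000000000001000000000010000000000000000000000000001000000000000000000000000000100000000004000000000000000000000000000400000000000000000),
  (nat_lit 0x1000000000000000000000000000100000000000000000000000000010000000000000000000000000001000000000000000000000000000100000000000000000000000000010000000000000000000000000001),
  (nat_lit 0x1000000000000000000000000000100000000000000000000000000010000000000000000000000000001000000000000000000000000000100000000000000000000000000010000000000000000000000000001),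
  (nat_lit 0x4000000000000000000000000c0000004000000000000000030004000000000000000000010002000c001000000000000040010000001000000100000010003000400400100000000004000400400080030008004),
  (nat_lit 0x4000000000000000000000000c0000004000000000000000030004000000000000000000010002000c001000000000000040010000001000000100000010003000400400100000000004000400400080030008004),
  (nat_lit 0x1000000000000000000000000000100000000000000000000000000010000000000000000000000000001000000000000000000000000000100000000000000000000000000010000000000000000000000000001),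
  (nat_lit 0x1000000000000000000000000000100000000000000000000000000010000000000000000000000000001000000000000000000000000000100000000000000000000000000010000000000000000000000000001),
  (nat_lit 0x1000000000000000000000000000100000000000000000000000000010000000000000000000000000001000000000000000000000000000100000000000000000000000000010000000000000000000000000001),
  (nat_lit 0x1000000000000000000000000000100000000000000000000000000010000000000000000000000000001000000000000000000000000000100000000000000000000000000010000000000000000000000000001),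
  (nat_lit 0x1000000000000000000000000000100000000000000000000000000010000000000000000000000000001000000000000000000000000000100000000000000000000000000010000000000000000000000000001),
  (nat_lit 0x1000000000000000000000000000100000000000000000000000000010000000000000000000000000001000000000000000000000000000100000000000000000000000000010000000000000000000000000001),
  (nat_lit 0x1000000000000000000000000000100000000000000000000000000010000000000000000000000000001000000000000000000000000000100000000000000000000000000010000000000000000000000000001),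
  (nat_lit 0x1000000000000000000000000000100000000000000000000000000010000000000000000000000000001000000000000000000000000000100000000000000000000000000010000000000000000000000000001),
  (nat_lit 0x10000000000000000000000000001000000000000000000003000000100000000000000001000200000010000000000000400040000000001000000000040010004001000000100000040010001000c0020000001),
  (nat_lit 0x1000000000000000000000000000100000000000000000000200000010000000000000000040030000001000000000000010010000000000100000000004001001000400000010000004001000400080030000001),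
  (nat_lit 0x1000000000000000000000000000100000000000000000000100100010000000000000000000040000001000000000000000000000000000100000000000004000000200100010000000000000000000040000001),
  (nat_lit 0x1000000000000000000000000000100000000000000000000400040010000000000000000000010000001000000000000000000000000000100000000000004000000300040010000000000000000000010000001),
  (nat_lit 0x10000000000000000000000000001000000000000000000003000000100000000000000000c0020000001000000000000010008000000000100000000008001000800100000010000001000c00400040020000001),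
  (nat_lit 0x100000000000000000000000000010000000000000000000020000001000000000000000008003000000100000000000004000c000000000100000000008001000c00400000010000001000c00100100030000001),
  (nat_lit 0x1000000000000000000000000000100000000000000000000300000010000000000000000000020000001000000000000000000000000000100000000000001000000100000010000000000000000000020000001),
  (nat_lit 0x1000000000000000000000000000100000000000000000000200000010000000000000000000030000001000000000000000000000000000100000000000001000000400000010000000000000000000030000001),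
  (nat_lit 0x1000000000000000000000000000100000000000000000000000000010000000000000000000000000001000000000000000000000000000100000000008000000000000000010000000000800000000000000001),
  (nat_lit 0x100000000000000000000000000010000000000000000000000000001000000000000000000000000000100000000000000000000000000010000000000c000000000000000010000000000c00000000000000001)]

end CF.Dce.Ly
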