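import Cfsg.Agent.Comp.Pres
import Cfsg.Agent.Dce.Ly.Rels
import Cfsg.Agent.Dce.Ly.Rels2
import Cfsg.Agent.Dce.Ly.ED

set_option autoImplicit false
set_option maxRecDepth 1000000
set_option maxHeartbeats 0
set_option Elab.async false

namespace CF.Dce.Ly
open CF.Comp

theorem e1_all : Cov e1_F 64 20 0 := by
  have h := Cov.zero e1_F 64
  have h := h.blk (b := 64) e1_k0_0 rfl
  have h := h.next (y := 1) rfl rfl
  have h := h.blk (b := 64) e1_k1_0 rfl
  have h := h.next (y := 2) rfl rfl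
  have h := h.blk (b := 64) e1_k2_0 rfl
  have h := h.next (y := 3) rfl rfl
  have h := h.blk (b := 64) e1_k3_0 rfl
  have h := h.next (y := 4) rfl rfl
  have h := h.blk (b := 64) e1_k4_0 rfl
  have h := h.next (y := 5) rfl rfl
  have h := h.blk (b := 64) e1_k5_0 rfl
  have h := h.next (y := 6) rfl rfl
  have h := h.blk (b := 64) e1_k6_0 rfl
  have h := h.next (y := 7) rfl rfl
  have h := h.blk (b := 64) e1_k7_0 rfl
  have h := h.next (y := 8) rfl rfl
  have h := h.blk (b := 64) e1_k8_0 rfl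
  have h := h.next (y := 9) rfl rfl
  have h := h.blk (b := 64) e1_k9_0 rfl
  have h := h.next (y := 10) rfl rfl
  have h := h.blk (b := 64) e1_k10_0 rfl
  have h := h.next (y := 11) rfl rfl
  have h := h.blk (b := 64) e1_k11_0 rfl
  have h := h.next (y := 12) rfl rfl
  have h := h.blk (b := 64) e1_k12_0 rfl
  have h := h.next (y := 13) rfl rfl
  have h := h.blk (b := 64) e1_k13_0 rfl
  have h := h.next (y := 14) rfl rfl
  have h := h.blk (b := 64) e1_k14_0 rfl
  have h := h.next (y := 15) rfl rfl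
  have h := h.blk (b := 64) e1_k15_0 rfl
  have h := h.next (y := 16) rfl rfl
  have h := h.blk (b := 64) e1_k16_0 rfl
  have h := h.next (y := 17) rfl rfl
  have h := h.blk (b := 64) e1_k17_0 rfl
  have h := h.next (y := 18) rfl rfl
  have h := h.blk (b := 64) e1_k18_0 rfl
  have h := h.next (y := 19) rfl rfl
  have h := h.blk (b := 64) e1_k19_0 rfl
  have h := h.next (y := 20) rfl rfl
  exact h

theorem e1 : Enum R0 H2 K1 3906 :=
  ⟨e1_cols, e1_ch, e1_L, e1_H, e1_pb.1, e1_e.get, [(nat_lit 0), (nat_lit 1), (nat_lit 2), (nat_lit 3), (nat_lit 4), (nat_lit 5), (nat_lit 6), (nat_lit 7), (nat_lit 8), (nat_lit 11), (nat_lit 21), (nat_lit 22), (nat_lit 23), (nat_lit 24), (nat_lit 25), (nat_lit 26), (nat_lit 27), (nat_lit 28), (nat_lit 29), (nat_lit 30)], (nat_lit 32), (nat_lit 39), e1_rots, e1_hcs,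
    (nat_lit 3907), (nat_lit 20), (nat_lit 4096), (nat_lit 512), (nat_lit 2097152), (nat_lit 262143), (nat_lit 8), (nat_lit 255), (nat_lit 30), (nat_lit 1073741823), (nat_lit 16), (nat_lit 64),
    fun _ _ => rfl, fun _ => rfl, fun _ _ => rfl, by decide +kernel, e1_all.1⟩

theorem e2_all : Cov e2_F 52 17 0 := by
  have h := Cov.zero e2_F 52
  have h := h.blk (b := 52) e2_k0_0 rfl
  have h := h.next (y := 1) rfl rfl
  have h := h.blk (b := 52) e2_k1_0 rfl
  have h := h.next (y := 2) rfl rfl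
  have h := h.blk (b := 52) e2_k2_0 rfl
  have h := h.next (y := 3) rfl rfl
  have h := h.blk (b := 52) e2_k3_0 rfl
  have h := h.next (y := 4) rfl rfl
  have h := h.blk (b := 52) e2_k4_0 rfl
  have h := h.next (y := 5) rfl rfl
  have h := h.blk (b := 52) e2_k5_0 rfl
  have h := h.next (y := 6) rfl rfl
  have h := h.blk (b := 52) e2_k6_0 rfl
  have h := h.next (y := 7) rfl rfl
  have h := h.blk (b := 52) e2_k7_0 rfl
  have h := h.next (y := 8) rfl rfl
  have h := h.blk (b := 52) e2_k8_0 rfl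
  have h := h.next (y := 9) rfl rfl
  have h := h.blk (b := 52) e2_k9_0 rfl
  have h := h.next (y := 10) rfl rfl
  have h := h.blk (b := 52) e2_k10_0 rfl
  have h := h.next (y := 11) rfl rfl
  have h := h.blk (b := 52) e2_k11_0 rfl
  have h := h.next (y := 12) rfl rfl
  have h := h.blk (b := 52) e2_k12_0 rfl
  have h := h.next (y := 13) rfl rfl
  have h := h.blk (b := 52) e2_k13_0 rfl
  have h := h.next (y := 14) rfl rfl
  have h := h.blk (b := 52) e2_k14_0 rfl
  have h := h.next (y := 15) rfl rfl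
  have h := h.blk (b := 52) e2_k15_0 rfl
  have h := h.next (y := 16) rfl rfl
  have h := h.blk (b := 52) e2_k16_0 rfl
  have h := h.next (y := 17) rfl rfl
  exact h

theorem e2 : Enum R2 H3 K2 3125 :=
  ⟨e2_cols, e2_ch, e2_L, e2_H, e2_pb.1, e2_e.get, [(nat_lit 0), (nat_lit 1), (nat_lit 2), (nat_lit 3), (nat_lit 4), (nat_lit 5), (nat_lit 6), (nat_lit 21), (nat_lit 22), (nat_lit 23), (nat_lit 24), (nat_lit 25), (nat_lit 26), (nat_lit 27), (nat_lit 28), (nat_lit 29), (nat_lit 30)], (nat_lit 0), (nat_lit 39), e2_rots, e2_hcs,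
    (nat_lit 3126), (nat_lit 17), (nat_lit 4096), (nat_lit 256), (nat_lit 1048576), (nat_lit 262143), (nat_lit 8), (nat_lit 255), (nat_lit 29), (nat_lit 536870911), (nat_lit 13), (nat_lit 52),
    fun _ _ => rfl, fun _ => rfl, fun _ _ => rfl, by decide +kernel, e2_all.1⟩

theorem e3_all : Cov e3_F 8 5 0 := by
  have h := Cov.zero e3_F 8
  have h := h.blk (b := 8) e3_k0_0 rfl
  have h := h.next (y := 1) rfl rfl
  have h := h.blk (b := 8) e3_k1_0 rfl
  have h := h.next (y := 2) rfl rfl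
  have h := h.blk (b := 8) e3_k2_0 rfl
  have h := h.next (y := 3) rfl rfl
  have h := h.blk (b := 8) e3_k3_0 rfl
  have h := h.next (y := 4) rfl rfl
  have h := h.blk (b := 8) e3_k4_0 rfl
  have h := h.next (y := 5) rfl rfl
  exact h

theorem e3 : Enum R3 [] H3 480 :=
  ⟨e3_cols, e3_ch, e3_L, e3_H, e3_pb.1, e3_e.get, [(nat_lit 0), (nat_lit 1), (nat_lit 2), (nat_lit 3), (nat_lit 4)], (nat_lit 0), (nat_lit 39), e3_rots, e3_hcs,
    (nat_lit 481), (nat_lit 5), (nat_lit 512), (nat_lit 32), (nat_lit 16384), (nat_lit 32767), (nat_lit 8), (nat_lit 255), (nat_lit 19), (nat_lit 524287), (nat_lit 2), (nat_lit 8),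
    fun _ _ => rfl, fun _ => rfl, fun _ _ => rfl, by decide +kernel, e3_all.1⟩


end CF.Dce.Ly
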