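import Cfsg.Agent.Dce.Lin
import Cfsg.Agent.Dce.Ly.Mat
import Cfsg.Agent.Dce.Ly.McD

/-! The subgroup `3.McL` permutes 7128 vectors. -/

set_option autoImplicit false
set_option maxRecDepth 1000000
set_option maxHeartbeats 400000
set_option Elab.async false

namespace CF.Dce.Ly
open CF.Comp

theorem allFrom_app {f : ℕ → Bool} {a k c l m : ℕ} (h1 : allFrom f a k = true) (h2 : allFrom f c l = true)
    (hc : c = a + k) (hm : m = k + l) : allFrom f a m = true := by
  subst hc hm
  rw [allFrom_iff] at h1 h2 ⊢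
  intro i hi
  rcases Nat.lt_or_ge i k with h | h
  · exact h1 i h
  · obtain ⟨j, rfl⟩ := Nat.exists_eq_add_of_le h
    exact Nat.add_assoc a k j ▸ h2 j (by omega)

/-- the matrices -/
noncomputable def EM (y : Nat) : Nat := evW P.mul P.one (nth 0 X) (substL HW y)

/-- one coordinate -/
noncomputable abbrev vA : ℕ → ℕ → Bool := vecAt (tabP 5) 7128 111 MV (unpL 22 111 EM 3) M0

theorem v0_0 : allFrom (vA 0) 0 8 = true := by decide +kernel
theorem v0_8 : allFrom (vA 0) 8 8 = true := by decide +kernel
theorem v0_16 : allFrom (vA 0) 16 8 = true := by decide +kernel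
theorem v0_24 : allFrom (vA 0) 24 8 = true := by decide +kernel
theorem v0_32 : allFrom (vA 0) 32 8 = true := by decide +kernel
theorem v0_40 : allFrom (vA 0) 40 8 = true := by decide +kernel
theorem v0_48 : allFrom (vA 0) 48 8 = true := by decide +kernel
theorem v0_56 : allFrom (vA 0) 56 8 = true := by decide +kernel
theorem v0_64 : allFrom (vA 0) 64 8 = true := by decide +kernel
theorem v0_72 : allFrom (vA 0) 72 8 = true := by decide +kernel
theorem v0_80 : allFrom (vA 0) 80 8 = true := by decide +kernel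
theorem v0_88 : allFrom (vA 0) 88 8 = true := by decide +kernel
theorem v0_96 : allFrom (vA 0) 96 8 = true := by decide +kernel
theorem v0_104 : allFrom (vA 0) 104 7 = true := by decide +kernel

theorem vec0 : vecAll (tabP 5) 7128 111 MV (unpL 22 111 EM 3) M0 0 = true :=
  allFrom_app (m := 111) v0_0 (allFrom_app (m := 103) v0_8 (allFrom_app (m := 95) v0_16 (allFrom_app (m := 87) v0_24 (allFrom_app (m := 79) v0_32 (allFrom_app (m := 71) v0_40 (allFrom_app (m := 63) v0_48 (allFrom_app (m := 55) v0_56 (allFrom_app (m := 47) v0_64 (allFrom_app (m := 39) v0_72 (allFrom_app (m := 31) v0_80 (allFrom_app (m := 23) v0_88 (allFrom_app (m := 15) v0_96 (v0_104) rfl rfl) rfl rfl) rfl rfl) rfl rfl) rfl rfl) rfl rfl) rfl rfl) rfl rfl) rfl rfl) rfl rfl) rfl rfl) rfl rfl) rfl rfl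

theorem v1_0 : allFrom (vA 1) 0 8 = true := by decide +kernel
theorem v1_8 : allFrom (vA 1) 8 8 = true := by decide +kernel
theorem v1_16 : allFrom (vA 1) 16 8 = true := by decide +kernel
theorem v1_24 : allFrom (vA 1) 24 8 = true := by decide +kernel
theorem v1_32 : allFrom (vA 1) 32 8 = true := by decide +kernel
theorem v1_40 : allFrom (vA 1) 40 8 = true := by decide +kernel
theorem v1_48 : allFrom (vA 1) 48 8 = true := by decide +kernel
theorem v1_56 : allFrom (vA 1) 56 8 = true := by decide +kernel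
theorem v1_64 : allFrom (vA 1) 64 8 = true := by decide +kernel
theorem v1_72 : allFrom (vA 1) 72 8 = true := by decide +kernel
theorem v1_80 : allFrom (vA 1) 80 8 = true := by decide +kernel
theorem v1_88 : allFrom (vA 1) 88 8 = true := by decide +kernel
theorem v1_96 : allFrom (vA 1) 96 8 = true := by decide +kernel
theorem v1_104 : allFrom (vA 1) 104 7 = true := by decide +kernel

theorem vec1 : vecAll (tabP 5) 7128 111 MV (unpL 22 111 EM 3) M0 1 = true :=
  allFrom_app (m := 111) v1_0 (allFrom_app (m := 103) v1_8 (allFrom_app (m := 95) v1_16 (allFrom_app (m := 87) v1_24 (allFrom_app (m := 79) v1_32 (allFrom_app (m := 71) v1_40 (allFrom_app (m := 63) v1_48 (allFrom_app (m := 55) v1_56 (allFrom_app (m := 47) v1_64 (allFrom_app (m := 39) v1_72 (allFrom_app (m := 31) v1_80 (allFrom_app (m := 23) v1_88 (allFrom_app (m := 15) v1_96 (v1_104) rfl rfl) rfl rfl) rfl rfl) rfl rfl) rfl rfl) rfl rfl) rfl rfl) rfl rfl) rfl rfl) rfl rfl) rfl rfl) rfl rfl) rfl rfl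

theorem v2_0 : allFrom (vA 2) 0 8 = true := by decide +kernel
theorem v2_8 : allFrom (vA 2) 8 8 = true := by decide +kernel
theorem v2_16 : allFrom (vA 2) 16 8 = true := by decide +kernel
theorem v2_24 : allFrom (vA 2) 24 8 = true := by decide +kernel
theorem v2_32 : allFrom (vA 2) 32 8 = true := by decide +kernel
theorem v2_40 : allFrom (vA 2) 40 8 = true := by decide +kernel
theorem v2_48 : allFrom (vA 2) 48 8 = true := by decide +kernel
theorem v2_56 : allFrom (vA 2) 56 8 = true := by decide +kernel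
theorem v2_64 : allFrom (vA 2) 64 8 = true := by decide +kernel
theorem v2_72 : allFrom (vA 2) 72 8 = true := by decide +kernel
theorem v2_80 : allFrom (vA 2) 80 8 = true := by decide +kernel
theorem v2_88 : allFrom (vA 2) 88 8 = true := by decide +kernel
theorem v2_96 : allFrom (vA 2) 96 8 = true := by decide +kernel
theorem v2_104 : allFrom (vA 2) 104 7 = true := by decide +kernel

theorem vec2 : vecAll (tabP 5) 7128 111 MV (unpL 22 111 EM 3) M0 2 = true :=
  allFrom_app (m := 111) v2_0 (allFrom_app (m := 103) v2_8 (allFrom_app (m := 95) v2_16 (allFrom_app (m := 87) v2_24 (allFrom_app (m := 79) v2_32 (allFrom_app (m := 71) v2_40 (allFrom_app (m := 63) v2_48 (allFrom_app (m := 55) v2_56 (allFrom_app (m := 47) v2_64 (allFrom_app (m := 39) v2_72 (allFrom_app (m := 31) v2_80 (allFrom_app (m := 23) v2_88 (allFrom_app (m := 15) v2_96 (v2_104) rfl rfl) rfl rfl) rfl rfl) rfl rfl) rfl rfl) rfl rfl) rfl rfl) rfl rfl) rfl rfl) rfl rfl) rfl rfl) rfl rfl) rfl rfl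

end CF.Dce.Ly
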