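import Cfsg.Agent.Chev.Types
import Cfsg.Agent.Dce.Chev
import Cfsg.Agent.Dce.Ly.G2D
import Cfsg.Agent.Dce.Ly.K

/-! The subgroup generated by `a, b, c, d` is the Chevalley group `G₂(5)`. -/

set_option autoImplicit false
set_option maxRecDepth 1000000
set_option maxHeartbeats 400000
set_option Elab.async false

namespace CF.Dce.Ly
open CF.Comp Cfsg.Lie

theorem M14 : MatM 5 16 14 P14.mul P14.one P14.ok := matM_par (by decide +kernel) (by decide) rfl

theorem let14 : letOK P14.mul P14.one P14.ok (nth 0 L14) 4 = true := by decide +kernel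

theorem equivG2 : Nonempty (K ≃* chevG2.group (ZMod 5)) := by
  obtain ⟨g, h1⟩ := M14.exists_chev (n := 14) (D := chevG2) rfl let14 (c := 4) rfl
    (rs := [[7, 1], [6, 1], [4, 1], [5, 1]]) (by decide +kernel)
  have hr : ∀ r ∈ R0, ev (evs (slp g WG 4) GG) r = 1 := fun r hr => by
    rw [ev_evs, h1]
    exact M14.run_rels (fun _ => M14.isM_evL let14) (fl := 134217727) (rs := lmap (subst GG) R0)
      (by decide +kernel) _ (by rw [lmap_eq]; exact List.mem_map_of_mem hr)
  have := simple_K
  let φ := (Univ.lift hr).comp K.subtype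
  have hc := CF.Chev.cardG2 (ZMod 5) (Nat.card_zmod 5)
  have := Nat.finite_of_card_ne_zero (hc.trans_ne (by decide))
  refine ⟨MulEquiv.ofBijective φ (Function.Injective.bijective_of_nat_card_le
    ((MonoidHom.ker_eq_bot_iff _).1 (φ.normal_ker.eq_bot_or_eq_top.resolve_right fun e => ?_))
      (by rw [hc, card_K]; decide))⟩
  have h4 : Univ.lift hr (ev γ [1]) = 1 :=
    (Subgroup.eq_top_iff' _).1 e ⟨_, ev_mem_clo_of_wordIn (w := [1]) (by decide +kernel)⟩
  rw [Univ.lift_ev, ev_evs, show subst GG [1] = [27] by decide +kernel, h1, ev_cons] at h4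
  exact M14.run_ne (fun _ => M14.isM_evL let14) (fl := 134217727) (ws := WG) (x := 27) (i := 0) (j := 1)
    (by decide +kernel) (by decide) (by decide) (by decide) ((mul_one _).symm.trans h4)

end CF.Dce.Ly
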